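import Cfsg.Agent.Omega.OM.UniPlus
import Cfsg.Agent.Omega.OM.Lev.Uni

/-!
# UNI+ at a level (helper609 #14539 (3), #15330, helper186)

`OM/UniPlus.lean` (sections `frame`, `mtl`) over the frame `FrL B Q V X ZJ L W Z C A q` of `Lev/Uni.lean`:

* `nb`, `nb_of`, `mem_C_iff`, `not_comm`, `perm_comm`, `C_le_of_two_lt`, `mem_C_of`, `card_ZJ`, `caseA`;
* `uniPlusX` : **UNI+** for blocks with `V' ≤ X` : `q' = q`, `Z' = Z i`, `V' ≤ W i ZJ`, `ZJ ∩ C i = C_ZJ(L')`, for `q = 2`: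
  `V' = W i`, `L' ≤ L i C(W i ZJ)`;
* `uniPlus` : the form of `OM/UniPlus.lean`, for blocks with `V' ≤ X` or `[V', V] ≠ 1`; `uniPlus'` : in a group of
  characteristic 2 type with `N_G(B) ≤ N_G(X)`;
* `two'` : **(2')**.
-/

set_option autoImplicit false

namespace Cfsg.Agent.Omega.OM.Lev.UniPlus

open Subgroup Cfsg Cfsg.Agent.PLocal.ThompsonJ Cfsg.Agent.ZN Cfsg.Agent.ZN.ChoiceBase
open Cfsg.Agent.PLocal.ElemAbSup
open Cfsg.Agent.Omega.SQ1.Bau (mem_sup_comm card_sup_comm elem_comm elem_sq)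
open Cfsg.Agent.Omega.OM.BlockUniq
open Cfsg.Agent.Omega.OM.Uni (Md FB)
open Cfsg.Agent.Omega.OM.UniPlus (NB exists_comm_range exists_eq_comm Z_le_zc odd_relIndex exists_fix uni_two)
open Cfsg.Agent.Omega.OM.Lev.Uni (FrL)
open Cfsg.Agent.Omega.OM.WeakCl
open scoped Pointwise commutatorElement

universe u

variable {G : Type u} [Group G]

/-! ### The frame -/

section frame

variable {ι : Type*} {B Q V X ZJ : Subgroup G} {L W Z C A : ι → Subgroup G} {q : ℕ}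
variable {L' V' Z' : Subgroup G} {q' : ℕ}

theorem nb (h : FrL B Q V X ZJ L W Z C A q) (i : ι) : NB B (L i) (W i) (Z i) q := ⟨h.blk i, h.cardZ i⟩

theorem W_le_B (h : FrL B Q V X ZJ L W Z C A q) (i : ι) : W i ≤ B := (h.WV i).trans (h.VQ.trans h.QB)

/-- a block `L'` over `B` with `[V', B] = Z i` is natural. -/
theorem nb_of [Finite G] (h : FrL B Q V X ZJ L W Z C A q) (h' : FB B L' V' Z' q) {i : ι} (hc : ⁅V', B⁆ = Z i) :
    Z' = Z i ∧ NB B L' V' (Z i) q := by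
  have h1 : Z i ≤ Z' := by rw [← hc]; exact h'.comm_le le_rfl
  obtain ⟨k, hk, hs⟩ := h'.sup
  rw [hc] at hs
  have hcjW : cj k (Z i) ≤ V' := by
    rintro _ ⟨z, hz, rfl⟩
    exact h'.nV k hk z (h'.ZV (h1 hz))
  have hcc := card_sup_comm (A := Z i) (B := cj k (Z i)) fun a ha b hb' => h'.comm (h'.ZV (h1 ha)) (hcjW hb')
  rw [card_cj, h.cardZ i] at hcc
  have h2 : Nat.card V' ≤ q * q := by
    refine (Subgroup.card_le_of_le hs).trans ?_
    calc Nat.card ↥(Z i ⊔ cj k (Z i) : Subgroup G) = Nat.card ↥(Z i ⊔ cj k (Z i) : Subgroup G) * 1 := (mul_one _).symm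
      _ ≤ Nat.card ↥(Z i ⊔ cj k (Z i) : Subgroup G) * Nat.card ↥(Z i ⊓ cj k (Z i) : Subgroup G) :=
          Nat.mul_le_mul_left _ Nat.card_pos
      _ = q * q := hcc
  rw [h'.card] at h2
  have h3 : Nat.card Z' ≤ q := Nat.le_of_mul_le_mul_right h2 (by have := h'.one; omega)
  have h4 : Z i = Z' := Subgroup.eq_of_le_of_card_ge h1 (by rw [h.cardZ i]; exact h3)
  refine ⟨h4.symm, ?_⟩
  rw [h4]
  exact ⟨h', by rw [← h4]; exact h.cardZ i⟩

/-- `ZJ ∩ C i = C_{ZJ}(L i)` -/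
theorem mem_C_iff [Finite G] (h : FrL B Q V X ZJ L W Z C A q) {i : ι} {z : G} (hz : z ∈ ZJ) :
    z ∈ C i ↔ ∀ l ∈ L i, l * z = z * l := by
  constructor
  · exact fun hc l hl => h.LC i l hl z hz hc
  · intro hL
    obtain ⟨w, hw, c, hc, hcJ, e⟩ := h.split_ZJ i hz
    have h1 : w = 1 := by
      refine (nb h i).cent hw fun l hl => ?_
      have h2 := hL l hl
      have h3 := h.LC i l hl c hcJ hc
      have e1 : w = z * c⁻¹ := by rw [e]; group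
      have c1 : Commute l z := h2
      have c2 : Commute l c := h3
      rw [e1]
      exact (c1.mul_right c2.inv_right).eq
    rw [e, h1, one_mul]
    exact hc

/-- **UNI+ (A), first step**: a module not commuting with `W i`. -/
theorem not_comm [Finite G] (h : FrL B Q V X ZJ L W Z C A q) (h' : Md B V' Z' q') {i : ι} {w' w : G} (hw' : w' ∈ V')
    (hw : w ∈ W i) (hne : w' * w ≠ w * w') : q' = q ∧ ⁅V', B⁆ = Z i := by
  have hb := h.blk i
  have hWB := W_le_B h i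
  have hn1 : ¬ ∀ u ∈ W i, w' * u = u * w' := fun h1 => hne (h1 w hw)
  have hn2 : ¬ ∀ u ∈ V', w * u = u * w := fun h1 => hne (h1 w' hw').symm
  have hge : Z i ≤ ⁅V', B⁆ := by
    intro z hz
    obtain ⟨v, hv, e⟩ := exists_eq_comm hb.toMd (h.cardZ i) (h'.VB hw') hn1 hz
    rw [e]
    exact commutator_mem_commutator hw' (hWB hv)
  have hle1 : q' ≤ q := by
    obtain ⟨R, -, h2, -, h4⟩ := exists_comm_range h' (hWB hw) hn2
    rw [← h4, ← h.cardZ i]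
    refine Subgroup.card_le_of_le fun r hr => ?_
    obtain ⟨v, hv, rfl⟩ := h2 r hr
    have h5 := hb.com v (h'.VB hv) w hw
    have e : w * v * w⁻¹ * v⁻¹ = (v * w * v⁻¹ * w⁻¹)⁻¹ := by group
    rw [e]
    exact inv_mem h5
  have hcZ : W i ⊓ centralizer (V' : Set G) ≤ Z i := by
    rintro u ⟨hu, huc⟩
    exact hb.mem_Z (h'.VB hw') hn1 hu (mem_centralizer_iff.1 huc w' hw')
  have hcc := Subgroup.card_le_of_le hcZ
  rw [h.cardZ i] at hcc
  have hWc : Nat.card (W i) = q * q := by rw [hb.card, h.cardZ i]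
  have hq0 : 0 < q := by have := hb.one; omega
  have hle2 : q ≤ q' := by
    have h1 := h'.card_le hWB
    rw [hWc] at h1
    exact Nat.le_of_mul_le_mul_right (h1.trans (Nat.mul_le_mul_left _ hcc)) hq0
  have hq : q' = q := le_antisymm hle1 hle2
  refine ⟨hq, le_antisymm ?_ hge⟩
  have h1 := h'.comm_eq hWB (by
    rw [hWc, hq]
    exact Nat.mul_le_mul_left _ hcc)
  rw [← h1, Subgroup.commutator_le]
  intro v hv u hu
  exact hb.com v (h'.VB hv) u hu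

/-- An element permuting the `Z j` with `[ZJ, g] ≤ Z i` centralises `ZJ ∩ C i`. -/
theorem perm_comm [Finite ι] (h : FrL B Q V X ZJ L W Z C A q) {i : ι} {g : G}
    (hp : ∀ j, ∃ k, cj g (Z j) = Z k) (hg : ∀ z ∈ ZJ, g * z * g⁻¹ * z⁻¹ ∈ Z i) :
    ∀ c ∈ ZJ, c ∈ C i → g * c = c * g := by
  classical
  have := Fintype.ofFinite ι
  have hZW : ∀ j, Z j ≤ W j := fun j => (h.blk j).ZV
  have hZC : ∀ {j k : ι}, k ≠ j → Z j ≤ C k := fun hjk => (hZW _).trans (h.WjC _ _ hjk)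
  have hdis : ∀ (j : ι) {x : G}, x ∈ Z j → x ∈ C j → x = 1 := fun j x h1 h2 => by
    have h3 : x ∈ W j ⊓ C j := mem_inf.2 ⟨hZW j h1, h2⟩
    rwa [h.dir j, mem_bot] at h3
  -- `g` commutes with `Z j`, `j ≠ i`
  have hZj : ∀ j, j ≠ i → ∀ z ∈ Z j, g * z = z * g := by
    intro j hj z hz
    obtain ⟨k, hk⟩ := hp j
    have h1 : g * z * g⁻¹ ∈ Z k := by rw [← hk]; exact ⟨z, hz, rfl⟩
    have h2 := hg z (h.Z_le j hz)
    by_cases hkj : k = j
    · subst hkj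
      have h3 : g * z * g⁻¹ * z⁻¹ ∈ Z k := mul_mem h1 (inv_mem hz)
      have h4 := hdis i h2 (hZC hj.symm h3)
      exact mul_inv_eq_iff_eq_mul.1 (mul_inv_eq_one.1 h4)
    · -- `z ∈ Z k * Z i` is in `C j`
      have h3 : z ∈ C j := by
        have e : z = (g * z * g⁻¹ * z⁻¹)⁻¹ * (g * z * g⁻¹) := by group
        rw [e]
        exact mul_mem (inv_mem (hZC hj h2)) (hZC (Ne.symm hkj) h1)
      have h4 : z = 1 := hdis j hz h3
      rw [h4]; simp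
  intro c hcJ hc
  have key : ∀ s : Finset ι, i ∉ s → ∃ u ∈ ZJ, u ∈ C i ∧ g * u = u * g ∧ ∀ j ∈ s, u⁻¹ * c ∈ C j := by
    intro s
    induction s using Finset.induction_on with
    | empty => exact fun _ => ⟨1, one_mem _, one_mem _, by simp, by simp⟩
    | insert j s hj ih =>
      intro his
      have hji : j ≠ i := fun e => his (e ▸ Finset.mem_insert_self _ _)
      obtain ⟨u, hu, hui, hgu, hus⟩ := ih fun h => his (Finset.mem_insert_of_mem h)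
      obtain ⟨w, hw, d, hd, hdJ, e⟩ := h.split_ZJ j (mul_mem (inv_mem hu) hcJ)
      have e1 : (u * w)⁻¹ * c = d := by
        calc (u * w)⁻¹ * c = w⁻¹ * (u⁻¹ * c) := by group
          _ = w⁻¹ * (w * d) := by rw [e]
          _ = d := by group
      have c1 : Commute g u := hgu
      have c2 : Commute g w := hZj j hji w hw
      refine ⟨u * w, mul_mem hu (h.Z_le j hw), mul_mem hui (hZC hji.symm hw), (c1.mul_right c2).eq, fun k hk => ?_⟩
      rcases Finset.mem_insert.1 hk with rfl | hk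
      · rw [e1]; exact hd
      · have hkj : k ≠ j := fun e => hj (e ▸ hk)
        have e2 : (u * w)⁻¹ * c = w⁻¹ * (u⁻¹ * c) := by group
        rw [e2]
        exact mul_mem (inv_mem (hZC hkj hw)) (hus k hk)
  obtain ⟨u, hu, hui, hgu, hus⟩ := key (Finset.univ.erase i) (Finset.notMem_erase _ _)
  have h1 : u⁻¹ * c = 1 := by
    refine h.C0 _ (mul_mem (inv_mem (h.ZJV hu)) (h.ZJV hcJ)) fun j => ?_
    by_cases hj : j = i
    · rw [hj]; exact mul_mem (inv_mem hui) hc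
    · exact hus j (Finset.mem_erase.2 ⟨hj, Finset.mem_univ _⟩)
  rw [← inv_mul_eq_one.1 h1]
  exact hgu

/-- For `q > 2`: `ZJ ∩ C i ≤ C(L')` for every natural block with `Z' = Z i`. -/
theorem C_le_of_two_lt [Finite G] [Finite ι] (h : FrL B Q V X ZJ L W Z C A q) (hB : IsPGroup 2 B) {i : ι}
    (h' : NB B L' V' (Z i) q) (hq : 2 < q)
    (hp : ∀ g ∈ normalizer (B : Set G), ∀ j, ∃ k, cj g (Z j) = Z k) {c : G} (hcJ : c ∈ ZJ) (hc : c ∈ C i) :
    ∀ l ∈ L', l * c = c * l := by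
  have hz : ∀ z ∈ ZJ, ∃ a ∈ Z i, ∃ d, (∀ l ∈ L', l * d = d * l) ∧ z = a * d := by
    intro z hz
    rw [← h.zcB] at hz
    obtain ⟨a, ha, d, -, hd, e⟩ := exists_fix h'.toFB hB hz
    exact ⟨a, ha, d, hd, e⟩
  obtain ⟨a, ha, d, hd, e⟩ := hz c hcJ
  by_cases ha1 : a = 1
  · rw [e, ha1, one_mul]; exact hd
  exfalso
  -- another element
  obtain ⟨a', ha', ha1', hne⟩ : ∃ a' ∈ Z i, a' ≠ 1 ∧ a' ≠ a := by
    by_contra hcon
    push Not at hcon
    have h1 : (Z i : Set G) ⊆ {1, a} := by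
      intro x hx
      by_cases hx1 : x = 1
      · exact Or.inl hx1
      · exact Or.inr (hcon x hx hx1)
    have h2 := Set.ncard_le_ncard h1 (Set.toFinite _)
    have h3 : (Z i : Set G).ncard = Nat.card (Z i) := rfl
    rw [h3, h.cardZ i] at h2
    have h4 := Set.ncard_insert_le (1 : G) {a}
    rw [Set.ncard_singleton] at h4
    omega
  obtain ⟨x, hx, hxB, e2⟩ := h'.tor' ha ha1 ha' ha1'
  have h1 := perm_comm h (g := x) (hp x hxB) (fun z hz0 => by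
    obtain ⟨a₁, ha₁, d₁, hd₁, rfl⟩ := hz z hz0
    have e3 : x * d₁ * x⁻¹ = d₁ := by rw [hd₁ x hx]; group
    have e4 : x * (a₁ * d₁) * x⁻¹ * (a₁ * d₁)⁻¹ = (x * a₁ * x⁻¹) * (x * d₁ * x⁻¹) * d₁⁻¹ * a₁⁻¹ := by group
    rw [e4, e3]
    have e5 : x * a₁ * x⁻¹ * d₁ * d₁⁻¹ * a₁⁻¹ = (x * a₁ * x⁻¹) * a₁⁻¹ := by group
    rw [e5]
    exact mul_mem (h'.nZ hx hxB ha₁) (inv_mem ha₁)) c hcJ hc
  apply hne
  have h2 : x * c * x⁻¹ = c := by rw [h1]; group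
  have h3 : x * d * x⁻¹ = d := by rw [hd x hx]; group
  have h4 : a' * d = a * d := by
    calc a' * d = (x * a * x⁻¹) * (x * d * x⁻¹) := by rw [e2, h3]
      _ = x * (a * d) * x⁻¹ := by group
      _ = x * c * x⁻¹ := by rw [← e]
      _ = a * d := by rw [h2, ← e]
  exact mul_right_cancel h4

/-- the converse inclusion -/
theorem mem_C_of [Finite G] (h : FrL B Q V X ZJ L W Z C A q) {i : ι} (h' : NB B L' V' (Z i) q)
    (hle : ∀ c ∈ ZJ, c ∈ C i → ∀ l ∈ L', l * c = c * l) {z : G} (hz : z ∈ ZJ) (hzL : ∀ l ∈ L', l * z = z * l) :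
    z ∈ C i := by
  obtain ⟨w, hw, c, hc, hcJ, e⟩ := h.split_ZJ i hz
  have h1 : w = 1 := by
    refine h'.cent hw fun l hl => ?_
    have e1 : w = z * c⁻¹ := by rw [e]; group
    have c1 : Commute l z := hzL l hl
    have c2 : Commute l c := hle c hcJ hc l hl
    rw [e1]
    exact (c1.mul_right c2.inv_right).eq
  rw [e, h1, one_mul]
  exact hc

/-- `|ZJ| = q |ZJ ∩ C i|` -/
theorem card_ZJ [Finite G] (h : FrL B Q V X ZJ L W Z C A q) (i : ι) :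
    Nat.card ZJ = q * Nat.card ↥(ZJ ⊓ C i : Subgroup G) := by
  have h1 : ZJ = Z i ⊔ (ZJ ⊓ C i) := by
    apply le_antisymm
    · intro z hz
      obtain ⟨w, hw, c, hc, hcJ, rfl⟩ := h.split_ZJ i hz
      exact mul_mem (mem_sup_left hw) (mem_sup_right ⟨hcJ, hc⟩)
    · exact sup_le (h.Z_le i) inf_le_left
  have h2 := card_sup_comm (A := Z i) (B := ZJ ⊓ C i) fun a ha b hb => h.Vc (h.ZV i ha) (h.CV i hb.2)
  have h3 : Z i ⊓ (ZJ ⊓ C i) = ⊥ := by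
    rw [eq_bot_iff]
    rintro x ⟨hx, -, hx'⟩
    have h4 : x ∈ W i ⊓ C i := mem_inf.2 ⟨(h.blk i).ZV hx, hx'⟩
    rwa [h.dir i] at h4
  rw [← h1, h3, Subgroup.card_bot, mul_one, h.cardZ i] at h2
  exact h2

/-- **UNI+ (A)**: `[V', W i] ≠ 1`, no nontrivial element of `ZJ` is centralised by `L i` and `L'`. Then `q = 2` and
`|ZJ| = 4` (or there is only one block). -/
theorem caseA [Finite G] [Finite ι] (h : FrL B Q V X ZJ L W Z C A q) (hB : IsPGroup 2 B) {i : ι}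
    (h' : NB B L' V' (Z i) q) (hp : ∀ g ∈ normalizer (B : Set G), ∀ j, ∃ k, cj g (Z j) = Z k)
    (hK : ∀ x ∈ ZJ, x ∈ C i → (∀ l ∈ L', l * x = x * l) → x = 1) {j : ι} (hj : j ≠ i) :
    q = 2 ∧ Nat.card ZJ = 4 ∧ ∃ c ∈ ZJ, c ≠ 1 ∧ (∀ l ∈ L', l * c = c * l) ∧ ∀ k, c ∉ C k := by
  have hq2 : q = 2 := by
    by_contra hq
    have hq' : 2 < q := by have := h'.one; omega
    have h1 : Z j ≤ ⊥ := by
      intro z hz
      have hzC : z ∈ C i := h.WjC i j hj.symm ((h.blk j).ZV hz)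
      exact mem_bot.2 (hK z (h.Z_le j hz) hzC (C_le_of_two_lt h hB h' hq' hp (h.Z_le j hz) hzC))
    have h2 := Subgroup.card_le_of_le h1
    rw [Subgroup.card_bot, h.cardZ j] at h2
    omega
  have hz : ∀ z ∈ ZJ, ∃ a ∈ Z i, ∃ d ∈ ZJ, (∀ l ∈ L', l * d = d * l) ∧ z = a * d := by
    intro z hz
    rw [← h.zcB] at hz
    obtain ⟨a, ha, d, hd0, hd, e⟩ := exists_fix h'.toFB hB hz
    rw [h.zcB] at hd0
    exact ⟨a, ha, d, hd0, hd, e⟩
  -- `|ZJ ∩ C i| ≤ 2`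
  have hc2 : Nat.card ↥(ZJ ⊓ C i : Subgroup G) ≤ 2 := by
    have hex : ∀ c : ↥(ZJ ⊓ C i : Subgroup G), ∃ a : Z i, ∀ l ∈ L', l * ((a : G)⁻¹ * c) = (a : G)⁻¹ * c * l := by
      intro c
      obtain ⟨a, ha, d, -, hd, e⟩ := hz c c.2.1
      refine ⟨⟨a, ha⟩, ?_⟩
      have e1 : (a : G)⁻¹ * c = d := by rw [e]; group
      show ∀ l ∈ L', l * (a⁻¹ * (c : G)) = a⁻¹ * c * l
      rw [e1]
      exact hd
    choose f hf using hex
    have hinj : Function.Injective f := by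
      intro c d hcd
      apply Subtype.ext
      have h1 := hf c
      have h2 := hf d
      rw [hcd] at h1
      have h3 : (c : G)⁻¹ * d = 1 := by
        refine hK _ (mul_mem (inv_mem c.2.1) d.2.1) (mul_mem (inv_mem c.2.2) d.2.2) fun l hl => ?_
        have c1 : Commute l ((f d : G)⁻¹ * c) := h1 l hl
        have c2 : Commute l ((f d : G)⁻¹ * d) := h2 l hl
        have e : (c : G)⁻¹ * d = ((f d : G)⁻¹ * c)⁻¹ * ((f d : G)⁻¹ * d) := by group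
        rw [e]
        exact (c1.inv_right.mul_right c2).eq
      exact inv_mul_eq_one.1 h3
    have h1 := Nat.card_le_card_of_injective f hinj
    rw [h.cardZ i] at h1
    omega
  have hcZJ := card_ZJ h i
  have hZjle : Z j ≤ ZJ ⊓ C i := le_inf (h.Z_le j) ((h.blk j).ZV.trans (h.WjC i j hj.symm))
  have h4 : Nat.card ZJ = 4 := by
    have h1 := Subgroup.card_le_of_le hZjle
    rw [h.cardZ j] at h1
    have h2 : Nat.card ↥(ZJ ⊓ C i : Subgroup G) = 2 := by omega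
    rw [hcZJ, h2, hq2]
  refine ⟨hq2, h4, ?_⟩
  -- an element of `ZJ ∩ C i` not centralised by `L'`
  obtain ⟨z, hzj, hz1⟩ : ∃ z ∈ Z j, z ≠ 1 := by
    by_contra hcon
    push Not at hcon
    have h1 : Z j ≤ ⊥ := fun z hz => mem_bot.2 (hcon z hz)
    have h2 := Subgroup.card_le_of_le h1
    rw [Subgroup.card_bot, h.cardZ j] at h2
    omega
  obtain ⟨a, ha, c, hcJ, hcL, e⟩ := hz z (h.Z_le j hzj)
  have hzCi : z ∈ C i := (hZjle hzj).2
  have hc1 : c ≠ 1 := by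
    rintro rfl
    rw [mul_one] at e
    subst e
    have h5 : z ∈ W i ⊓ C i := mem_inf.2 ⟨(h.blk i).ZV ha, hzCi⟩
    rw [h.dir i, mem_bot] at h5
    exact hz1 h5
  refine ⟨c, hcJ, hc1, hcL, fun k hk => ?_⟩
  by_cases hki : k = i
  · subst hki
    exact hc1 (hK c hcJ hk hcL)
  · -- `ZJ ∩ C k = Z i`
    have h5 := card_ZJ h k
    rw [h4, hq2] at h5
    have h6 : Nat.card ↥(ZJ ⊓ C k : Subgroup G) = 2 := by omega
    have h7 : Z i = ZJ ⊓ C k := by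
      refine Subgroup.eq_of_le_of_card_ge (le_inf (h.Z_le i) ((h.blk i).ZV.trans (h.WjC k i hki))) ?_
      rw [h6, h.cardZ i, hq2]
    have h8 : c ∈ Z i := by rw [h7]; exact ⟨hcJ, hk⟩
    exact hc1 (h'.cent h8 hcL)

/-- **UNI+ at a level**, `V' ≤ X`. -/
theorem uniPlusX [Finite G] [Finite ι] (h : FrL B Q V X ZJ L W Z C A q) (hB : IsPGroup 2 B) (hWC : WC B)
    (hp : ∀ g ∈ normalizer (B : Set G), ∀ j, ∃ k, cj g (Z j) = Z k) (h' : FB B L' V' Z' q') (hX : V' ≤ X) :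
    q' = q ∧ ∃ i, Z' = Z i ∧ NB B L' V' (Z i) q ∧ V' ≤ W i ⊔ ZJ ∧
      (∀ z ∈ ZJ, z ∈ C i ↔ ∀ l ∈ L', l * z = z * l) ∧
        (q = 2 → V' = W i ∧ L' ≤ L i ⊔ centralizer ((W i ⊔ ZJ : Subgroup G) : Set G)) := by
  obtain ⟨hq, i, hc, hle⟩ := h.uni h'.toMd hX
  subst hq
  obtain ⟨hZ, hN⟩ := nb_of h h' hc
  refine ⟨rfl, i, hZ, hN, ?_⟩
  have hle' : V' ≤ W i ⊔ zc B := by rw [h.zcB]; exact hle
  by_cases hq2 : q' = 2
  · subst hq2
    obtain ⟨h1, h2, h3⟩ := uni_two hWC hB (nb h i) hN hle'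
    have h4 : ∀ c ∈ ZJ, c ∈ C i → ∀ l ∈ L', l * c = c * l := fun c hc hcC =>
      h2 c (by rw [h.zcB]; exact hc) ((mem_C_iff h hc).1 hcC)
    rw [h.zcB] at h3
    exact ⟨hle, fun z hz => ⟨h4 z hz, mem_C_of h hN h4 hz⟩, fun _ => ⟨h1, h3⟩⟩
  · have hq' : 2 < q' := by have := h'.one; omega
    have h4 : ∀ c ∈ ZJ, c ∈ C i → ∀ l ∈ L', l * c = c * l := fun c hc hcC =>
      C_le_of_two_lt h hB hN hq' hp hc hcC
    exact ⟨hle, fun z hz => ⟨h4 z hz, mem_C_of h hN h4 hz⟩, fun h => absurd h hq2⟩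

/-- **UNI+ at a level**, `V' ≤ X` if `[V', V] = 1`. -/
theorem uniPlus [Finite G] [Finite ι] (h : FrL B Q V X ZJ L W Z C A q) (hB : IsPGroup 2 B) (hWC : WC B)
    (hp : ∀ g ∈ normalizer (B : Set G), ∀ j, ∃ k, cj g (Z j) = Z k) (hn : ∀ i : ι, ∃ j, j ≠ i)
    (h' : FB B L' V' Z' q') (hX : (∀ w ∈ V', ∀ v ∈ V, w * v = v * w) → V' ≤ X)
    (hK : ∀ i, NB B L' V' (Z i) q → (∃ w' ∈ V', ∃ w ∈ W i, w' * w ≠ w * w') → ∀ x ∈ ZJ, x ∈ C i →
      (∀ l ∈ L', l * x = x * l) → x = 1) :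
    q' = q ∧ ∃ i, Z' = Z i ∧ NB B L' V' (Z i) q ∧
      ((V' ≤ W i ⊔ ZJ ∧ (∀ z ∈ ZJ, z ∈ C i ↔ ∀ l ∈ L', l * z = z * l) ∧
          (q = 2 → V' = W i ∧ L' ≤ L i ⊔ centralizer ((W i ⊔ ZJ : Subgroup G) : Set G))) ∨
        (q = 2 ∧ Nat.card ZJ = 4 ∧ (∃ w' ∈ V', ∃ w ∈ W i, w' * w ≠ w * w') ∧
          ∃ c ∈ ZJ, c ≠ 1 ∧ (∀ l ∈ L', l * c = c * l) ∧ ∀ k, c ∉ C k)) := by
  by_cases hA : ∃ i, ∃ w' ∈ V', ∃ w ∈ W i, w' * w ≠ w * w'
  · obtain ⟨i, w', hw', w, hw, hne⟩ := hA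
    obtain ⟨hq, hc⟩ := not_comm h h'.toMd hw' hw hne
    subst hq
    obtain ⟨hZ, hN⟩ := nb_of h h' hc
    obtain ⟨j, hj⟩ := hn i
    obtain ⟨h1, h2, h3⟩ := caseA h hB hN hp (hK i hN ⟨w', hw', w, hw, hne⟩) hj
    exact ⟨rfl, i, hZ, hN, Or.inr ⟨h1, h2, ⟨w', hw', w, hw, hne⟩, h3⟩⟩
  · push Not at hA
    have hcV : ∀ w ∈ V', ∀ v ∈ V, w * v = v * w := by
      intro w hw v hv
      rw [h.V_eq] at hv
      have h1 : (⨆ i, W i) ≤ centralizer ({w} : Set G) := iSup_le fun i u hu =>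
        mem_centralizer_singleton_iff.2 (hA i w hw u hu).symm
      exact (mem_centralizer_singleton_iff.1 (h1 hv)).symm
    obtain ⟨hq, i, hZ, hN, h1, h2, h3⟩ := uniPlusX h hB hWC hp h' (hX hcV)
    exact ⟨hq, i, hZ, hN, Or.inl ⟨h1, h2, h3⟩⟩

end frame

/-- **UNI+ at a level** in a group of characteristic 2 type. -/
theorem uniPlus' {G : Type u} [Group G] [Finite G] {ι : Type*} [Finite ι] {B Q V X ZJ : Subgroup G}
    {L W Z C A : ι → Subgroup G} {q : ℕ} {L' V' Z' : Subgroup G} {q' : ℕ} (hG : IsCharacteristicTwoType G)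
    (h : FrL B Q V X ZJ L W Z C A q) (hB : IsPGroup 2 B) (hWC : WC B)
    (hBX : normalizer (B : Set G) ≤ normalizer (X : Set G)) (hn : ∀ i : ι, ∃ j, j ≠ i)
    (h' : FB B L' V' Z' q') (hX : (∀ w ∈ V', ∀ v ∈ V, w * v = v * w) → V' ≤ X) :
    q' = q ∧ ∃ i, Z' = Z i ∧ NB B L' V' (Z i) q ∧
      ((V' ≤ W i ⊔ ZJ ∧ (∀ z ∈ ZJ, z ∈ C i ↔ ∀ l ∈ L', l * z = z * l) ∧
          (q = 2 → V' = W i ∧ L' ≤ L i ⊔ centralizer ((W i ⊔ ZJ : Subgroup G) : Set G))) ∨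
        (q = 2 ∧ Nat.card ZJ = 4 ∧ (∃ w' ∈ V', ∃ w ∈ W i, w' * w ≠ w * w') ∧
          ∃ c ∈ ZJ, c ≠ 1 ∧ (∀ l ∈ L', l * c = c * l) ∧ ∀ k, c ∉ C k)) := by
  refine uniPlus h hB hWC (fun g hg j => ?_) hn h' hX fun i hN hne x hx hxC hxL => ?_
  · obtain ⟨k, hk, -⟩ := (h.norm_of hg (hBX hg)).2 j
    exact ⟨k, hk⟩
  · by_contra hx1
    obtain ⟨w', hw', w, hw, hne⟩ := hne
    exact hne (NB.commute_of_fix hG hWC hB hN (nb h i) (elem_sq h.el x (h.ZJV hx)) hx1 hxL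
      ((mem_C_iff h hx).1 hxC) w' hw' w hw)

/-! ### (2') -/

section mtl

variable {ι : Type*} {B Q V X ZJ : Subgroup G} {L W Z C A : ι → Subgroup G} {q : ℕ}

/-- **(2')**: no noncommuting pair `W i`, `(W j)^g` with `W i ≤ B^g`, `(W j)^g ≤ B`. -/
theorem two' [Finite G] (h : FrL B Q V X ZJ L W Z C A q) [Nonempty ι]
    (hW : ∀ i, V ≤ o2 (normalizer (Z i : Set G)) ∧ o2 (normalizer (Z i : Set G)) ≤ B)
    (hno : ∀ g : G, cj g V ≤ normalizer (V : Set G) → V ≤ normalizer ((cj g V : Subgroup G) : Set G) →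
      ∀ w ∈ cj g V, ∀ v ∈ V, w * v = v * w)
    {g : G} {i j : ι} (h1 : cj g (W j) ≤ B) (h2 : W i ≤ cj g B) :
    ∀ w' ∈ cj g (W j), ∀ w ∈ W i, w' * w = w * w' := by
  by_contra hcon
  push Not at hcon
  obtain ⟨w', hw', w, hw, hne⟩ := hcon
  have hBV : B ≤ normalizer (V : Set G) := by
    obtain ⟨i⟩ := ‹Nonempty ι›
    intro b hb
    have h3 := h.LV i b ((h.blk i).BL hb)
    have h4 := h.LV i b⁻¹ ((h.blk i).BL (inv_mem hb))
    rw [mem_normalizer_iff]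
    intro v
    refine ⟨h3 v, fun hv => ?_⟩
    have h5 := h4 _ hv
    have e : b⁻¹ * (b * v * b⁻¹) * b⁻¹⁻¹ = v := by group
    rwa [e] at h5
  -- `Z i ≤ (Z j)^g`
  have hZ : Z i = cj g (Z j) := by
    refine Subgroup.eq_of_le_of_card_ge ?_ (by rw [card_cj, h.cardZ, h.cardZ])
    intro z hz
    obtain ⟨v, hv, e⟩ := exists_eq_comm (h.blk i).toMd (h.cardZ i) (h1 hw') (fun h3 => hne (h3 w hw)) hz
    have h3 := ((h.blk j).toMd.conj g).com v (h2 hv) w' hw'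
    rw [e]
    have e2 : w' * v * w'⁻¹ * v⁻¹ = (v * w' * v⁻¹ * w'⁻¹)⁻¹ := by group
    rw [e2]
    exact inv_mem h3
  have ho : cj g (o2 (normalizer (Z j : Set G))) = o2 (normalizer (Z i : Set G)) := by
    rw [← pCore_cj, cj_normalizer, ← hZ]
  have h3 : cj g V ≤ B := by
    refine le_trans (cj_mono g (hW j).1) ?_
    rw [ho]
    exact (hW i).2
  have h4 : V ≤ cj g B := by
    refine (hW i).1.trans ?_
    rw [← ho]
    exact cj_mono g (hW j).2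
  have h5 := hno g (h3.trans hBV) (by
    refine h4.trans ?_
    have := cj_mono g hBV
    rwa [cj_normalizer] at this) w' (cj_mono g (h.WV j) hw') w (h.WV i hw)
  exact hne h5

end mtl

end Cfsg.Agent.Omega.OM.Lev.UniPlus
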