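import Cfsg.Agent.Omega.OM.WeakCl
import Cfsg.Agent.Omega.OM.WOneG
import Cfsg.Agent.Omega.NO3S.Level.Lim
import Cfsg.Agent.SporRec.MaxFix

/-!
# `B = C_S(Z_J)` is weakly closed, for `Z_J = Ω₁(Z(K))`, `K` weakly closed in `S`

* `wc_cent` : `K ≤ B = C_S(ZJ)`, `K` weakly closed in `S`, `N_G(K) ≤ N_G(ZJ)` implies `WC B`;
* `wc_of_norm` : `N_G(T) ≤ N_G(K)` for all `K ≤ T ≤ S` implies that `K` is weakly closed in `S`; `wc_Lev`;
* `wc_lev` : `B = C_S(Ω₁(Z(lev S n)))` is weakly closed; `norm_lev` : `N_G(B) ≤ N_G(lev S n)`.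
-/

set_option autoImplicit false
set_option linter.unusedSectionVars false

namespace Cfsg.Agent.Omega.OM.Lev.Wc

open Subgroup Cfsg Cfsg.Agent.ZN.ChoiceBase
open Cfsg.Agent.ZN (zc)
open Cfsg.Agent.Omega.NO3S.Level (lev lev_isLev lev_wc nxt)

universe u

variable {G : Type u} [Group G] [Finite G]

theorem wc_cent (S : Sylow 2 G) {K B ZJ : Subgroup G} (hK : NO3b.Wc.WC (S : Subgroup G) K) (hKB : K ≤ B)
    (eqB : B = (S : Subgroup G) ⊓ centralizer (ZJ : Set G))
    (hN : normalizer (K : Set G) ≤ normalizer (ZJ : Set G)) : WeakCl.WC B := by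
  intro T hT hBT g hg
  obtain ⟨S', hS'⟩ := hT.exists_le_sylow
  obtain ⟨x, hx⟩ := MulAction.exists_smul_eq G S S'
  have hx2 : (S' : Subgroup G) = cj x (S : Subgroup G) := by
    rw [← hx, Sylow.coe_subgroup_smul]
    rfl
  have hTx : T ≤ cj x (S : Subgroup G) := hS'.trans hx2.le
  -- `x ∈ N(K)`
  have h1 : cj x⁻¹ K ≤ (S : Subgroup G) := by
    have := cj_mono x⁻¹ ((hKB.trans hBT).trans hTx)
    rwa [cj_inv_cj] at this
  have h2 := hK.eq x⁻¹ h1
  have hxK : cj x K = K := by
    have := congrArg (cj x) h2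
    rw [cj_cj_inv] at this
    exact this.symm
  -- `g ∈ N(K)`
  have h3 : cj (x⁻¹ * g) K ≤ (S : Subgroup G) := by
    have := cj_mono x⁻¹ (((cj_mono g hKB).trans hg).trans hTx)
    rw [cj_inv_cj, cj_cj] at this
    exact this
  have h4 := hK.eq _ h3
  have hgK : cj g K = K := by
    have := congrArg (cj x) h4
    rw [cj_cj, mul_inv_cancel_left, hxK] at this
    exact this
  have hxZ : cj x ZJ = ZJ := cj_eq_of_mem_normalizer (hN (mem_normalizer_iff_cj.2 hxK))
  have hgZ : cj g ZJ = ZJ := cj_eq_of_mem_normalizer (hN (mem_normalizer_iff_cj.2 hgK))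
  have hBx : cj x B = cj x (S : Subgroup G) ⊓ centralizer (ZJ : Set G) := by
    conv_lhs => rw [eqB]
    rw [cj_inf, cj_centralizer, hxZ]
  have hBC : B ≤ centralizer (ZJ : Set G) := eqB.le.trans inf_le_right
  have h5 : cj g B ≤ cj x B := by
    rw [hBx]
    refine le_inf (hg.trans hTx) ?_
    have := cj_mono g hBC
    rwa [cj_centralizer, hgZ] at this
  have h6 : B ≤ cj x B := by
    rw [hBx]
    exact le_inf (hBT.trans hTx) hBC
  have h7 : cj g B = cj x B := Subgroup.eq_of_le_of_card_ge h5 (by rw [card_cj, card_cj])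
  have h8 : B = cj x B := Subgroup.eq_of_le_of_card_ge h6 (by rw [card_cj])
  rw [h7, ← h8]

variable (S : Sylow 2 G)

theorem S_norm {n : ℕ} : (S : Subgroup G) ≤ normalizer ((zc (lev (S : Subgroup G) n) : Subgroup G) : Set G) :=
  (le_normalizer.trans ((lev_isLev (S : Subgroup G) n).norm _ (lev_isLev (S : Subgroup G) n).le le_rfl)).trans
    (NO3S.Level.normalizer_le_zc _)

theorem lev_le_B {n : ℕ} : lev (S : Subgroup G) n ≤
    (S : Subgroup G) ⊓ centralizer ((zc (lev (S : Subgroup G) n) : Subgroup G) : Set G) :=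
  le_inf (lev_isLev (S : Subgroup G) n).le (NO3S.Level.le_centralizer_zc _)

/-- **`B = C_S(Ω₁(Z(lev S n)))` is weakly closed.** -/
theorem wc_lev (n : ℕ) {B : Subgroup G}
    (eqB : B = (S : Subgroup G) ⊓ centralizer ((zc (lev (S : Subgroup G) n) : Subgroup G) : Set G)) :
    WeakCl.WC B :=
  wc_cent S (lev_wc n) (eqB ▸ lev_le_B S) eqB (NO3S.Level.normalizer_le_zc _)

/-- `N_G(B) ≤ N_G(lev S m)` for `m ≤ n`. -/
theorem norm_lev {m n : ℕ} (hmn : m ≤ n) {B : Subgroup G}
    (eqB : B = (S : Subgroup G) ⊓ centralizer ((zc (lev (S : Subgroup G) n) : Subgroup G) : Set G)) :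
    normalizer (B : Set G) ≤ normalizer (lev (S : Subgroup G) m : Set G) :=
  (lev_isLev (S : Subgroup G) m).norm _
    ((NO3S.Level.lev_mono _ hmn).trans (eqB ▸ lev_le_B S)) (eqB ▸ inf_le_left)

/-! ### `K` with `Lev S K` -/

variable {S}

theorem mem_norm_of {K : Subgroup G} (hKS : K ≤ (S : Subgroup G))
    (hn : ∀ T : Subgroup G, K ≤ T → T ≤ (S : Subgroup G) → normalizer (T : Set G) ≤ normalizer (K : Set G)) :
    ∀ (n : ℕ) (g : G), K ≤ cj g (S : Subgroup G) →
      Nat.card (S : Subgroup G) - Nat.card ↥((S : Subgroup G) ⊓ cj g (S : Subgroup G)) ≤ n →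
        g ∈ normalizer (K : Set G) := by
  have : Fact (Nat.Prime 2) := ⟨Nat.prime_two⟩
  intro n
  induction n with
  | zero =>
    intro g _ hcard
    have h1 : (S : Subgroup G) ⊓ cj g (S : Subgroup G) = (S : Subgroup G) :=
      Subgroup.eq_of_le_of_card_ge inf_le_left (by omega)
    have h2 : (S : Subgroup G) = cj g (S : Subgroup G) :=
      Subgroup.eq_of_le_of_card_ge (inf_eq_left.1 h1) (by rw [card_cj])
    exact hn _ hKS le_rfl (mem_normalizer_iff_cj.2 h2.symm)
  | succ n ih =>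
    intro g hKg hcard
    by_cases hn' : Nat.card (S : Subgroup G) - Nat.card ↥((S : Subgroup G) ⊓ cj g (S : Subgroup G)) ≤ n
    · exact ih g hKg hn'
    set T : Subgroup G := (S : Subgroup G) ⊓ cj g (S : Subgroup G) with hT
    have hlt : Nat.card T < Nat.card (S : Subgroup G) := by omega
    have hKT : K ≤ T := le_inf hKS hKg
    have hTS : T < (S : Subgroup G) := lt_of_le_of_ne inf_le_left fun h => by rw [h] at hlt; omega
    have hTS' : T < cj g (S : Subgroup G) :=
      lt_of_le_of_ne inf_le_right fun h => by rw [h, card_cj] at hlt; omega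
    have hNK : normalizer (T : Set G) ≤ normalizer (K : Set G) := hn T hKT hTS.le
    set R1 : Subgroup G := (S : Subgroup G) ⊓ normalizer (T : Set G) with hR1
    set R2 : Subgroup G := cj g (S : Subgroup G) ⊓ normalizer (T : Set G) with hR2
    have h1 : T < R1 := SporRec.MaxFix.lt_inf_normalizer S.isPGroup' hTS
    have h2 : T < R2 := SporRec.MaxFix.lt_inf_normalizer (isPGroup_cj g S.isPGroup') hTS'
    obtain ⟨U, hU, hRU⟩ := ZN.ChoiceSit.exists_syl (S.isPGroup'.to_le (inf_le_left : R1 ≤ (S : Subgroup G)))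
      (inf_le_right : R1 ≤ normalizer (T : Set G))
    obtain ⟨U', hU', hRU'⟩ := ZN.ChoiceSit.exists_syl ((isPGroup_cj g S.isPGroup').to_le
      (inf_le_left : R2 ≤ cj g (S : Subgroup G))) (inf_le_right : R2 ≤ normalizer (T : Set G))
    obtain ⟨m, hm, hmU⟩ := ZN.ChoiceSit.syl_conj hU hU'
    have hmK : m ∈ normalizer (K : Set G) := hNK hm
    obtain ⟨S', hS'⟩ := hU.2.1.exists_le_sylow
    obtain ⟨x, hx⟩ := MulAction.exists_smul_eq G S S'
    have hx2 : (S' : Subgroup G) = cj x (S : Subgroup G) := by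
      rw [← hx, Sylow.coe_subgroup_smul]
      rfl
    have hUx : U ≤ cj x (S : Subgroup G) := hS'.trans hx2.le
    -- `x ∈ N(K)`
    have hxK : x ∈ normalizer (K : Set G) := by
      refine ih x ((hKT.trans h1.le).trans (hRU.trans hUx)) ?_
      have h3 : Nat.card R1 ≤ Nat.card ↥((S : Subgroup G) ⊓ cj x (S : Subgroup G)) :=
        Subgroup.card_le_of_le (le_inf inf_le_left (hRU.trans hUx))
      have h5 : Nat.card T < Nat.card R1 := by
        rcases lt_or_eq_of_le (Subgroup.card_le_of_le h1.le) with h | h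
        · exact h
        · exact absurd (Subgroup.eq_of_le_of_card_ge h1.le h.ge) h1.ne
      omega
    -- `y = (m x)⁻¹ g ∈ N(K)`
    have hmx : m * x ∈ normalizer (K : Set G) := mul_mem hmK hxK
    have hmx' := cj_eq_of_mem_normalizer (inv_mem hmx)
    have hU'x : U' ≤ cj (m * x) (S : Subgroup G) := by
      rw [← hmU, ← cj_cj]
      exact cj_mono m hUx
    have hy : (m * x)⁻¹ * g ∈ normalizer (K : Set G) := by
      refine ih _ ?_ ?_
      · rw [← cj_cj, ← hmx']
        exact cj_mono _ hKg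
      · have h3 : cj (m * x)⁻¹ R2 ≤ (S : Subgroup G) ⊓ cj ((m * x)⁻¹ * g) (S : Subgroup G) := by
          refine le_inf ?_ ?_
          · have := cj_mono (m * x)⁻¹ (hRU'.trans hU'x)
            rwa [cj_inv_cj] at this
          · rw [← cj_cj]
            exact cj_mono _ inf_le_left
        have h4 := Subgroup.card_le_of_le h3
        rw [card_cj] at h4
        have h5 : Nat.card T < Nat.card R2 := by
          rcases lt_or_eq_of_le (Subgroup.card_le_of_le h2.le) with h | h
          · exact h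
          · exact absurd (Subgroup.eq_of_le_of_card_ge h2.le h.ge) h2.ne
        omega
    have := mul_mem hmx hy
    rwa [mul_inv_cancel_left] at this

/-- `N_G(T) ≤ N_G(K)` for all `K ≤ T ≤ S`: `K` is weakly closed in `S`. -/
theorem wc_of_norm {K : Subgroup G} (hKS : K ≤ (S : Subgroup G))
    (hn : ∀ T : Subgroup G, K ≤ T → T ≤ (S : Subgroup G) → normalizer (T : Set G) ≤ normalizer (K : Set G)) :
    NO3b.Wc.WC (S : Subgroup G) K where
  le := hKS
  eq := fun g hg => by
    have h1 : K ≤ cj g⁻¹ (S : Subgroup G) := by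
      have := cj_mono g⁻¹ hg
      rwa [cj_inv_cj] at this
    have h2 := mem_norm_of hKS hn _ g⁻¹ h1 le_rfl
    have h3 := inv_mem h2
    rw [inv_inv] at h3
    exact cj_eq_of_mem_normalizer h3

theorem wc_Lev {K : Subgroup G} (hL : NO3S.Level.Lev (S : Subgroup G) K) : NO3b.Wc.WC (S : Subgroup G) K :=
  wc_of_norm hL.le hL.norm

/-- **`B = C_S(Ω₁(Z(K)))` is weakly closed**, `Lev S K`. -/
theorem wc_cent_Lev {K B : Subgroup G} (hL : NO3S.Level.Lev (S : Subgroup G) K)
    (eqB : B = (S : Subgroup G) ⊓ centralizer ((zc K : Subgroup G) : Set G)) : WeakCl.WC B :=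
  wc_cent S (wc_Lev hL) (eqB ▸ le_inf hL.le (NO3S.Level.le_centralizer_zc K)) eqB
    (NO3S.Level.normalizer_le_zc _)

theorem S_norm_Lev {K : Subgroup G} (hL : NO3S.Level.Lev (S : Subgroup G) K) :
    (S : Subgroup G) ≤ normalizer ((zc K : Subgroup G) : Set G) :=
  (le_normalizer.trans (hL.norm _ hL.le le_rfl)).trans (NO3S.Level.normalizer_le_zc _)

/-- `N_G(B) ≤ N_G(K)` for `B = C_S(Ω₁(Z(nxt S K)))`. -/
theorem norm_B_Lev {K B : Subgroup G} (hL : NO3S.Level.Lev (S : Subgroup G) K)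
    (eqB : B = (S : Subgroup G) ⊓ centralizer ((zc (nxt (S : Subgroup G) K) : Subgroup G) : Set G)) :
    normalizer (B : Set G) ≤ normalizer (K : Set G) :=
  hL.norm _ (eqB ▸ (NO3S.Level.le_nxt hL.le).trans
    (le_inf (NO3S.Level.nxt_le _ _) (NO3S.Level.le_centralizer_zc _))) (eqB ▸ inf_le_left)

end Cfsg.Agent.Omega.OM.Lev.Wc
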