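import Cfsg.Agent.Omega.OM.PB
import Cfsg.Agent.Omega.OM.NX
import Cfsg.Agent.Omega.NO3S.OneLine.LevNat

/-!
# Blocks over `B` from coordinates, the module an extension of a trivial by a natural module

* `NXD F B X N D` : the group `X ≥ B` acts on `N ≤ B`, trivially on `D ≤ N`, on `N / D` as a subgroup of `SL₂(F)`; `B` is a
  Sylow 2-subgroup of `X` and induces the group of upper unitriangular matrices, `[Ω₁Z(B), X] ≤ N`;
* `NXD.exists_pb` : a minimal `L`, `B ≤ L ≤ X`, moving the line gives `PB B L N N₁ D |F|`;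
* `NXI F B ZJ Y N D g` : the same input over the pair `(B, ZJ)`, with one element `g` such that `[ZJ, g] ≤ N`;
  `NXI.nxd` : then `X = ⟨B, B^g⟩` is as above; `NXI.exists_pb`.
-/

set_option autoImplicit false

namespace Cfsg.Agent.Omega.OM.BIn

open Subgroup Cfsg Cfsg.Agent.PLocal.ThompsonJ Cfsg.Agent.ZN Cfsg.Agent.ZN.ChoiceBase
open Cfsg.Agent.ZN.ChoiceSit
open Cfsg.Agent.PLocal.ElemAbSup
open Cfsg.Agent.Omega.SQ1.Bau (mem_sup_comm card_sup_comm elem_comm elem_sq Mv)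
open Cfsg.Agent.Omega.NatPair (ap ap_zero' ap_one' ap_one ap_mul ext2 ap_inv_ap)
open Cfsg.Agent.Lib.SL2Mat
open Cfsg.Agent.Omega.SQ1.FFOne (syl_inf mem_norm_of)
open Cfsg.Agent.Omega.NO3S.OneLine (card_of_hom)
open scoped Pointwise commutatorElement

universe u

variable {G : Type u} [Group G]

/-- `X ≥ B` acts on `N / D` as a subgroup of `SL₂(F)`, `B` as the group of upper unitriangular matrices. -/
structure NXD (F : Type*) [Field F] (B X N D : Subgroup G) where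
  π : G → Fin 2 → F
  mul : ∀ v ∈ N, ∀ w ∈ N, π (v * w) = π v + π w
  ker : ∀ v ∈ N, π v = 0 ↔ v ∈ D
  DN : D ≤ N
  surj : ∀ x, ∃ v ∈ N, π v = x
  el : IsElementaryAbelian 2 N
  NB : N ≤ B
  B2 : IsPGroup 2 B
  BX : B ≤ X
  nN : ∀ l ∈ X, ∀ v ∈ N, l * v * l⁻¹ ∈ N
  cD : ∀ l ∈ X, ∀ d ∈ D, l * d = d * l
  acts : ∀ l ∈ X, ∃ A : Matrix.SpecialLinearGroup (Fin 2) F, ∀ v ∈ N, π (l * v * l⁻¹) = ap A (π v)
  triv : ∀ l ∈ X, (∀ v ∈ N, π (l * v * l⁻¹) = π v) → ∀ v ∈ N, l * v = v * l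
  up : ∀ b ∈ B, ∃ c : F, ∀ v ∈ N, π (b * v * b⁻¹) = ap (up c) (π v)
  upc : ∀ c : F, ∃ b ∈ B, ∀ v ∈ N, π (b * v * b⁻¹) = ap (Lib.SL2Mat.up c) (π v)
  N1c : ∀ b ∈ B, ∀ v ∈ N, π v 1 = 0 → b * v = v * b
  mv : ∃ l ∈ X, ∃ v ∈ N, π v 1 = 0 ∧ π (l * v * l⁻¹) 1 ≠ 0
  syl : ∀ T : Subgroup G, B ≤ T → T ≤ X → IsPGroup 2 T → T = B
  act : ∀ l ∈ X, ∀ z ∈ zc B, l * z * l⁻¹ * z⁻¹ ∈ N

namespace NXD

variable {F : Type*} [Field F] {B X N D : Subgroup G} (M : NXD F B X N D)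

/-- `g` acts as `A`. -/
def Acts (g : G) (A : Matrix.SpecialLinearGroup (Fin 2) F) : Prop := ∀ v ∈ N, M.π (g * v * g⁻¹) = ap A (M.π v)

theorem map_one : M.π 1 = 0 := by
  have := M.mul 1 (one_mem N) 1 (one_mem N)
  rw [one_mul] at this
  exact left_eq_add.1 this

theorem map_inv {v : G} (hv : v ∈ N) : M.π v⁻¹ = - M.π v := by
  have := M.mul v hv v⁻¹ (inv_mem hv)
  rw [mul_inv_cancel, M.map_one] at this
  exact (neg_eq_of_add_eq_zero_right this.symm).symm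

theorem map_div {v w : G} (hv : v ∈ N) (hw : w ∈ N) : M.π (v * w⁻¹) = M.π v - M.π w := by
  rw [M.mul v hv _ (inv_mem hw), M.map_inv hw, sub_eq_add_neg]

variable {M}

theorem Acts.mul {g h : G} (hh : h ∈ X) {A A' : Matrix.SpecialLinearGroup (Fin 2) F} (hA : M.Acts g A)
    (hB : M.Acts h A') : M.Acts (g * h) (A * A') := by
  intro v hv
  have e : g * h * v * (g * h)⁻¹ = g * (h * v * h⁻¹) * g⁻¹ := by group
  rw [e, hA _ (M.nN h hh v hv), hB v hv, ap_mul]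

theorem Acts.inv {g : G} (hg : g ∈ X) {A : Matrix.SpecialLinearGroup (Fin 2) F} (hA : M.Acts g A) :
    M.Acts g⁻¹ A⁻¹ := by
  intro v hv
  have h1 := hA _ (M.nN g⁻¹ (inv_mem hg) v hv)
  have e : g * (g⁻¹ * v * g⁻¹⁻¹) * g⁻¹ = v := by group
  rw [e] at h1
  rw [h1, ap_inv_ap]

theorem Acts.cent {g : G} (hg : g ∈ X) (hA : M.Acts g 1) {v : G} (hv : v ∈ N) : g * v = v * g :=
  M.triv g hg (fun w hw => by rw [hA w hw, ap_one]) v hv

theorem acts_of_cent {g : G} (h : ∀ v ∈ N, g * v = v * g) : M.Acts g 1 := by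
  intro v hv
  rw [h v hv, mul_inv_cancel_right, ap_one]

variable (M)

/-- the line `N₁ = {v ∈ N | π v 1 = 0}`. -/
def Zs : Subgroup G where
  carrier := {v | v ∈ N ∧ M.π v 1 = 0}
  mul_mem' := by
    rintro a b ⟨ha, ha'⟩ ⟨hb, hb'⟩
    exact ⟨mul_mem ha hb, by rw [M.mul a ha b hb, Pi.add_apply, ha', hb', add_zero]⟩
  one_mem' := ⟨one_mem _, by rw [M.map_one]; rfl⟩
  inv_mem' := by
    rintro a ⟨ha, ha'⟩
    exact ⟨inv_mem ha, by rw [M.map_inv ha, Pi.neg_apply, ha', neg_zero]⟩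

theorem mem_Zs {v : G} : v ∈ M.Zs ↔ v ∈ N ∧ M.π v 1 = 0 := Iff.rfl

theorem D_le_Zs : D ≤ M.Zs := fun d hd => ⟨M.DN hd, by rw [(M.ker d (M.DN hd)).2 hd]; rfl⟩

theorem card_N : Nat.card N = Nat.card M.Zs * Nat.card F :=
  card_of_hom (fun _ hv => hv.1) (fun v => M.π v 1) (fun v hv w hw => by rw [M.mul v hv w hw]; rfl)
    (fun c => by
      obtain ⟨v, hv, e⟩ := M.surj ![0, c]
      exact ⟨v, hv, by rw [e]; rfl⟩)
    fun v hv => ⟨fun h => ⟨hv, h⟩, fun h => h.2⟩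

theorem card_Zs : Nat.card M.Zs = Nat.card D * Nat.card F :=
  card_of_hom M.D_le_Zs (fun v => M.π v 0) (fun v hv w hw => by rw [M.mul v hv.1 w hw.1]; rfl)
    (fun c => by
      obtain ⟨v, hv, e⟩ := M.surj ![c, 0]
      exact ⟨v, ⟨hv, by rw [e]; rfl⟩, by rw [e]; rfl⟩)
    fun v hv => ⟨fun h => (M.ker v hv.1).1 (ext2 h hv.2), fun h => by rw [(M.ker v hv.1).2 h]; rfl⟩

theorem mv_iff {l : G} (hl : l ∈ X) {A : Matrix.SpecialLinearGroup (Fin 2) F} (hA : M.Acts l A) :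
    Mv M.Zs l ↔ ent A 1 0 ≠ 0 := by
  constructor
  · rintro ⟨v, hv, h⟩ h0
    refine h ⟨M.nN l hl v hv.1, ?_⟩
    rw [hA v hv.1, ap_one', h0, hv.2]; simp
  · intro h0
    obtain ⟨v, hv, e⟩ := M.surj ![1, 0]
    refine ⟨v, ⟨hv, by rw [e]; rfl⟩, fun h => h0 ?_⟩
    have h1 := h.2
    rw [hA v hv, ap_one', e] at h1
    simpa using h1

/-- **Minimal blocks.** -/
theorem exists_pb [Finite G] [Finite F] [CharP F 2] :
    ∃ L, B ≤ L ∧ L ≤ X ∧ PB B L N M.Zs D (Nat.card F) ∧ (∀ A, ∃ l ∈ L, M.Acts l A) := by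
  classical
  set S : Set (Subgroup G) := {Y | B ≤ Y ∧ Y ≤ X ∧ ∃ l ∈ Y, Mv M.Zs l} with hS
  have hXS : X ∈ S := by
    obtain ⟨l, hl, v, hv, h1, h2⟩ := M.mv
    exact ⟨M.BX, le_rfl, l, hl, v, ⟨hv, h1⟩, fun h => h2 h.2⟩
  obtain ⟨L, hL⟩ : ∃ L, Minimal (· ∈ S) L := by
    obtain ⟨L, -, h⟩ := (Set.toFinite S).exists_le_minimal hXS
    exact ⟨L, h⟩
  obtain ⟨hBL, hLX, hmvL⟩ := hL.prop
  have hmin : ∀ Y : Subgroup G, B ≤ Y → Y ≤ L → (∃ l ∈ Y, Mv M.Zs l) → Y = L := fun Y h1 h2 h3 =>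
    le_antisymm h2 (hL.le_of_le ⟨h1, h2.trans hLX, h3⟩ h2)
  have hsylL : Syl B L := ⟨hBL, M.B2, fun T hT h2 hBT => M.syl T hBT (hT.trans hLX) h2⟩
  -- the matrices
  have hcov : ∀ A, ∃ l ∈ L, M.Acts l A := by
    obtain ⟨x, hx, hxm⟩ := hmvL
    obtain ⟨A₀, hA₀⟩ := M.acts x (hLX hx)
    have hc := (M.mv_iff (hLX hx) hA₀).1 hxm
    have hup : ∀ c : F, ∃ y ∈ L, M.Acts y (Lib.SL2Mat.up c) := by
      intro c
      obtain ⟨b, hb, hbc⟩ := M.upc c
      exact ⟨b, hBL hb, hbc⟩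
    have hmul : ∀ A A', (∃ y ∈ L, M.Acts y A) → (∃ y ∈ L, M.Acts y A') → ∃ y ∈ L, M.Acts y (A * A') := by
      rintro A A' ⟨y, hy, hyA⟩ ⟨y', hy', hyA'⟩
      exact ⟨y * y', mul_mem hy hy', Acts.mul (M := M) (hLX hy') hyA hyA'⟩
    have hinv : ∀ A, (∃ y ∈ L, M.Acts y A) → ∃ y ∈ L, M.Acts y A⁻¹ := by
      rintro A ⟨y, hy, hyA⟩
      exact ⟨y⁻¹, inv_mem hy, Acts.inv (M := M) (hLX hy) hyA⟩
    have hx1 : ∃ y ∈ L, M.Acts y A₀ := ⟨x, hx, hA₀⟩
    have hlo0 : ∃ y ∈ L, M.Acts y (lo (ent A₀ 1 0)) := by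
      obtain ⟨a, d, h1⟩ : ∃ a d : F, A₀ = Lib.SL2Mat.up a * lo (ent A₀ 1 0) * Lib.SL2Mat.up d :=
        ⟨_, _, eq_up_lo_up A₀ hc⟩
      have h2 : (Lib.SL2Mat.up a)⁻¹ * A₀ * (Lib.SL2Mat.up d)⁻¹ = lo (ent A₀ 1 0) := by
        rw [mul_inv_eq_iff_eq_mul, inv_mul_eq_iff_eq_mul, ← mul_assoc]
        exact h1
      rw [← h2]
      exact hmul _ _ (hmul _ _ (hinv _ (hup _)) hx1) (hinv _ (hup _))
    have hc' : -(ent A₀ 1 0)⁻¹ ≠ 0 := neg_ne_zero.2 (inv_ne_zero hc)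
    have hwm : ∃ y ∈ L, M.Acts y (wm (-(ent A₀ 1 0)⁻¹) hc') := by
      rw [wm_eq]
      have e : -(-(ent A₀ 1 0)⁻¹)⁻¹ = ent A₀ 1 0 := by rw [inv_neg, neg_neg, inv_inv]
      rw [e]
      exact hmul _ _ (hmul _ _ hlo0 (hup _)) hlo0
    have hlo : ∀ c : F, ∃ y ∈ L, M.Acts y (lo c) := by
      intro c
      have h1 := wm_up (-(ent A₀ 1 0)⁻¹) (-(c * (-(ent A₀ 1 0)⁻¹) ^ 2)) hc'
      have e : -(-(c * (-(ent A₀ 1 0)⁻¹) ^ 2) / (-(ent A₀ 1 0)⁻¹) ^ 2) = c := by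
        field_simp
      rw [e] at h1
      have h2 : lo c = wm (-(ent A₀ 1 0)⁻¹) hc' * Lib.SL2Mat.up (-(c * (-(ent A₀ 1 0)⁻¹) ^ 2)) *
          (wm (-(ent A₀ 1 0)⁻¹) hc')⁻¹ := by rw [h1, mul_inv_cancel_right]
      rw [h2]
      exact hmul _ _ (hmul _ _ hwm (hup _)) (hinv _ hwm)
    intro A
    obtain ⟨a, b, c, d, rfl⟩ := exists_up_lo A
    exact hmul _ _ (hmul _ _ (hmul _ _ (hup a) (hlo b)) (hup c)) (hlo d)
  -- the kernel
  set K : Subgroup G := L ⊓ centralizer (N : Set G) with hK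
  have hKn : ∀ l ∈ L, ∀ n ∈ K, l * n * l⁻¹ ∈ K := by
    intro l hl n hn
    obtain ⟨hn1, hn2⟩ := mem_inf.1 hn
    refine mem_inf.2 ⟨mul_mem (mul_mem hl hn1) (inv_mem hl), mem_centralizer_iff.2 fun v hv => ?_⟩
    have hv' : l⁻¹ * v * l ∈ N := by
      have := M.nN l⁻¹ (inv_mem (hLX hl)) v hv
      rwa [inv_inv] at this
    have h1 := mem_centralizer_iff.1 hn2 _ hv'
    have h2 := congrArg (fun t => l * t * l⁻¹) h1
    simpa [mul_assoc] using h2
  have hKact : ∀ k ∈ K, M.Acts k 1 := fun k hk => acts_of_cent fun v hv =>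
    (mem_centralizer_iff.1 (mem_inf.1 hk).2 v hv).symm
  have hKmv : ∀ k ∈ K, ∀ l ∈ L, Mv M.Zs l → Mv M.Zs (k * l) := by
    intro k hk l hl hm
    obtain ⟨A, hA⟩ := M.acts l (hLX hl)
    have h3 := Acts.mul (M := M) (hLX hl) (hKact k hk) hA
    rw [one_mul] at h3
    exact (M.mv_iff (hLX (mul_mem (mem_inf.1 hk).1 hl)) h3).2 ((M.mv_iff (hLX hl) hA).1 hm)
  -- `cor`
  have hcor : ∀ l ∈ L, ∀ x ∈ B, (∀ v ∈ N, x * v = v * x) → l * x * l⁻¹ ∈ B := by
    have hD := syl_inf hsylL (inf_le_left : K ≤ L) hKn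
    have h1 : L ⊓ normalizer ((B ⊓ K : Subgroup G) : Set G) = L := by
      refine hmin _ (le_inf hBL fun b hb => ?_) inf_le_left ?_
      · refine mem_norm_of fun k hk => ?_
        obtain ⟨hk1, hk2⟩ := mem_inf.1 hk
        exact mem_inf.2 ⟨mul_mem (mul_mem hb hk1) (inv_mem hb), hKn b (hBL hb) k hk2⟩
      · obtain ⟨l, hl, hlm⟩ := hmvL
        have h2 : Syl (cj l (B ⊓ K)) K := by
          refine ⟨?_, isPGroup_cj l hD.2.1, fun R hR h2 hle => ?_⟩
          · rintro _ ⟨x, hx, rfl⟩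
            exact hKn l hl x (mem_inf.1 hx).2
          · have h3 : cj l⁻¹ R ≤ K := by
              rintro _ ⟨r, hr, rfl⟩
              exact hKn l⁻¹ (inv_mem hl) r (hR hr)
            have h4 := hD.2.2 _ h3 (isPGroup_cj _ h2) (cj_le_iff.1 hle)
            rw [← h4, cj_cj_inv]
        obtain ⟨k, hk, e⟩ := syl_conj h2 hD
        rw [cj_cj] at e
        exact ⟨k * l, mem_inf.2 ⟨mul_mem (mem_inf.1 hk).1 hl, mem_normalizer_iff_cj.2 e⟩, hKmv k hk l hl hlm⟩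
    intro l hl x hx hxc
    have h2 : l ∈ L ⊓ normalizer ((B ⊓ K : Subgroup G) : Set G) := by rw [h1]; exact hl
    have h3 : x ∈ B ⊓ K := mem_inf.2 ⟨hx, mem_inf.2 ⟨hBL hx, mem_centralizer_iff.2 fun v hv => (hxc v hv).symm⟩⟩
    exact (mem_inf.1 ((mem_normalizer_iff.1 (mem_inf.1 h2).2 x).1 h3)).1
  refine ⟨L, hBL, hLX, ?_, hcov⟩
  have hq : 1 < Nat.card F := Finite.one_lt_card
  exact
    { Bp := M.B2
      BL := hBL
      el := M.el
      NB := M.NB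
      Nn := fun l hl v hv => M.nN l (hLX hl) v hv
      N1N := fun v hv => hv.1
      N1c := fun b hb v hv => M.N1c b hb v hv.1 hv.2
      N01 := M.D_le_Zs
      N0c := fun l hl d hd => M.cD l (hLX hl) d hd
      card := M.card_N
      card1 := M.card_Zs
      opp := by
        intro l hl hm v hv hlv
        obtain ⟨A, hA⟩ := M.acts l (hLX hl)
        have h0 := (M.mv_iff (hLX hl) hA).1 hm
        have h1 := hlv.2
        rw [hA v hv.1, ap_one', hv.2, mul_zero, add_zero] at h1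
        have h2 := (mul_eq_zero.1 h1).resolve_left h0
        have h3 : v ∈ D := (M.ker v hv.1).1 (ext2 h2 hv.2)
        rw [M.cD l (hLX hl) v h3, mul_inv_cancel_right]
        exact h3
      quad := by
        intro b hb v hv
        obtain ⟨c, hc⟩ := M.up b hb
        have h1 := M.nN b (M.BX hb) v hv
        refine ⟨mul_mem h1 (inv_mem hv), ?_⟩
        rw [M.map_div h1 hv, hc v hv, Pi.sub_apply, ap_one']
        simp
      cent := by
        rintro b hb ⟨w, hw, hne⟩ v hv hvD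
        obtain ⟨c, hc⟩ := M.up b hb
        have h1 := M.nN b (M.BX hb) v hv
        have h2 := (M.ker _ (M.DN hvD)).2 hvD
        rw [M.map_div h1 hv, hc v hv] at h2
        have h3 := congrFun h2 0
        rw [Pi.sub_apply, ap_zero'] at h3
        simp only [up_00, up_01, one_mul, add_sub_cancel_left, Pi.zero_apply, mul_eq_zero] at h3
        refine ⟨hv, h3.resolve_left fun hc0 => hne ?_⟩
        subst hc0
        refine Acts.cent (M := M) (M.BX hb) (fun u hu => ?_) hw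
        rw [hc u hu, up_zero]
      cardB := by
        choose f hf using M.up
        have hf' : ∀ b (hb : b ∈ B), M.Acts b (Lib.SL2Mat.up (f b hb)) := fun b hb => hf b hb
        let f' : G → F := fun b => if h : b ∈ B then f b h else 0
        have hf'' : ∀ b ∈ B, M.Acts b (Lib.SL2Mat.up (f' b)) := by
          intro b hb
          have : f' b = f b hb := dif_pos hb
          rw [this]
          exact hf' b hb
        have huniq : ∀ b ∈ B, ∀ c, M.Acts b (Lib.SL2Mat.up c) → f' b = c := by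
          intro b hb c hc
          obtain ⟨v, hv, e⟩ := M.surj ![0, 1]
          have h1 := hf'' b hb v hv
          rw [hc v hv, e] at h1
          have h2 := congrFun h1 0
          rw [ap_zero', ap_zero'] at h2
          simpa using h2.symm
        refine card_of_hom inf_le_left f' ?_ ?_ ?_
        · intro v hv w hw
          refine huniq _ (mul_mem hv hw) _ ?_
          have h1 := Acts.mul (M := M) (M.BX hw) (hf'' v hv) (hf'' w hw)
          rwa [up_mul] at h1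
        · intro c
          obtain ⟨b, hb, hc⟩ := M.upc c
          exact ⟨b, hb, huniq b hb c hc⟩
        · intro b hb
          constructor
          · intro h0
            refine mem_inf.2 ⟨hb, mem_centralizer_iff.2 fun v hv => ?_⟩
            refine (Acts.cent (M := M) (M.BX hb) ?_ hv).symm
            have h1 := hf'' b hb
            rwa [h0, up_zero] at h1
          · intro h0
            refine huniq b hb 0 ?_
            rw [up_zero]
            exact acts_of_cent fun v hv => (mem_centralizer_iff.1 (mem_inf.1 h0).2 v hv).symm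
      one := hq
      mv := hmvL
      gen := by
        intro l hl hm X' hBX' hX'
        obtain ⟨A, hA⟩ := M.acts l (hLX hl)
        have h0 := (M.mv_iff (hLX hl) hA).1 hm
        obtain ⟨b, hb, hbc⟩ := M.upc 1
        have h1 : X' ⊓ L = L := by
          refine hmin _ (le_inf hBX' hBL) inf_le_right
            ⟨l * b * l⁻¹, mem_inf.2 ⟨hX' b hb, mul_mem (mul_mem hl (hBL hb)) (inv_mem hl)⟩, ?_⟩
          have h2 := Acts.mul (M := M) (inv_mem (hLX hl)) (Acts.mul (M := M) (M.BX hb) hA hbc)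
            (Acts.inv (M := M) (hLX hl) hA)
          rw [M.mv_iff (hLX (mul_mem (mul_mem hl (hBL hb)) (inv_mem hl))) h2]
          have e : ent (A * Lib.SL2Mat.up 1 * A⁻¹) 1 0 = -(ent A 1 0) ^ 2 := by
            rw [ent_mul, ent_mul, ent_mul, up_00, up_01, up_10, up_11, ent_inv A, mk_00, mk_10]
            ring
          rw [e]
          exact neg_ne_zero.2 (pow_ne_zero 2 h0)
        exact h1.ge.trans inf_le_left
      act := fun l hl z hz => M.act l (hLX hl) z hz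
      cor := hcor
      syl := fun T h1 h2 h3 => M.syl T h1 (h2.trans hLX) h3
      tor := by
        intro z hz hzc z' hz' hzc'
        have hne : ∀ {y}, y ∈ M.Zs → y ∉ D → M.π y 0 ≠ 0 := fun {y} hy hyc h0 =>
          hyc ((M.ker y hy.1).1 (ext2 h0 hy.2))
        have h0 := hne hz hzc
        have h0' := hne hz' hzc'
        set t : F := M.π z' 0 / M.π z 0 with ht
        have ht0 : t ≠ 0 := div_ne_zero h0' h0
        obtain ⟨l, hl, hlA⟩ := hcov (dg t ht0)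
        -- the group `B K`
        have hBK : B ⊔ K ≤ L := sup_le hBL inf_le_left
        have hmemR : ∀ x ∈ B ⊔ K, ∃ c : F, M.Acts x (Lib.SL2Mat.up c) := by
          intro x hx
          obtain ⟨b, hb, k, hk, rfl⟩ := SQ1.Bau.mem_sup_norm (A := B) (B := K) (fun b hb =>
            mem_norm_of fun k hk => hKn b (hBL hb) k hk) hx
          obtain ⟨c, hc⟩ := M.up b hb
          have h1 := Acts.mul (M := M) (hLX (mem_inf.1 hk).1) hc (hKact k hk)
          rw [mul_one] at h1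
          exact ⟨c, h1⟩
        have hofR : ∀ x ∈ L, ∀ c : F, M.Acts x (Lib.SL2Mat.up c) → x ∈ B ⊔ K := by
          intro x hx c hc
          obtain ⟨b, hb, hbc⟩ := M.upc c
          have h1 : b⁻¹ * x ∈ K := by
            refine mem_inf.2 ⟨mul_mem (inv_mem (hBL hb)) hx, mem_centralizer_iff.2 fun v hv => ?_⟩
            refine (Acts.cent (M := M) (hLX (mul_mem (inv_mem (hBL hb)) hx)) ?_ hv).symm
            have h2 := Acts.mul (M := M) (hLX hx) (Acts.inv (M := M) (M.BX hb) hbc) hc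
            rwa [inv_mul_cancel] at h2
          have e : x = b * (b⁻¹ * x) := by group
          rw [e]
          exact mul_mem (mem_sup_left hb) (mem_sup_right h1)
        have hS1 : Syl B (B ⊔ K) := ⟨le_sup_left, M.B2, fun T hT h2 hBT => M.syl T hBT (hT.trans (hBK.trans hLX)) h2⟩
        have hS2 : Syl (cj l B) (B ⊔ K) := by
          refine ⟨?_, isPGroup_cj l M.B2, fun T hT h2 hle => ?_⟩
          · rintro _ ⟨b, hb, rfl⟩
            obtain ⟨c, hc⟩ := M.up b hb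
            refine hofR _ (mul_mem (mul_mem hl (hBL hb)) (inv_mem hl)) (t ^ 2 * c) ?_
            have h2 := Acts.mul (M := M) (inv_mem (hLX hl)) (Acts.mul (M := M) (M.BX hb) hlA hc)
              (Acts.inv (M := M) (hLX hl) hlA)
            rw [dg_up, mul_inv_cancel_right] at h2
            exact h2
          · have h3 : cj l⁻¹ T ≤ X := by
              rintro _ ⟨r, hr, rfl⟩
              exact mul_mem (mul_mem (inv_mem (hLX hl)) (hLX (hBK (hT hr)))) (inv_mem (inv_mem (hLX hl)))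
            have h4 := M.syl _ (cj_le_iff.1 hle) h3 (isPGroup_cj _ h2)
            rw [← h4, cj_cj_inv]
        obtain ⟨x, hx, e⟩ := syl_conj hS2 hS1
        rw [cj_cj] at e
        obtain ⟨c, hc⟩ := hmemR x hx
        have hxL := hBK hx
        refine ⟨x * l, mul_mem hxL hl, mem_normalizer_iff_cj.2 e, ?_⟩
        have h1 := Acts.mul (M := M) (hLX hl) hc hlA
        have h3 := M.nN _ (hLX (mul_mem hxL hl)) z hz.1
        refine (M.ker _ (mul_mem h3 (inv_mem hz'.1))).1 ?_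
        rw [M.map_div h3 hz'.1, h1 z hz.1]
        apply ext2
        · rw [Pi.sub_apply, ap_zero', hz.2]
          simp [ent_mul, ht, div_mul_cancel₀ _ h0]
        · rw [Pi.sub_apply, ap_one', hz.2, hz'.2]
          simp [ent_mul] }

end NXD

/-! ### The input over a pair `(B, ZJ)` -/

/-- `Y ≥ B` acts on `N / D` as a subgroup of `SL₂(F)`, `N ∩ ZJ` is the line; `g ∈ Y` moves the line, `[ZJ, g] ≤ N`. -/
structure NXI (F : Type*) [Field F] (B ZJ Y N D : Subgroup G) (g : G) where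
  π : G → Fin 2 → F
  mul : ∀ v ∈ N, ∀ w ∈ N, π (v * w) = π v + π w
  ker : ∀ v ∈ N, π v = 0 ↔ v ∈ D
  DN : D ≤ N
  surj : ∀ x, ∃ v ∈ N, π v = x
  el : IsElementaryAbelian 2 N
  NB : N ≤ B
  B2 : IsPGroup 2 B
  zcB : zc B = ZJ
  cB : ∀ b ∈ B, ∀ z ∈ ZJ, b * z = z * b
  wn : ∀ R : Subgroup G, IsPGroup 2 R → B ≤ R → R ≤ normalizer (B : Set G)
  sylB : ∀ R : Subgroup G, IsPGroup 2 R → B ≤ R → R ≤ centralizer (ZJ : Set G) → R = B
  N1 : ∀ v ∈ N, π v 1 = 0 ↔ v ∈ ZJ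
  BY : B ≤ Y
  gY : g ∈ Y
  nN : ∀ l ∈ Y, ∀ v ∈ N, l * v * l⁻¹ ∈ N
  cD : ∀ l ∈ Y, ∀ d ∈ D, l * d = d * l
  acts : ∀ l ∈ Y, ∃ A : Matrix.SpecialLinearGroup (Fin 2) F, ∀ v ∈ N, π (l * v * l⁻¹) = ap A (π v)
  triv : ∀ l ∈ Y, (∀ v ∈ N, π (l * v * l⁻¹) = π v) → ∀ v ∈ N, l * v = v * l
  up : ∀ b ∈ B, ∃ c : F, ∀ v ∈ N, π (b * v * b⁻¹) = ap (up c) (π v)
  upc : ∀ c : F, ∃ b ∈ B, ∀ v ∈ N, π (b * v * b⁻¹) = ap (Lib.SL2Mat.up c) (π v)
  gz : ∀ z ∈ ZJ, g⁻¹ * z * g * z⁻¹ ∈ N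
  gm : ∃ v ∈ N, π v 1 = 0 ∧ π (g * v * g⁻¹) 1 ≠ 0

namespace NXI

variable {F : Type*} [Field F] {B ZJ Y N D : Subgroup G} {g : G} (M : NXI F B ZJ Y N D g)

theorem map_one : M.π 1 = 0 := by
  have := M.mul 1 (one_mem N) 1 (one_mem N)
  rw [one_mul] at this
  exact left_eq_add.1 this

theorem map_inv {v : G} (hv : v ∈ N) : M.π v⁻¹ = - M.π v := by
  have := M.mul v hv v⁻¹ (inv_mem hv)
  rw [mul_inv_cancel, M.map_one] at this
  exact (neg_eq_of_add_eq_zero_right this.symm).symm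

include M in
theorem cjB_le : cj g B ≤ Y := by
  rintro _ ⟨b, hb, rfl⟩
  exact mul_mem (mul_mem M.gY (M.BY hb)) (inv_mem M.gY)

include M in
theorem XY : B ⊔ cj g B ≤ Y := sup_le M.BY M.cjB_le

include M in
theorem cent_H0 {l h : G} (hl : l ∈ B ⊔ cj g B) (hh : h ∈ ZJ ⊓ cj g ZJ) : l * h = h * l := by
  have h1 : B ⊔ cj g B ≤ centralizer {h} := by
    refine sup_le (fun b hb => ?_) ?_
    · rw [mem_centralizer_singleton_iff]
      exact M.cB b hb h hh.1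
    · rintro _ ⟨b, hb, rfl⟩
      rw [mem_centralizer_singleton_iff]
      have h2 := M.cB b hb _ (mem_cj.1 hh.2)
      have h3 := congrArg (fun t => g * t * g⁻¹) h2
      simpa [mul_assoc] using h3
  exact mem_centralizer_singleton_iff.1 (h1 hl)

include M in
/-- `ZJ = H₀ N₁`, `H₀ = ZJ ∩ ZJ^g`. -/
theorem split {z : G} (hz : z ∈ ZJ) : ∃ h ∈ ZJ ⊓ cj g ZJ, ∃ m ∈ N, m ∈ ZJ ∧ z = h * m := by
  obtain ⟨A, hA⟩ := M.acts g M.gY
  obtain ⟨v0, hv0, h10, hne⟩ := M.gm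
  have hc : ent A 1 0 ≠ 0 := by
    intro h0
    apply hne
    rw [hA v0 hv0, ap_one', h0, h10]; simp
  have hAi : ∀ v ∈ N, M.π (g⁻¹ * v * g) = ap A⁻¹ (M.π v) := by
    intro v hv
    have h1 := M.nN g⁻¹ (inv_mem M.gY) v hv
    rw [inv_inv] at h1
    have h2 := hA _ h1
    have e : g * (g⁻¹ * v * g) * g⁻¹ = v := by group
    rw [e] at h2
    rw [h2, ap_inv_ap]
  have hn := M.gz z hz
  obtain ⟨n, hn0⟩ : ∃ n, n = g⁻¹ * z * g * z⁻¹ := ⟨_, rfl⟩
  rw [← hn0] at hn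
  obtain ⟨m, hm, em⟩ := M.surj ![M.π n 1 / ent A 1 0, 0]
  have hmZ : m ∈ ZJ := (M.N1 m hm).1 (by rw [em]; rfl)
  have hgm : g⁻¹ * m * g ∈ N := by
    have := M.nN g⁻¹ (inv_mem M.gY) m hm
    rwa [inv_inv] at this
  have h1 : n * (g⁻¹ * m * g) ∈ ZJ := by
    refine (M.N1 _ (mul_mem hn hgm)).1 ?_
    rw [M.mul n hn _ hgm, hAi m hm, em, Pi.add_apply, ap_one', ent_inv A, mk_10]
    simp [mul_div_cancel₀ _ hc]
  have h2 : z * m ∈ ZJ ⊓ cj g ZJ := by
    refine mem_inf.2 ⟨mul_mem hz hmZ, ?_⟩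
    rw [mem_cj]
    have e : g⁻¹ * (z * m) * g = n * z * (g⁻¹ * m * g) := by rw [hn0]; group
    have e2 : n * z = z * n := M.cB n (M.NB hn) z hz
    rw [e, e2, mul_assoc]
    exact mul_mem hz h1
  exact ⟨z * m, h2, m⁻¹, inv_mem hm, inv_mem hmZ, by group⟩

/-- `X = ⟨B, B^g⟩`. -/
def nxd [Finite G] [Finite F] [CharP F 2] : NXD F B (B ⊔ cj g B) N D where
  π := M.π
  mul := M.mul
  ker := M.ker
  DN := M.DN
  surj := M.surj
  el := M.el
  NB := M.NB
  B2 := M.B2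
  BX := le_sup_left
  nN := fun l hl => M.nN l (M.XY hl)
  cD := fun l hl => M.cD l (M.XY hl)
  acts := fun l hl => M.acts l (M.XY hl)
  triv := fun l hl => M.triv l (M.XY hl)
  up := M.up
  upc := M.upc
  N1c := fun b hb v hv h0 => M.cB b hb v ((M.N1 v hv).1 h0)
  mv := by
    obtain ⟨A, hA⟩ := M.acts g M.gY
    obtain ⟨v0, hv0, h10, hne⟩ := M.gm
    have hc : ent A 1 0 ≠ 0 := by
      intro h0
      apply hne
      rw [hA v0 hv0, ap_one', h0, h10]; simp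
    obtain ⟨b, hb, hbc⟩ := M.upc 1
    refine ⟨g * b * g⁻¹, mem_sup_right ⟨b, hb, rfl⟩, ?_⟩
    obtain ⟨v, hv, e⟩ := M.surj ![1, 0]
    refine ⟨v, hv, by rw [e]; rfl, ?_⟩
    have h1 := M.nN g⁻¹ (inv_mem M.gY) v hv
    rw [inv_inv] at h1
    have h2 := M.nN b (M.BY hb) _ h1
    have e1 : g * b * g⁻¹ * v * (g * b * g⁻¹)⁻¹ = g * (b * (g⁻¹ * v * g) * b⁻¹) * g⁻¹ := by group
    have h3 : M.π (g⁻¹ * v * g) = ap A⁻¹ (M.π v) := by
      have h4 := hA _ h1
      have e2 : g * (g⁻¹ * v * g) * g⁻¹ = v := by group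
      rw [e2] at h4
      rw [h4, ap_inv_ap]
    rw [e1, hA _ h2, hbc _ h1, h3, e, ent_inv A]
    simp only [ap_zero', ap_one', mk_00, mk_01, mk_10, mk_11, up_00, up_01, up_10, up_11]
    intro h5
    apply hc
    have h6 : (ent A 1 0) ^ 2 = 0 := by
      simp only [Matrix.cons_val_zero, Matrix.cons_val_one] at h5
      linear_combination -h5
    exact pow_eq_zero_iff two_ne_zero |>.1 h6
  syl := by
    intro R hR hRX h2
    refine M.sylB R h2 hR fun r hr => ?_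
    have hrY := M.XY (hRX hr)
    have hrB := M.wn R h2 hR hr
    have hrZ : r ∈ normalizer (ZJ : Set G) := by
      rw [← M.zcB]
      exact normalizer_le_of_cj (F := zc) LemmaK.Main.zc_cj B hrB
    obtain ⟨A, hA⟩ := M.acts r hrY
    have h10 : ent A 1 0 = 0 := by
      obtain ⟨v, hv, e⟩ := M.surj ![1, 0]
      have hvZ : v ∈ ZJ := (M.N1 v hv).1 (by rw [e]; rfl)
      have h5 := (M.N1 _ (M.nN r hrY v hv)).2 ((mem_normalizer_iff.1 hrZ v).1 hvZ)
      rw [hA v hv, e, ap_one'] at h5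
      simpa using h5
    have h00 : ent A 0 0 = 1 := by
      obtain ⟨n, hn⟩ := h2 ⟨r, hr⟩
      have hn' : r ^ 2 ^ n = 1 := by simpa using congrArg Subtype.val hn
      have hpow : ∀ m : ℕ, ∀ v ∈ N, M.π (r ^ m * v * (r ^ m)⁻¹) = ap (A ^ m) (M.π v) := by
        intro m
        induction m with
        | zero => intro v _; simp [ap_one]
        | succ m ih =>
          intro v hv
          have e : r ^ (m + 1) * v * (r ^ (m + 1))⁻¹ = r ^ m * (r * v * r⁻¹) * (r ^ m)⁻¹ := by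
            rw [pow_succ]; group
          rw [e, ih _ (M.nN r hrY v hv), hA v hv, pow_succ, ap_mul]
      have h7 : ∀ m : ℕ, ent (A ^ m) 1 0 = 0 ∧ ent (A ^ m) 0 0 = ent A 0 0 ^ m := by
        intro m
        induction m with
        | zero => rw [pow_zero, pow_zero]; exact ⟨rfl, rfl⟩
        | succ m ih =>
          rw [pow_succ, ent_mul, ent_mul, h10, ih.1, ih.2, pow_succ]
          simp
      obtain ⟨v, hv, e⟩ := M.surj ![1, 0]
      have h6 := hpow (2 ^ n) v hv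
      rw [hn', one_mul, inv_one, mul_one, e] at h6
      have h8 := congrFun h6 0
      rw [ap_zero', (h7 (2 ^ n)).2] at h8
      have h8' : ent A 0 0 ^ 2 ^ n = 1 := by simpa using h8.symm
      have h9 : (ent A 0 0 - 1) ^ 2 ^ n = 0 := by
        have := sub_pow_char_pow (p := 2) (n := n) (ent A 0 0) (1 : F)
        rw [this, h8', one_pow, sub_self]
      have h11 := pow_eq_zero_iff (pow_ne_zero n two_ne_zero) |>.1 h9
      exact sub_eq_zero.1 h11
    obtain ⟨x, rfl⟩ : ∃ x, A = Lib.SL2Mat.up x := by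
      refine ⟨ent A 0 1, ?_⟩
      have h11 := det_eq A
      rw [h10, h00, mul_zero, sub_zero, one_mul] at h11
      exact ext_ent (by rw [up_00, h00]) (by rw [up_01]) (by rw [up_10, h10]) (by rw [up_11, h11])
    obtain ⟨b, hb, hbc⟩ := M.upc x
    -- `u = b⁻¹ r` centralises `N`
    have huY : b⁻¹ * r ∈ Y := mul_mem (inv_mem (M.BY hb)) hrY
    have huN : ∀ v ∈ N, b⁻¹ * r * v = v * (b⁻¹ * r) := by
      refine M.triv _ huY fun v hv => ?_
      have h1 := M.nN r hrY v hv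
      have h3 := M.nN b⁻¹ (inv_mem (M.BY hb)) _ h1
      have h4 := hbc _ h3
      have e1 : b * (b⁻¹ * (r * v * r⁻¹) * b⁻¹⁻¹) * b⁻¹ = r * v * r⁻¹ := by group
      rw [e1, hA v hv] at h4
      have e2 : b⁻¹ * r * v * (b⁻¹ * r)⁻¹ = b⁻¹ * (r * v * r⁻¹) * b⁻¹⁻¹ := by group
      rw [e2]
      have h5 := congrArg (ap (Lib.SL2Mat.up x)⁻¹) h4
      rw [ap_inv_ap, ap_inv_ap] at h5
      exact h5.symm
    have huX : b⁻¹ * r ∈ B ⊔ cj g B := mul_mem (inv_mem (mem_sup_left hb)) (hRX hr)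
    rw [mem_centralizer_iff]
    intro z hz
    obtain ⟨h, hh, m, hm, -, e⟩ := M.split hz
    have c1 : Commute (b⁻¹ * r) h := M.cent_H0 huX hh
    have c2 : Commute (b⁻¹ * r) m := huN m hm
    have c3 : Commute (b⁻¹ * r) z := by rw [e]; exact c1.mul_right c2
    have c4 : Commute b z := M.cB b hb z hz
    have c5 := c4.mul_left c3
    rw [mul_inv_cancel_left] at c5
    exact c5.eq.symm
  act := by
    intro l hl z hz
    rw [M.zcB] at hz
    obtain ⟨h, hh, m, hm, hmZ, rfl⟩ := M.split hz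
    have c1 : l * h = h * l := M.cent_H0 hl hh
    have h1 : l * m * l⁻¹ * m⁻¹ ∈ N := mul_mem (M.nN l (M.XY hl) m hm) (inv_mem hm)
    have c2 : (l * m * l⁻¹ * m⁻¹) * h = h * (l * m * l⁻¹ * m⁻¹) := M.cB _ (M.NB h1) h hh.1
    have e : l * (h * m) * l⁻¹ * (h * m)⁻¹ = l * m * l⁻¹ * m⁻¹ := by
      calc l * (h * m) * l⁻¹ * (h * m)⁻¹ = (l * h) * m * l⁻¹ * m⁻¹ * h⁻¹ := by group
        _ = h * (l * m * l⁻¹ * m⁻¹) * h⁻¹ := by rw [c1]; group
        _ = _ := by rw [← c2, mul_inv_cancel_right]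
    rw [e]
    exact h1

/-- **Blocks from one element `g`.** -/
theorem exists_pb [Finite G] [Finite F] [CharP F 2] :
    ∃ L, B ≤ L ∧ L ≤ Y ∧ PB B L N (N ⊓ ZJ) D (Nat.card F) ∧
      ∀ A : Matrix.SpecialLinearGroup (Fin 2) F, ∃ l ∈ L, ∀ v ∈ N, M.π (l * v * l⁻¹) = ap A (M.π v) := by
  obtain ⟨L, h1, h2, h3, h4⟩ := M.nxd.exists_pb
  have e : M.nxd.Zs = N ⊓ ZJ := by
    ext v
    constructor
    · rintro ⟨hv, h0⟩
      exact ⟨hv, (M.N1 v hv).1 h0⟩
    · rintro ⟨hv, h0⟩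
      exact ⟨hv, (M.N1 v hv).2 h0⟩
  rw [e] at h3
  exact ⟨L, h1, h2.trans M.XY, h3, h4⟩

end NXI

end Cfsg.Agent.Omega.OM.BIn
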