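import Cfsg.Agent.Omega.OM.Lev.Uni
import Cfsg.Agent.Omega.OM.NX
import Cfsg.Agent.Omega.SQ1.FFK
import Cfsg.Agent.Omega.NO3S.OneLine.LevKNat

/-!
# The natural blocks over `B = C_T(Z_J)`, without `J(T)`

`M : NatC F T H V D k` : `V` a sum of `k` natural `SL₂(F)`-modules, `D = 1`;
* `Wn M i`, `Cn M i`, `Xn M i` : the summands, the complements, the group inducing `SL₂(F)` on the `i`-th summand;
* `sec M i : NatSec F (St M i) V (Cn M i)`; `exists_up` : an element of `T` centralising the product of the lines acts as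
  upper unitriangular matrices;
* `Hy` : the hypotheses on `B`, `ZJ`; `Hy.nx : NX F B (Xn M i) (Wn M i)`;
* `Hy.frL` : the frame `FrL`.
-/

set_option autoImplicit false
set_option linter.unusedSectionVars false

namespace Cfsg.Agent.Omega.OM.Lev.Nat

open Subgroup Cfsg Cfsg.Agent.PLocal.ThompsonJ Cfsg.Agent.ZN Cfsg.Agent.ZN.ChoiceBase
open Cfsg.Agent.ZN.ChoiceSit
open Cfsg.Agent.Omega.NatPair Cfsg.Agent.Lib.SL2Mat
open Cfsg.Agent.Omega.SQ1.FFOne (NatSec)
open Cfsg.Agent.Omega.NO3S.OneLine (NatC)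
open Cfsg.Agent.PLocal.ElemAbSup
open Cfsg.Agent.Omega.OM.Uni (NX)
open Cfsg.Agent.Omega.OM.Lev.Uni (FrL Best)
open Cfsg.Agent.Omega.FFThm (ElemM)
open scoped Pointwise commutatorElement

universe u

variable {G : Type u} [Group G] [Finite G]

section defs

variable {F : Type} [Field F] {T H V D : Subgroup G} {k : ℕ} (M : NatC F T H V D k)

theorem ap_z (A : Matrix.SpecialLinearGroup (Fin 2) F) : ap A 0 = 0 :=
  ext2 (by rw [ap_zero']; simp) (by rw [ap_one']; simp)

/-- the `i`-th summand -/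
def Wn (i : Fin k) : Subgroup G where
  carrier := {v | v ∈ V ∧ ∀ j, j ≠ i → M.nat.e v j = 0}
  mul_mem' := by
    rintro a b ⟨ha, ha'⟩ ⟨hb, hb'⟩
    exact ⟨mul_mem ha hb, fun j hj => by rw [M.nat.mul a ha b hb, Pi.add_apply, ha' j hj, hb' j hj, add_zero]⟩
  one_mem' := ⟨one_mem _, fun j _ => by rw [M.map_one]; rfl⟩
  inv_mem' := by
    rintro a ⟨ha, ha'⟩
    exact ⟨inv_mem ha, fun j hj => by rw [M.map_inv ha, Pi.neg_apply, ha' j hj, neg_zero]⟩

/-- the complement of the `i`-th summand -/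
def Cn (i : Fin k) : Subgroup G where
  carrier := {v | v ∈ V ∧ M.nat.e v i = 0}
  mul_mem' := by
    rintro a b ⟨ha, ha'⟩ ⟨hb, hb'⟩
    exact ⟨mul_mem ha hb, by rw [M.nat.mul a ha b hb, Pi.add_apply, ha', hb', add_zero]⟩
  one_mem' := ⟨one_mem _, by rw [M.map_one]; rfl⟩
  inv_mem' := by
    rintro a ⟨ha, ha'⟩
    exact ⟨inv_mem ha, by rw [M.map_inv ha, Pi.neg_apply, ha', neg_zero]⟩

theorem mem_Wn {i : Fin k} {v : G} : v ∈ Wn M i ↔ v ∈ V ∧ ∀ j, j ≠ i → M.nat.e v j = 0 := Iff.rfl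

theorem mem_Cn {i : Fin k} {v : G} : v ∈ Cn M i ↔ v ∈ V ∧ M.nat.e v i = 0 := Iff.rfl

/-- the elements of `H` acting as `SL₂` on the `i`-th summand and as upper unitriangular matrices on the others -/
def Xn (i : Fin k) : Subgroup G where
  carrier := {h | h ∈ H ∧ ∃ A, M.Acts h A ∧ ∀ j, j ≠ i → ∃ c, A j = up c}
  mul_mem' := by
    rintro a b ⟨ha, A, hA, hA'⟩ ⟨hb, B, hB, hB'⟩
    refine ⟨mul_mem ha hb, A * B, NatC.acts_mul hb hA hB, fun j hj => ?_⟩
    obtain ⟨c, hc⟩ := hA' j hj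
    obtain ⟨d, hd⟩ := hB' j hj
    exact ⟨c + d, by rw [Pi.mul_apply, hc, hd, up_mul]⟩
  one_mem' := ⟨one_mem _, 1, NatC.acts_one, fun j _ => ⟨0, by rw [up_zero]; rfl⟩⟩
  inv_mem' := by
    rintro a ⟨ha, A, hA, hA'⟩
    refine ⟨inv_mem ha, A⁻¹, NatC.acts_inv ha hA, fun j hj => ?_⟩
    obtain ⟨c, hc⟩ := hA' j hj
    exact ⟨-c, by rw [Pi.inv_apply, hc, up_inv]⟩

theorem mem_Xn {i : Fin k} {h : G} : h ∈ Xn M i ↔ h ∈ H ∧ ∃ A, M.Acts h A ∧ ∀ j, j ≠ i → ∃ c, A j = up c := Iff.rfl

/-- the stabiliser of the complement of the `i`-th summand -/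
def St (i : Fin k) : Subgroup G := H ⊓ normalizer (Cn M i : Set G)

theorem mem_St_of {i : Fin k} {h : G} (hh : h ∈ H)
    (hc : ∀ v ∈ V, M.nat.e v i = 0 → M.nat.e (h * v * h⁻¹) i = 0) : h ∈ St M i := by
  refine ⟨hh, mem_normalizer_iff_cj.2 (Subgroup.eq_of_le_of_card_ge ?_ (by rw [card_cj]))⟩
  rintro _ ⟨v, hv, rfl⟩
  exact ⟨M.Vn h hh v hv.1, hc v hv.1 hv.2⟩

/-- The natural section `V / Cn i`. -/
def sec (i : Fin k) : NatSec F (St M i) V (Cn M i) where
  π := fun g => M.nat.e g i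
  map_mul := fun v hv w hw => by rw [M.nat.mul v hv w hw]; rfl
  V0V := fun v hv => hv.1
  ker := fun v hv => ⟨fun h => ⟨hv, h⟩, fun h => h.2⟩
  surj := fun x => by
    obtain ⟨v, hv, e⟩ := M.nat.surj (fun _ => x)
    exact ⟨v, hv, by rw [e]⟩
  Vn := fun h hh v hv => M.Vn h hh.1 v hv
  V0n := fun h hh v hv => (mem_normalizer_iff.1 hh.2 v).1 hv
  lift := fun A => by
    classical
    obtain ⟨g, hg, hA, -⟩ := M.nat.lift (Function.update 1 i A)
    have h1 : ∀ v ∈ V, M.nat.e (g * v * g⁻¹) i = ap A (M.nat.e v i) := fun v hv => by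
      rw [hA v hv i, Function.update_self]
    exact ⟨g, mem_St_of M hg fun v hv h0 => by rw [h1 v hv, h0, ap_z], h1⟩
  norm := by
    classical
    intro g hg h hh A hA
    obtain ⟨x, hx, hxA, -⟩ := M.nat.lift (Function.update 1 i A)
    have h1 : ∀ v ∈ V, M.nat.e (x * v * x⁻¹) i = ap A (M.nat.e v i) := fun v hv => by
      rw [hxA v hv i, Function.update_self]
    obtain ⟨B, hB⟩ := M.nat.norm g hg.1 x hx _ hxA
    refine ⟨B i, fun v hv => ?_⟩
    rw [← hB v hv i]
    have hv' : g⁻¹ * v * g ∈ V := by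
      have := M.Vn g⁻¹ (inv_mem hg.1) v hv
      rwa [inv_inv] at this
    set w := g⁻¹ * v * g with hw
    have e1 : g * h * g⁻¹ * v * (g * h * g⁻¹)⁻¹ = g * (h * w * h⁻¹) * g⁻¹ := by rw [hw]; group
    have e2 : g * x * g⁻¹ * v * (g * x * g⁻¹)⁻¹ = g * (x * w * x⁻¹) * g⁻¹ := by rw [hw]; group
    have hhV := M.Vn h hh.1 w hv'
    have hxV := M.Vn x hx w hv'
    have h3 : (h * w * h⁻¹) * (x * w * x⁻¹)⁻¹ ∈ Cn M i := by
      refine ⟨mul_mem hhV (inv_mem hxV), ?_⟩
      rw [M.map_div hhV hxV, Pi.sub_apply, hA w hv', h1 w hv', sub_self]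
    have h4 := ((mem_normalizer_iff.1 hg.2 _).1 h3).2
    have e3 : g * (h * w * h⁻¹ * (x * w * x⁻¹)⁻¹) * g⁻¹ =
      (g * (h * w * h⁻¹) * g⁻¹) * (g * (x * w * x⁻¹) * g⁻¹)⁻¹ := by group
    rw [e3, M.map_div (M.Vn g hg.1 _ hhV) (M.Vn g hg.1 _ hxV), Pi.sub_apply, sub_eq_zero] at h4
    rw [e1, e2]
    exact h4

/-- An element centralising the product of the lines fixes every summand. -/
theorem mem_St_of_line {b : G} (hb : b ∈ H)
    (hc : ∀ v ∈ V, (∀ i, M.nat.e v i 1 = 0) → b * v = v * b) (i : Fin k) : b ∈ St M i := by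
  classical
  obtain ⟨σ, hσ⟩ := M.nat.perm b hb
  have h1 : σ i = i := by
    by_contra hne
    obtain ⟨v, hv, e⟩ := M.nat.surj (Function.update 0 i ![1, 0])
    have h2 : b * v = v * b := hc v hv fun j => by
      rw [e]
      by_cases hj : j = i
      · subst hj; rw [Function.update_self]; rfl
      · rw [Function.update_of_ne hj]; rfl
    have h3 : b * v * b⁻¹ = v := by rw [h2]; group
    have h4 := (hσ v hv i).1 (by rw [h3, e, Function.update_of_ne hne]; rfl)
    rw [e, Function.update_self] at h4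
    have := congrFun h4 0
    simp at this
  exact mem_St_of M hb fun v hv h0 => by
    have := (hσ v hv i).2 h0
    rwa [h1] at this

/-- **An element of `T` centralising the product of the lines acts as upper unitriangular matrices.** -/
theorem exists_up [Finite F] [CharP F 2] (hT : Syl T H) {b : G} (hb : b ∈ T)
    (hc : ∀ v ∈ V, (∀ i, M.nat.e v i 1 = 0) → b * v = v * b) : ∃ c : Fin k → F, M.Acts b fun i => up (c i) := by
  classical
  obtain ⟨n, hn⟩ := hT.2.1 ⟨b, hb⟩
  have hn' : b ^ 2 ^ n = 1 := by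
    have h0 := congrArg (fun t : T => (t : G)) hn
    simpa using h0
  have key : ∀ i, ∃ c : F, ∀ v ∈ V, M.nat.e (b * v * b⁻¹) i = ap (up c) (M.nat.e v i) := by
    intro i
    obtain ⟨c, hc'⟩ := (sec M i).up_of_line (mem_St_of_line M (hT.1 hb) hc i) hn' (by
      intro v hv h1
      -- replace `v` by the element of the line
      change M.nat.e v i 1 = 0 at h1
      change M.nat.e (b * v * b⁻¹) i = M.nat.e v i
      obtain ⟨w, hw, e⟩ := M.nat.surj (Function.update 0 i (M.nat.e v i))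
      have h2 : b * w = w * b := hc w hw fun j => by
        rw [e]
        by_cases hj : j = i
        · subst hj; rw [Function.update_self]; exact h1
        · rw [Function.update_of_ne hj]; rfl
      have h3 : b * w * b⁻¹ = w := by rw [h2]; group
      have h4 : v * w⁻¹ ∈ Cn M i := by
        refine ⟨mul_mem hv (inv_mem hw), ?_⟩
        rw [M.map_div hv hw, Pi.sub_apply, e, Function.update_self, sub_self]
      have h5 := ((mem_normalizer_iff.1 (mem_St_of_line M (hT.1 hb) hc i).2 _).1 h4).2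
      have e3 : b * (v * w⁻¹) * b⁻¹ = (b * v * b⁻¹) * (b * w * b⁻¹)⁻¹ := by group
      rw [e3, h3, M.map_div (M.Vn b (hT.1 hb) v hv) hw, Pi.sub_apply, sub_eq_zero] at h5
      rw [h5, e, Function.update_self])
    exact ⟨c, hc'⟩
  choose c hc' using key
  exact ⟨c, fun v hv i => hc' i v hv⟩

end defs

/-! ### The hypotheses on `B`, `ZJ` -/

section hy

variable {F : Type} [Field F] {T H V D : Subgroup G} {k : ℕ}

/-- `ZJ` is the product of the lines, `B = C_T(ZJ)` is weakly closed and Sylow in `C_G(ZJ)`. -/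
structure Hy (M : NatC F T H V D k) (B ZJ : Subgroup G) : Prop where
  syl : Syl T H
  D0 : D = ⊥
  eqB : B = T ⊓ centralizer (ZJ : Set G)
  mem_ZJ : ∀ v, v ∈ ZJ ↔ v ∈ V ∧ ∀ i, M.nat.e v i 1 = 0
  mem_o2 : ∀ x, x ∈ o2 H ↔ x ∈ T ∧ ∀ v ∈ V, x * v = v * x
  zc_eq : zc (o2 H) = V
  wn : ∀ R : Subgroup G, IsPGroup 2 R → B ≤ R → R ≤ normalizer (B : Set G)
  sylB : ∀ R : Subgroup G, IsPGroup 2 R → B ≤ R → R ≤ centralizer (ZJ : Set G) → R = B

namespace Hy

variable {M : NatC F T H V D k} {B ZJ : Subgroup G} (h : Hy M B ZJ)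
include h

theorem BT : B ≤ T := h.eqB.le.trans inf_le_left

theorem BH : B ≤ H := h.BT.trans h.syl.1

theorem cB {b z : G} (hb : b ∈ B) (hz : z ∈ ZJ) : b * z = z * b :=
  (mem_centralizer_iff.1 (h.eqB.le hb).2 z hz).symm

theorem mem_B {t : G} (ht : t ∈ T) (hc : ∀ z ∈ ZJ, t * z = z * t) : t ∈ B := by
  rw [h.eqB]
  exact ⟨ht, mem_centralizer_iff.2 fun z hz => (hc z hz).symm⟩

theorem ZJV : ZJ ≤ V := fun v hv => ((h.mem_ZJ v).1 hv).1

theorem inj {v w : G} (hv : v ∈ V) (hw : w ∈ V) (he : M.nat.e v = M.nat.e w) : v = w := M.e_inj h.D0 hv hw he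

theorem QB : o2 H ≤ B := fun x hx => h.mem_B ((h.mem_o2 x).1 hx).1 fun z hz => ((h.mem_o2 x).1 hx).2 z (h.ZJV hz)

/-- an element acting by upper unitriangular matrices centralises `ZJ` -/
theorem cZJ_of {t : G} (ht : t ∈ H) {A : Fin k → Matrix.SpecialLinearGroup (Fin 2) F} (hA : M.Acts t A)
    (hup : ∀ i, ∃ c, A i = up c) {z : G} (hz : z ∈ ZJ) : t * z = z * t := by
  obtain ⟨hz1, hz2⟩ := (h.mem_ZJ z).1 hz
  refine mul_inv_eq_iff_eq_mul.1 (h.inj (M.Vn t ht z hz1) hz1 ?_)
  funext j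
  rw [hA z hz1 j]
  obtain ⟨c, hc⟩ := hup j
  rw [hc]
  apply ext2
  · rw [ap_zero', hz2 j]; simp
  · rw [ap_one', hz2 j]; simp

theorem up_of [Finite F] [CharP F 2] {b : G} (hb : b ∈ B) :
    ∃ c : Fin k → F, M.Acts b fun i => up (c i) :=
  exists_up M h.syl (h.BT hb) fun v hv hv1 => h.cB hb ((h.mem_ZJ v).2 ⟨hv, hv1⟩)

theorem exists_b (c : Fin k → F) : ∃ b ∈ B, M.Acts b fun i => up (c i) := by
  obtain ⟨t, ht, hA, -⟩ := M.nat.unip c
  exact ⟨t, h.mem_B ht fun z hz => h.cZJ_of (h.syl.1 ht) hA (fun i => ⟨c i, rfl⟩) hz, hA⟩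

theorem zcB : zc B = ZJ := by
  ext z
  rw [ChoiceBase.mem_zc]
  constructor
  · rintro ⟨h1, h2, h3⟩
    have h4 : z ∈ o2 H := (h.mem_o2 z).2 ⟨h.BT h1, fun v hv => (h3 v (h.QB (M.VQ hv))).symm⟩
    have h5 : z ∈ V := by
      rw [← h.zc_eq]
      exact ChoiceBase.mem_zc.2 ⟨h4, h2, fun y hy => h3 y (h.QB hy)⟩
    refine (h.mem_ZJ z).2 ⟨h5, fun i => ?_⟩
    obtain ⟨b, hb, hbA⟩ := h.exists_b fun _ => 1
    have h6 := hbA z h5 i
    have h7 : b * z * b⁻¹ = z := by rw [h3 b hb]; group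
    rw [h7] at h6
    have h8 := congrFun h6 0
    rw [ap_zero', up_00, up_01, one_mul, one_mul] at h8
    exact left_eq_add.1 h8
  · intro hz
    obtain ⟨hz1, -⟩ := (h.mem_ZJ z).1 hz
    exact ⟨h.QB (M.VQ hz1), M.Vsq z hz1, fun b hb => h.cB hb hz⟩

theorem norm_ZJ : normalizer (B : Set G) ≤ normalizer (ZJ : Set G) := by
  rw [← h.zcB]
  exact normalizer_le_of_cj (F := zc) LemmaK.Main.zc_cj B

/-- The natural pre-block. -/
noncomputable def nx [Finite F] [CharP F 2] (i : Fin k) : NX F B (Xn M i) (Wn M i) := by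
  classical
  exact
  { π := fun g => M.nat.e g i
    mul := fun v hv w hw => by rw [M.nat.mul v hv.1 w hw.1]; rfl
    inj := fun v hv h0 => by
      refine h.inj hv.1 (one_mem _) ?_
      rw [M.map_one]
      funext j
      by_cases hj : j = i
      · rw [hj]; exact h0
      · exact hv.2 j hj
    surj := fun x => by
      obtain ⟨v, hv, e⟩ := M.nat.surj (Function.update 0 i x)
      exact ⟨v, ⟨hv, fun j hj => by rw [e, Function.update_of_ne hj]; rfl⟩, by rw [e, Function.update_self]⟩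
    el := isElementaryAbelian_iff.2 ⟨fun v hv w hw => M.Vcomm hv.1 hw.1, fun v hv => M.Vsq v hv.1⟩
    WB := fun v hv => h.QB (M.VQ hv.1)
    B2 := h.syl.2.1.to_le h.BT
    BX := fun b hb => by
      obtain ⟨c, hc⟩ := h.up_of hb
      exact ⟨h.BH hb, _, hc, fun j _ => ⟨c j, rfl⟩⟩
    nW := fun l hl v hv => by
      obtain ⟨hlH, A, hA, -⟩ := hl
      refine ⟨M.Vn l hlH v hv.1, fun j hj => ?_⟩
      rw [hA v hv.1 j, hv.2 j hj, ap_z]
    acts := fun l hl => by
      obtain ⟨hlH, A, hA, -⟩ := hl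
      exact ⟨A i, fun v hv => hA v hv.1 i⟩
    cov := fun A => by
      obtain ⟨l, hl, hA⟩ := M.nat.lift (Function.update 1 i A)
      refine ⟨l, ⟨hl, _, hA.1, fun j hj => ⟨0, by rw [Function.update_of_ne hj, up_zero]; rfl⟩⟩, fun v hv => ?_⟩
      have := hA.1 v hv.1 i
      rwa [Function.update_self] at this
    up := fun b hb => by
      obtain ⟨c, hc⟩ := h.up_of hb
      exact ⟨c i, fun v hv => hc v hv.1 i⟩
    upc := fun c => by
      obtain ⟨b, hb, hc⟩ := h.exists_b fun _ => c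
      exact ⟨b, hb, fun v hv => hc v hv.1 i⟩
    syl := fun R hR hRX h2 => by
      refine h.sylB R h2 hR fun r hr => ?_
      obtain ⟨hrH, A, hA, hA'⟩ := hRX hr
      -- `r` normalises `ZJ`
      have hrn : ∀ z ∈ ZJ, r * z * r⁻¹ ∈ ZJ := fun z hz =>
        (mem_normalizer_iff.1 (h.norm_ZJ (h.wn R h2 hR hr)) z).1 hz
      -- so `A i` is upper triangular
      have h10 : ent (A i) 1 0 = 0 := by
        obtain ⟨z, hz, e⟩ := M.nat.surj (Function.update 0 i ![1, 0])
        have hzJ : z ∈ ZJ := by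
          refine (h.mem_ZJ z).2 ⟨hz, fun j => ?_⟩
          rw [e]
          by_cases hj : j = i
          · subst hj; rw [Function.update_self]; rfl
          · rw [Function.update_of_ne hj]; rfl
        have h5 := ((h.mem_ZJ _).1 (hrn z hzJ)).2 i
        rw [hA z hz i, e, Function.update_self, ap_one'] at h5
        simpa using h5
      -- a power of two of `A i` is the identity
      have h00 : ent (A i) 0 0 = 1 := by
        obtain ⟨n, hn⟩ := h2 ⟨r, hr⟩
        have hn' : r ^ 2 ^ n = 1 := by simpa using congrArg Subtype.val hn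
        have hpow : ∀ m : ℕ, M.Acts (r ^ m) (A ^ m) := by
          intro m
          induction m with
          | zero => rw [pow_zero, pow_zero]; exact NatC.acts_one
          | succ m ih => rw [pow_succ, pow_succ]; exact NatC.acts_mul hrH ih hA
        have h5 := hpow (2 ^ n)
        rw [hn'] at h5
        have h6 : (A i) ^ 2 ^ n = 1 := by
          have := congrFun (NatC.acts_unique h5 NatC.acts_one) i
          rwa [Pi.pow_apply, Pi.one_apply] at this
        have h7 : ∀ m : ℕ, ent ((A i) ^ m) 1 0 = 0 ∧ ent ((A i) ^ m) 0 0 = ent (A i) 0 0 ^ m := by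
          intro m
          induction m with
          | zero => rw [pow_zero, pow_zero]; exact ⟨rfl, rfl⟩
          | succ m ih =>
            rw [pow_succ, ent_mul, ent_mul, h10, ih.1, ih.2, pow_succ]
            simp
        have h8 := (h7 (2 ^ n)).2
        rw [h6, ent_one_00] at h8
        have h9 : (ent (A i) 0 0 - 1) ^ 2 ^ n = 0 := by
          have := sub_pow_char_pow (p := 2) (n := n) (ent (A i) 0 0) (1 : F)
          rw [this, ← h8, one_pow, sub_self]
        have h11 := pow_eq_zero_iff (pow_ne_zero n two_ne_zero) |>.1 h9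
        exact sub_eq_zero.1 h11
      have hAi : A i = Lib.SL2Mat.up (ent (A i) 0 1) := by
        have h11 := det_eq (A i)
        rw [h10, h00, mul_zero, sub_zero, one_mul] at h11
        exact ext_ent (by rw [up_00, h00]) (by rw [up_01]) (by rw [up_10, h10]) (by rw [up_11, h11])
      refine mem_centralizer_iff.2 fun z hz => (h.cZJ_of hrH hA (fun j => ?_) hz).symm
      by_cases hj : j = i
      · subst hj; exact ⟨_, hAi⟩
      · exact hA' j hj
    act := fun l hl z hz => by
      rw [h.zcB] at hz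
      obtain ⟨hz1, hz2⟩ := (h.mem_ZJ z).1 hz
      obtain ⟨hlH, A, hA, hA'⟩ := hl
      refine ⟨mul_mem (M.Vn l hlH z hz1) (inv_mem hz1), fun j hj => ?_⟩
      obtain ⟨c, hc⟩ := hA' j hj
      rw [M.map_div (M.Vn l hlH z hz1) hz1, Pi.sub_apply, hA z hz1 j, hc, sub_eq_zero]
      apply ext2
      · rw [ap_zero', hz2 j]; simp
      · rw [ap_one', hz2 j]; simp }

/-- **The frame at a level.** -/
theorem frL [Finite F] [CharP F 2] {X : Subgroup G} (elX : IsElementaryAbelian 2 X) (VX : V ≤ X)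
    (HX : H ≤ normalizer (X : Set G))
    (hAA : ∀ i, ∃ A : Subgroup G, A ≤ T ∧ ElemM X A ∧ Best X A ∧
      (∀ a ∈ A, ∃ c : F, M.Acts a (Function.update 1 i (up c))) ∧
      ∀ c : F, ∃ a ∈ A, M.Acts a (Function.update 1 i (up c))) :
    ∃ L Z A : Fin k → Subgroup G, (∀ i, L i ≤ Xn M i) ∧ (∀ i, A i ≤ T) ∧
      (∀ i A, ∃ l ∈ L i, ∃ A', M.Acts l A' ∧ A' i = A) ∧
      (∀ i v, v ∈ Z i ↔ v ∈ Wn M i ∧ M.nat.e v i 1 = 0) ∧
      FrL B (o2 H) V X ZJ L (Wn M) Z (Cn M) A (Nat.card F) := by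
  classical
  choose A hA hAX hAb hA1 hA2 using hAA
  choose L hL1 hL2 hL3 hL4 hL5 using fun i => (h.nx i).exists_block
  have hLH : ∀ i, L i ≤ H := fun i l hl => (hL2 i hl).1
  refine ⟨L, fun i => (h.nx i).Zs, A, hL2, hA, ?_, fun i v => Iff.rfl, ?_⟩
  · intro i B'
    obtain ⟨l, hl, h0⟩ := hL4 i B'
    obtain ⟨hlH, A', hA', -⟩ := hL2 i hl
    refine ⟨l, hl, A', hA', ?_⟩
    apply ap_inj
    intro x
    obtain ⟨v, hv, e⟩ := (h.nx i).surj x
    have h1 := h0 v hv
    have h2 := hA' v hv.1 i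
    have e' : M.nat.e v i = x := e
    rw [e'] at h2
    rw [← h2, ← e]
    exact h1
  · exact
      { blk := hL3
        cardZ := fun i => (h.nx i).card_Zs
        QB := h.QB
        VQ := M.VQ
        elX := elX
        VX := VX
        mem_Q := fun x hx => by
          rw [h.mem_o2]
          exact ⟨fun h0 => h0.2, fun h0 => ⟨h.BT hx, h0⟩⟩
        zcQ := fun x hx h2 hxc => by
          rw [← h.zc_eq]
          exact ChoiceBase.mem_zc.2 ⟨hx, h2, fun y hy => (hxc y hy).symm⟩
        mem_ZJ := by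
          intro v
          constructor
          · intro hv
            exact ⟨h.ZJV hv, fun b hb => h.cB hb hv⟩
          · rintro ⟨hv, hvc⟩
            rw [← h.zcB]
            exact ChoiceBase.mem_zc.2 ⟨h.QB (M.VQ hv), M.Vsq v hv, hvc⟩
        LV := fun i l hl v hv => M.Vn l (hLH i hl) v hv
        LQ := fun i l hl x hx => (mem_normalizer_iff.1 (ChoiceSit.le_normalizer_o2 H (hLH i hl)) x).1 hx
        LX := fun i l hl x hx => (mem_normalizer_iff.1 (HX (hLH i hl)) x).1 hx
        WV := fun i v hv => hv.1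
        CV := fun i v hv => hv.1
        WC := by
          intro i v hv
          obtain ⟨w, hw, e⟩ := M.nat.surj (Function.update 0 i (M.nat.e v i))
          refine ⟨w, ⟨hw, fun j hj => by rw [e, Function.update_of_ne hj]; rfl⟩, w⁻¹ * v,
            ⟨mul_mem (inv_mem hw) hv, ?_⟩, by group⟩
          rw [M.nat.mul _ (inv_mem hw) v hv, M.map_inv hw, Pi.add_apply, Pi.neg_apply, e, Function.update_self,
            neg_add_cancel]
        dir := by
          intro i
          rw [eq_bot_iff]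
          rintro v ⟨hv1, hv2⟩
          rw [mem_bot]
          refine h.inj hv1.1 (one_mem _) ?_
          rw [M.map_one]
          funext j
          by_cases hj : j = i
          · rw [hj]; exact hv2.2
          · exact hv1.2 j hj
        C0 := by
          intro v hv h0
          refine h.inj hv (one_mem _) ?_
          rw [M.map_one]
          funext j
          exact (h0 j).2
        WjC := fun i j hij v hv => ⟨hv.1, hv.2 i hij⟩
        BC := by
          intro i b hb c hc
          obtain ⟨x, hx⟩ := h.up_of hb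
          refine ⟨M.Vn b (h.BH hb) c hc.1, ?_⟩
          rw [hx c hc.1 i, hc.2, ap_z]
        LC := by
          intro i l hl z hz hzC
          obtain ⟨hlH, A', hA', hA''⟩ := hL2 i hl
          obtain ⟨hz1, hz2⟩ := (h.mem_ZJ z).1 hz
          refine mul_inv_eq_iff_eq_mul.1 (h.inj (M.Vn l hlH z hz1) hz1 ?_)
          funext j
          rw [hA' z hz1 j]
          by_cases hj : j = i
          · rw [hj, hzC.2, ap_z]
          · obtain ⟨c, hc⟩ := hA'' j hj
            rw [hc]
            apply ext2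
            · rw [ap_zero', hz2 j]; simp
            · rw [ap_one', hz2 j]; simp
        AB := fun i a ha => h.mem_B (hA i ha) fun z hz => by
          obtain ⟨c, hc⟩ := hA1 i a ha
          refine h.cZJ_of (h.syl.1 (hA i ha)) hc (fun j => ?_) hz
          by_cases hj : j = i
          · subst hj; exact ⟨c, by rw [Function.update_self]⟩
          · exact ⟨0, by rw [Function.update_of_ne hj, up_zero]; rfl⟩
        AX := hAX
        best := hAb
        Ane := by
          intro i h0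
          obtain ⟨a, ha, hac⟩ := hA2 i 1
          obtain ⟨v, hv, e⟩ := M.nat.surj (Function.update 0 i ![0, 1])
          have h1 := h0 a ha v ⟨hv, fun j hj => by rw [e, Function.update_of_ne hj]; rfl⟩
          have h2 := hac v hv i
          rw [h1, mul_inv_cancel_right, Function.update_self, e, Function.update_self] at h2
          have h3 := congrFun h2 0
          rw [ap_zero'] at h3
          simp at h3
        AC := by
          intro i a ha c hc
          obtain ⟨x, hx⟩ := hA1 i a ha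
          have haH : a ∈ H := h.syl.1 (hA i ha)
          refine mul_inv_eq_iff_eq_mul.1 (h.inj (M.Vn a haH c hc.1) hc.1 ?_)
          funext j
          rw [hx c hc.1 j]
          by_cases hj : j = i
          · rw [hj, hc.2, ap_z]
          · rw [Function.update_of_ne hj, Pi.one_apply, ap_one] }

end Hy

end hy

end Cfsg.Agent.Omega.OM.Lev.Nat
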