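import Cfsg.Agent.Omega.OM.Lev.GLev
import Cfsg.Agent.Omega.OM.Lev.BIn
import Cfsg.Agent.Omega.OM.Lev.Nat

/-!
# Natural blocks over `B = C_T(Z_J)` in a minimal parabolic `H` over `T`, at a level (general pair `(T, H)`)

`GE T H X AA`, `N : NatKM` (`V / C_V(O²(H))` a sum of `k` natural `SL₂(F)`-modules), `Z_J = C_X(AA) = Ω₁Z(B)`,
`B = C_T(Z_J)` weakly closed and a Sylow 2-subgroup of `C_G(Z_J)`:

* `cent_N`, `act_one` : elements acting as `A`, `A i = 1`, centralise the preimage of the `i`-th summand;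
* `exists_pb` : a block `L ≤ H` over `B` (`PB B L N N₁ D |F|`), `H = ⟨T, L⟩`.
-/

set_option autoImplicit false
set_option linter.unusedSectionVars false

namespace Cfsg.Agent.Omega.OM.GNat

open Subgroup Cfsg Cfsg.Agent.PLocal.ThompsonJ Cfsg.Agent.ZN Cfsg.Agent.ZN.ChoiceBase Cfsg.Agent.ZN.ChoiceSit
open Cfsg.Agent.PLocal.ElemAbSup
open Cfsg.Agent.Omega.SQ1.Bau (mem_sup_comm card_sup_comm elem_comm elem_sq)
open Cfsg.Agent.Omega.NatPair (ap ap_zero' ap_one' ap_one ap_mul ext2 ap_inv_ap ap_inj)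
open Cfsg.Agent.Lib.SL2Mat
open Cfsg.Agent.Omega.SQ1.FFOne (MinH)
open Cfsg.Agent.Omega.NO3S.OneLine (NatC natC_of)
open Cfsg.Agent.Omega.NO3S.OneLine.NatC (acts_mul acts_inv acts_one acts_unique)
open Cfsg.Agent.Omega.OM.Lev.Nat (Wn Xn mem_Wn mem_Xn exists_up ap_z)
open Cfsg.Agent.Omega.OM.GLev
open Cfsg.Agent.Omega.OM.BIn (NXI)
open Cfsg.Agent.Omega.FFThm (NatK NatKM ActsSL OffM)
open Cfsg.Agent.Omega.FrameFF (cv)

universe u

/-- A subset of `SL₂(F)` closed under products and inverses which contains the upper unitriangular matrices and one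
matrix which is not upper triangular is everything. -/
theorem sl2_all {F : Type*} [Field F] (P : Matrix.SpecialLinearGroup (Fin 2) F → Prop)
    (hmul : ∀ A B, P A → P B → P (A * B)) (hinv : ∀ A, P A → P A⁻¹) (hup : ∀ c, P (up c))
    {A₀ : Matrix.SpecialLinearGroup (Fin 2) F} (h0 : P A₀) (hc : ent A₀ 1 0 ≠ 0) (A) : P A := by
  have hlo0 : P (lo (ent A₀ 1 0)) := by
    obtain ⟨a, d, h1⟩ : ∃ a d : F, A₀ = up a * lo (ent A₀ 1 0) * up d := ⟨_, _, eq_up_lo_up A₀ hc⟩
    have h2 : (up a)⁻¹ * A₀ * (up d)⁻¹ = lo (ent A₀ 1 0) := by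
      rw [mul_inv_eq_iff_eq_mul, inv_mul_eq_iff_eq_mul, ← mul_assoc]
      exact h1
    rw [← h2]
    exact hmul _ _ (hmul _ _ (hinv _ (hup _)) h0) (hinv _ (hup _))
  have hc' : -(ent A₀ 1 0)⁻¹ ≠ 0 := neg_ne_zero.2 (inv_ne_zero hc)
  have hwm : P (wm (-(ent A₀ 1 0)⁻¹) hc') := by
    rw [wm_eq]
    have e : -(-(ent A₀ 1 0)⁻¹)⁻¹ = ent A₀ 1 0 := by rw [inv_neg, neg_neg, inv_inv]
    rw [e]
    exact hmul _ _ (hmul _ _ hlo0 (hup _)) hlo0
  have hlo : ∀ c : F, P (lo c) := by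
    intro c
    have h1 := wm_up (-(ent A₀ 1 0)⁻¹) (-(c * (-(ent A₀ 1 0)⁻¹) ^ 2)) hc'
    have e : -(-(c * (-(ent A₀ 1 0)⁻¹) ^ 2) / (-(ent A₀ 1 0)⁻¹) ^ 2) = c := by
      field_simp
    rw [e] at h1
    have h2 : lo c = wm (-(ent A₀ 1 0)⁻¹) hc' * up (-(c * (-(ent A₀ 1 0)⁻¹) ^ 2)) *
        (wm (-(ent A₀ 1 0)⁻¹) hc')⁻¹ := by rw [h1, mul_inv_cancel_right]
    rw [h2]
    exact hmul _ _ (hmul _ _ hwm (hup _)) (hinv _ hwm)
  obtain ⟨a, b, c, d, rfl⟩ := exists_up_lo A
  exact hmul _ _ (hmul _ _ (hmul _ _ (hup a) (hlo b)) (hup c)) (hlo d)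

variable {G : Type u} [Group G] [Finite G]

section natc

variable {F : Type} [Field F] {T H V D : Subgroup G} {k : ℕ} (M : NatC F T H V D k)
include M

theorem cent_N [CharP F 2] (hm : MinH H T) {h : G} (hh : h ∈ H)
    {A : Fin k → Matrix.SpecialLinearGroup (Fin 2) F} (hA : M.Acts h A)
    (hD : ∀ d ∈ D, h * d = d * h) {i : Fin k} (hi : A i = 1) {n : G} (hn : n ∈ V)
    (hn0 : ∀ j, j ≠ i → M.nat.e n j = 0) : h * n = n * h := by
  classical
  have hneg : (-1 : F) = 1 := CharTwo.neg_eq 1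
  set B0 : Matrix.SpecialLinearGroup (Fin 2) F :=
    Cfsg.Agent.Lib.SL2Mat.mk 0 1 1 1 (by rw [zero_mul, one_mul, zero_sub]; exact hneg) with hB0
  set U : Fin k → Matrix.SpecialLinearGroup (Fin 2) F := Function.update 1 i B0 with hU
  obtain ⟨g, hg, hgA, hgD⟩ := M.nat.lift U
  have hgA' : M.Acts g U := hgA
  -- the commutator centralises `V`
  set x := g * h * g⁻¹ * h⁻¹ with hx
  have hxs : x ∈ M.stab := by
    refine ⟨mul_mem (mul_mem (mul_mem hg hh) (inv_mem hg)) (inv_mem hh), ?_, fun d hd => ?_⟩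
    · have h1 := acts_mul (inv_mem hh) (acts_mul (inv_mem hg) (acts_mul hh hgA' hA)
        (acts_inv hg hgA')) (acts_inv hh hA)
      have e : U * A * U⁻¹ * A⁻¹ = 1 := by
        funext j
        show U j * A j * (U j)⁻¹ * (A j)⁻¹ = 1
        by_cases hj : j = i
        · rw [hj, hi]
          group
        · have : U j = 1 := by rw [hU, Function.update_of_ne hj]; rfl
          rw [this]
          group
      rwa [e] at h1
    · have e1 : Commute g d := hgD d hd
      have e2 : Commute h d := hD d hd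
      exact (((e1.mul_left e2).mul_left e1.inv_left).mul_left e2.inv_left).eq
  have hxc : ∀ v ∈ V, x * v = v * x := fun v hv => M.cent_of_stab hm hxs hv
  -- choose `v`
  set y : Fin k → Fin 2 → F := Function.update 0 i ![M.nat.e n i 1, M.nat.e n i 0 + M.nat.e n i 1]
    with hy
  obtain ⟨v, hv, hev⟩ := M.nat.surj y
  have hgv := M.Vn g hg v hv
  have hhv := M.Vn h hh v hv
  -- `δ(v)`
  set δ := h * v * h⁻¹ * v⁻¹ with hδ
  have hδD : δ ∈ D := by
    rw [← M.nat.ker _ (mul_mem hhv (inv_mem hv)), M.map_div hhv hv]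
    funext j
    rw [Pi.sub_apply, hA v hv j, hev]
    by_cases hj : j = i
    · subst hj
      rw [hi, ap_one, sub_self]; rfl
    · have : y j = 0 := by rw [hy, Function.update_of_ne hj]; rfl
      rw [this]
      have e0 : ap (A j) 0 = 0 := by apply ext2 <;> simp [ap_zero', ap_one']
      rw [e0, sub_self]; rfl
  have e1 : h * (g * v * g⁻¹) * h⁻¹ = δ * (g * v * g⁻¹) := by
    have e2 : h * (g * v * g⁻¹) * h⁻¹ = x⁻¹ * (g * (h * v * h⁻¹) * g⁻¹) * x := by
      rw [hx]; group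
    have e3 : h * v * h⁻¹ = δ * v := by rw [hδ]; group
    have h4 : g * (h * v * h⁻¹) * g⁻¹ ∈ V := M.Vn g hg _ hhv
    have e5 : x⁻¹ * (g * (h * v * h⁻¹) * g⁻¹) * x = g * (h * v * h⁻¹) * g⁻¹ := by
      rw [mul_assoc, ← hxc _ h4, inv_mul_cancel_left]
    rw [e2, e5, e3]
    have e6 : g * (δ * v) * g⁻¹ = (g * δ * g⁻¹) * (g * v * g⁻¹) := by group
    rw [e6, hgD δ hδD, mul_inv_cancel_right]
  -- `h` commutes with `g v g⁻¹ v⁻¹`
  set c := g * v * g⁻¹ * v⁻¹ with hc
  have hcV : c ∈ V := mul_mem hgv (inv_mem hv)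
  have h6 : h * c * h⁻¹ = c := by
    have e7 : h * c * h⁻¹ = (h * (g * v * g⁻¹) * h⁻¹) * (h * v * h⁻¹)⁻¹ := by rw [hc]; group
    have e3 : h * v * h⁻¹ = δ * v := by rw [hδ]; group
    rw [e7, e1, e3, mul_inv_rev]
    have e8 : δ * (g * v * g⁻¹) * (v⁻¹ * δ⁻¹) = δ * c * δ⁻¹ := by rw [hc]; group
    rw [e8, M.Vcomm (M.DV hδD) hcV, mul_inv_cancel_right]
  -- `n = c d`
  have hd : c⁻¹ * n ∈ D := by
    rw [← M.nat.ker _ (mul_mem (inv_mem hcV) hn), M.nat.mul _ (inv_mem hcV) n hn, M.map_inv hcV, hc,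
      M.map_div hgv hv]
    funext j
    rw [Pi.add_apply, Pi.neg_apply, Pi.sub_apply, hgA' v hv j, hev]
    by_cases hj : j = i
    · subst hj
      rw [hU, Function.update_self]
      have hyj : y j = ![M.nat.e n j 1, M.nat.e n j 0 + M.nat.e n j 1] := by
        rw [hy, Function.update_self]
      have hB : ∀ z : Fin 2 → F, ap B0 z = ![z 1, z 0 + z 1] := by
        intro z
        apply ext2
        · rw [ap_zero', hB0, mk_00, mk_01, zero_mul, one_mul, zero_add]; rfl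
        · rw [ap_one', hB0, mk_10, mk_11, one_mul, one_mul]; rfl
      rw [hyj, hB]
      apply ext2
      · show -((M.nat.e n j 0 + M.nat.e n j 1) - M.nat.e n j 1) + M.nat.e n j 0 = 0
        ring
      · show -((M.nat.e n j 1 + (M.nat.e n j 0 + M.nat.e n j 1)) -
          (M.nat.e n j 0 + M.nat.e n j 1)) + M.nat.e n j 1 = 0
        ring
    · rw [hU, Function.update_of_ne hj]
      have : y j = 0 := by rw [hy, Function.update_of_ne hj]; rfl
      rw [this, hn0 j hj, Pi.one_apply, ap_one]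
      simp
  have e9 : n = c * (c⁻¹ * n) := by group
  have h7 : Commute h c := by
    show h * c = c * h
    calc h * c = h * c * h⁻¹ * h := by group
      _ = c * h := by rw [h6]
  have h8 : Commute h (c⁻¹ * n) := hD _ hd
  rw [e9]
  exact (h7.mul_right h8).eq

/-- the elements of a subgroup acting as `A` and centralising `D` -/
def Has (K : Subgroup G) (A : Fin k → Matrix.SpecialLinearGroup (Fin 2) F) : Prop :=
  ∃ l ∈ K, l ∈ H ∧ ActsSL M.nat.e V D l A

omit [Finite G] in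
theorem Has.mul {K : Subgroup G} {A B : Fin k → Matrix.SpecialLinearGroup (Fin 2) F} (hA : Has M K A)
    (hB : Has M K B) : Has M K (A * B) := by
  obtain ⟨a, ha, haH, haA, haD⟩ := hA
  obtain ⟨b, hb, hbH, hbB, hbD⟩ := hB
  refine ⟨a * b, mul_mem ha hb, mul_mem haH hbH, acts_mul (M := M) hbH haA hbB, fun d hd => ?_⟩
  have e1 : Commute a d := haD d hd
  have e2 : Commute b d := hbD d hd
  exact (e1.mul_left e2).eq

omit [Finite G] in
theorem Has.inv {K : Subgroup G} {A : Fin k → Matrix.SpecialLinearGroup (Fin 2) F} (hA : Has M K A) :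
    Has M K A⁻¹ := by
  obtain ⟨a, ha, haH, haA, haD⟩ := hA
  refine ⟨a⁻¹, inv_mem ha, inv_mem haH, acts_inv (M := M) haH haA, fun d hd => ?_⟩
  have e1 : Commute a d := haD d hd
  exact e1.inv_left.eq

omit [Finite G] in
theorem Has.one {K : Subgroup G} : Has M K 1 :=
  ⟨1, one_mem _, one_mem _, acts_one (M := M), fun d _ => by rw [one_mul, mul_one]⟩

omit [Finite G] in
theorem has_all {K : Subgroup G} (h : ∀ i (A : Matrix.SpecialLinearGroup (Fin 2) F), Has M K (Pi.mulSingle i A))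
    (A : Fin k → Matrix.SpecialLinearGroup (Fin 2) F) : Has M K A := by
  classical
  have key : ∀ s : Finset (Fin k), Has M K fun i => if i ∈ s then A i else 1 := by
    intro s
    induction s using Finset.induction_on with
    | empty =>
      have := Has.one M (K := K)
      convert this using 1
      funext i
      simp
    | insert j s hj ih =>
      have h1 := Has.mul M (h j (A j)) ih
      convert h1 using 1
      funext i
      by_cases hij : i = j
      · subst hij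
        simp [hj]
      · simp [Finset.mem_insert, hij]
  have := key Finset.univ
  convert this using 1
  funext i
  simp

end natc

section main

variable {F : Type} [Field F] [Finite F] [CharP F 2] {T H X B ZJ : Subgroup G} {AA : Set (Subgroup G)} {k : ℕ}

/-- the product of the lines is in `ZJ` -/
theorem line_le (h : GE T H X AA) (b : BZ T X AA B ZJ) (N : NatKM F T H (zl T H) (cv T H) k) (hk : 0 < k) {v : G}
    (hv : v ∈ zl T H) (hl : ∀ i, N.e v i 1 = 0) : v ∈ ZJ := by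
  refine (b.mem_ZJ v).2 ⟨h.VX hv, fun A hA a ha => ?_⟩
  by_cases hAQ : A ≤ o2 H
  · exact h.comm_Q a (hAQ ha) v hv
  · have hoff := h.offM hA hAQ
    obtain ⟨I, h1, h2⟩ := N.offM A (h.fam.le A hA) hoff
    exact (natC_of h.hm hk N.toNatK).cent_line h.hm (h.fam.le A hA) hoff.le h1 h2 hv hl ha

/-- some member of the family contains a full root group -/
theorem exists_root (h : GE T H X AA) (N : NatKM F T H (zl T H) (cv T H) k) (hk : 0 < k) {A : Subgroup G}
    (hA : A ∈ AA) (hAQ : ¬ A ≤ o2 H) :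
    ∃ j, ∀ c : F, ∃ a ∈ A, ActsSL N.e (zl T H) (cv T H) a (Pi.mulSingle j (up c)) := by
  classical
  set M := natC_of h.hm hk N.toNatK with hM
  obtain ⟨I, h1, h2⟩ := N.offM A (h.fam.le A hA) (h.offM hA hAQ)
  obtain ⟨i, hi⟩ : I.Nonempty := by
    by_contra hcon
    rw [Set.not_nonempty_iff_eq_empty] at hcon
    apply (h.offM hA hAQ).ne
    intro a ha
    obtain ⟨b, hb0, hb⟩ := h1 a ha
    have hb1 : b = 0 := by
      funext l
      exact hb0 l (by rw [hcon]; simp)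
    subst hb1
    have hs : a ∈ M.stab := by
      refine ⟨h.TH (h.fam.le A hA ha), fun w hw l => ?_, hb.2⟩
      have h5 : N.e (a * w * a⁻¹) l = ap (up ((0 : Fin k → F) l)) (N.e w l) := hb.1 w hw l
      rw [Pi.zero_apply, up_zero] at h5
      exact h5
    exact mem_centralizer_iff.2 fun w hw => (M.cent_of_stab h.hm hs hw).symm
  refine ⟨i, fun c => ?_⟩
  obtain ⟨a, ha, hac⟩ := h2 (Pi.single i c) fun l hl => by
    rw [Pi.single_eq_of_ne]
    rintro rfl
    exact hl hi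
  rw [NO3S.OneLine.single_acts] at hac
  exact ⟨a, ha, hac⟩

/-- **The block input.** -/
theorem exists_nxi (h : GE T H X AA) (b : BZ T X AA B ZJ) (N : NatKM F T H (zl T H) (cv T H) k) (hk : 0 < k)
    {A : Subgroup G} (hA : A ∈ AA) {j : Fin k}
    (hroot : ∀ c : F, ∃ a ∈ A, ActsSL N.e (zl T H) (cv T H) a (Pi.mulSingle j (up c))) :
    ∃ g, ∃ M' : NXI F B ZJ (Xn (natC_of h.hm hk N.toNatK) j ⊓ centralizer (cv T H : Set G))
      (Wn (natC_of h.hm hk N.toNatK) j) (cv T H) g, ∀ x, M'.π x = N.e x j := by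
  classical
  set M := natC_of h.hm hk N.toNatK with hM
  have hTH := h.TH
  have hAT := h.fam.le A hA
  have hDV : cv T H ≤ zl T H := M.DV
  have hDZ : cv T H ≤ ZJ := fun d hd => line_le h b N hk (hDV hd) fun i => by
    have : N.e d = 0 := (N.ker d (hDV hd)).2 hd
    rw [this]; rfl
  have hZX : ∀ z ∈ ZJ, z ∈ X := fun z hz => ((b.mem_ZJ z).1 hz).1
  have hVB : zl T H ≤ B := fun v hv => b.mem_B (h.QT (M.VQ hv)) fun z hz => h.Xc v (h.VX hv) z (hZX z hz)
  obtain ⟨w, hw, hwA, hwD⟩ := N.lift (Pi.mulSingle j (wm 1 one_ne_zero))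
  obtain ⟨a₁, ha₁, haA, haD⟩ := hroot 1
  have haH : a₁ ∈ H := hTH (hAT ha₁)
  set g := w * a₁ * w⁻¹ with hg
  have hgH : g ∈ H := mul_mem (mul_mem hw haH) (inv_mem hw)
  have hgA : M.Acts g (Pi.mulSingle j (lo (-1))) := by
    have h1 := acts_mul (M := M) (inv_mem hw) (acts_mul (M := M) haH hwA haA) (acts_inv (M := M) hw hwA)
    have e : (Pi.mulSingle j (wm (1 : F) one_ne_zero) : Fin k → Matrix.SpecialLinearGroup (Fin 2) F) *
        Pi.mulSingle j (up 1) * (Pi.mulSingle j (wm (1 : F) one_ne_zero))⁻¹ = Pi.mulSingle j (lo (-1)) := by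
      rw [← Pi.mulSingle_inv, ← Pi.mulSingle_mul, ← Pi.mulSingle_mul, wm_up, mul_inv_cancel_right]
      simp
    rw [e] at h1
    exact h1
  have hgD : ∀ d ∈ cv T H, g * d = d * g := fun d hd => by
    have e1 : Commute w d := hwD d hd
    have e2 : Commute a₁ d := haD d hd
    exact ((e1.mul_left e2).mul_left e1.inv_left).eq
  have hsurj : ∀ x : Fin 2 → F, ∃ v ∈ Wn M j, N.e v j = x := fun x => by
    obtain ⟨v, hv, e⟩ := N.surj (Function.update 0 j x)
    exact ⟨v, ⟨hv, fun i hi => by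
      show N.e v i = 0
      rw [e, Function.update_of_ne hi]; rfl⟩, by rw [e, Function.update_self]⟩
  have hupB : ∀ x ∈ B, ∃ c : Fin k → F, M.Acts x fun i => up (c i) := fun x hx =>
    exists_up M h.hm.syl (b.BT hx) fun v hv hl => b.cB hx (line_le h b N hk hv hl)
  refine ⟨g, {
    π := fun x => N.e x j
    mul := fun v hv u hu => by rw [N.mul v hv.1 u hu.1]; rfl
    ker := fun v hv => by
      rw [← N.ker v hv.1]
      constructor
      · intro h0
        funext i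
        by_cases hi : i = j
        · rw [hi]; exact h0
        · exact hv.2 i hi
      · intro h0; rw [h0]; rfl
    DN := fun d hd => ⟨hDV hd, fun i _ => by
      have : N.e d = 0 := (N.ker d (hDV hd)).2 hd
      show N.e d i = 0
      rw [this]; rfl⟩
    surj := hsurj
    el := isElementaryAbelian_iff.2 ⟨fun v hv u hu => M.Vcomm hv.1 hu.1, fun v hv => M.Vsq v hv.1⟩
    NB := fun v hv => hVB hv.1
    B2 := h.hm.syl.2.1.to_le b.BT
    zcB := b.zcB
    cB := fun x hx z hz => b.cB hx hz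
    wn := b.wn
    sylB := b.sylB
    N1 := ?_
    BY := ?_
    gY := ?_
    nN := ?_
    cD := fun l hl d hd => (mem_centralizer_iff.1 (mem_inf.1 hl).2 d hd).symm
    acts := ?_
    triv := ?_
    up := fun x hx => by
      obtain ⟨c, hc⟩ := hupB x hx
      exact ⟨c j, fun v hv => hc v hv.1 j⟩
    upc := fun c => by
      obtain ⟨a, ha, hac, -⟩ := hroot c
      refine ⟨a, b.A_le hA hAT ha, fun v hv => ?_⟩
      have h1 := hac v hv.1 j
      rwa [Pi.mulSingle_eq_same] at h1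
    gz := ?_
    gm := ?_ }, fun x => rfl⟩
  · -- `N1`
    intro v hv
    constructor
    · intro h0
      refine line_le h b N hk hv.1 fun i => ?_
      by_cases hi : i = j
      · rw [hi]; exact h0
      · have h1 : N.e v i = 0 := hv.2 i hi
        rw [h1]; rfl
    · intro hz
      have h1 : a₁ * v = v * a₁ := ((b.mem_ZJ v).1 hz).2 A hA a₁ ha₁
      have h2 := haA v hv.1 j
      rw [Pi.mulSingle_eq_same, h1, mul_inv_cancel_right] at h2
      have h3 := congrFun h2 0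
      rw [ap_zero'] at h3
      simpa using h3
  · -- `BY`
    intro x hx
    obtain ⟨c, hc⟩ := hupB x hx
    exact mem_inf.2 ⟨⟨hTH (b.BT hx), _, hc, fun i _ => ⟨c i, rfl⟩⟩,
      mem_centralizer_iff.2 fun d hd => (b.cB hx (hDZ hd)).symm⟩
  · exact mem_inf.2 ⟨⟨hgH, _, hgA, fun i hi => ⟨0, by rw [Pi.mulSingle_eq_of_ne hi, up_zero]⟩⟩,
      mem_centralizer_iff.2 fun d hd => (hgD d hd).symm⟩
  · -- `nN`
    rintro l hl v hv
    obtain ⟨⟨hlH, A', hA', -⟩, -⟩ := mem_inf.1 hl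
    refine ⟨M.Vn l hlH v hv.1, fun i hi => ?_⟩
    rw [hA' v hv.1 i, hv.2 i hi, ap_z]
  · -- `acts`
    rintro l hl
    obtain ⟨⟨-, A', hA', -⟩, -⟩ := mem_inf.1 hl
    exact ⟨A' j, fun v hv => hA' v hv.1 j⟩
  · -- `triv`
    rintro l hl htr v hv
    obtain ⟨⟨hlH, A', hA', -⟩, hlD⟩ := mem_inf.1 hl
    have h1 : A' j = 1 := by
      apply ap_inj
      intro x
      obtain ⟨u, hu, e⟩ := hsurj x
      have h2 := hA' u hu.1 j
      have h3 : N.e (l * u * l⁻¹) j = N.e u j := htr u hu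
      rw [ap_one, ← e]
      exact h2.symm.trans h3
    exact cent_N M h.hm hlH hA' (fun d hd => (mem_centralizer_iff.1 hlD d hd).symm) h1 hv.1 hv.2
  · -- `gz`
    intro z hz
    have hy : w⁻¹ * z * w ∈ Y0 H X AA := by
      have h1 := h.mem_Y0_of (hZX z hz) ((b.mem_ZJ z).1 hz).2
      have h2 := (mem_normalizer_iff.1 (h.norm_Y0 (inv_mem hw)) z).1 h1
      rwa [inv_inv] at h2
    obtain ⟨v, hv, hvy⟩ := h.Y0_comm hA hy
    have h3 := hvy a₁⁻¹ (inv_mem ha₁)
    have e : g⁻¹ * z * g * z⁻¹ = w * (a₁⁻¹ * (w⁻¹ * z * w) * a₁⁻¹⁻¹ * (w⁻¹ * z * w)⁻¹) * w⁻¹ := by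
      rw [hg]; group
    rw [e, h3]
    have haAi := acts_inv (M := M) haH haA
    have hV1 := M.Vn a₁⁻¹ (inv_mem haH) v hv
    have hnV : a₁⁻¹ * v * a₁⁻¹⁻¹ * v⁻¹ ∈ zl T H := mul_mem hV1 (inv_mem hv)
    refine ⟨M.Vn w hw _ hnV, fun i hi => ?_⟩
    have h4 := hwA _ hnV i
    have h5 : N.e (a₁⁻¹ * v * a₁⁻¹⁻¹ * v⁻¹) i = 0 := by
      have h6 : N.e (a₁⁻¹ * v * a₁⁻¹⁻¹ * v⁻¹) = N.e (a₁⁻¹ * v * a₁⁻¹⁻¹) - N.e v := M.map_div hV1 hv
      have h7 : N.e (a₁⁻¹ * v * a₁⁻¹⁻¹) i =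
        ap ((Pi.mulSingle j (up 1) : Fin k → Matrix.SpecialLinearGroup (Fin 2) F)⁻¹ i) (N.e v i) := haAi v hv i
      rw [h6, Pi.sub_apply, h7, Pi.inv_apply, Pi.mulSingle_eq_of_ne hi, inv_one, ap_one, sub_self]
    rw [h5, ap_z] at h4
    exact h4
  · -- `gm`
    obtain ⟨v, hv, e⟩ := hsurj ![1, 0]
    refine ⟨v, hv, by rw [e]; rfl, ?_⟩
    have h1 : N.e (g * v * g⁻¹) j =
      ap ((Pi.mulSingle j (lo (-1)) : Fin k → Matrix.SpecialLinearGroup (Fin 2) F) j) (N.e v j) := hgA v hv.1 j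
    rw [h1, Pi.mulSingle_eq_same, e, ap_one']
    simp

/-- conjugates by `t ∈ T` of elements acting on one summand -/
theorem has_conj (M : NatC F T H (zl T H) (cv T H) k) (hTH : T ≤ H) {K : Subgroup G} (hTK : T ≤ K) {i j : Fin k}
    {c : F} (hc : c ≠ 0) (hj : Has M K (Pi.mulSingle j (lo c))) :
    ∃ A : Matrix.SpecialLinearGroup (Fin 2) F, ent A 1 0 ≠ 0 ∧ Has M K (Pi.mulSingle i A) := by
  classical
  obtain ⟨t, ht, htr⟩ := M.nat.trans j i
  obtain ⟨l, hlK, hlH, hlA, hlD⟩ := hj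
  have htH := hTH ht
  have hti := inv_mem htH
  obtain ⟨B', hB'⟩ := M.nat.norm t htH l hlH _ hlA
  have hxH : t * l * t⁻¹ ∈ H := mul_mem (mul_mem htH hlH) hti
  -- the permutation of `t`
  obtain ⟨σ, hσ⟩ := M.nat.perm t htH
  have hσj : σ j = i := by
    obtain ⟨v, hv, e⟩ := M.nat.surj (Function.update (fun _ => ![1, 0]) j 0)
    have h1 : M.nat.e v j = 0 := by rw [e, Function.update_self]
    have h2 := (htr v hv).2 h1
    by_contra hne
    have h3 : σ (σ.symm i) = i := σ.apply_symm_apply i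
    have h4 : σ.symm i ≠ j := fun h => hne (by rw [← h, h3])
    have h5 := (hσ v hv (σ.symm i)).1 (by rw [h3]; exact h2)
    rw [e, Function.update_of_ne h4] at h5
    have := congrFun h5 0
    simp at this
  -- `n = l v l⁻¹ v⁻¹` lives on `j`
  have hn : ∀ v ∈ zl T H, ∀ i', i' ≠ i → M.nat.e (t * l * t⁻¹ * v * (t * l * t⁻¹)⁻¹) i' = M.nat.e v i' := by
    intro v hv i' hi'
    have hv' : t⁻¹ * v * t ∈ zl T H := by
      have := M.Vn t⁻¹ hti v hv
      rwa [inv_inv] at this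
    have h1 := M.Vn l hlH _ hv'
    have hnV : l * (t⁻¹ * v * t) * l⁻¹ * (t⁻¹ * v * t)⁻¹ ∈ zl T H := mul_mem h1 (inv_mem hv')
    have h3 : σ (σ.symm i') = i' := σ.apply_symm_apply i'
    have h4 : σ.symm i' ≠ j := fun h => hi' (by rw [← h3, h, hσj])
    have h5 : M.nat.e (l * (t⁻¹ * v * t) * l⁻¹ * (t⁻¹ * v * t)⁻¹) (σ.symm i') = 0 := by
      rw [M.map_div h1 hv', Pi.sub_apply, hlA _ hv' (σ.symm i'), Pi.mulSingle_eq_of_ne h4, ap_one, sub_self]
    have h6 := (hσ _ hnV (σ.symm i')).2 h5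
    rw [h3] at h6
    have e : t * (l * (t⁻¹ * v * t) * l⁻¹ * (t⁻¹ * v * t)⁻¹) * t⁻¹ =
      t * l * t⁻¹ * v * (t * l * t⁻¹)⁻¹ * v⁻¹ := by group
    rw [e, M.map_div (M.Vn _ hxH v hv) hv, Pi.sub_apply, sub_eq_zero] at h6
    exact h6
  have hB1 : ∀ i', i' ≠ i → B' i' = 1 := by
    intro i' hi'
    apply ap_inj
    intro x
    obtain ⟨v, hv, e⟩ := M.nat.surj fun _ => x
    have h1 := hB' v hv i'
    rw [hn v hv i' hi'] at h1
    have e' : M.nat.e v i' = x := by rw [e]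
    rw [e'] at h1
    rw [ap_one]
    exact h1.symm
  have hBs : B' = Pi.mulSingle i (B' i) := by
    funext i'
    by_cases hi' : i' = i
    · subst hi'; rw [Pi.mulSingle_eq_same]
    · rw [Pi.mulSingle_eq_of_ne hi', hB1 i' hi']
  refine ⟨B' i, fun h0 => ?_, t * l * t⁻¹, mul_mem (mul_mem (hTK ht) hlK) (inv_mem (hTK ht)), hxH, ?_, ?_⟩
  · -- the line
    obtain ⟨τ, hτ⟩ := M.nat.line t ht
    have hτj : τ j = i := by
      obtain ⟨v, hv, e⟩ := M.nat.surj (Function.update (fun _ => ![0, 1]) j 0)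
      have h1 : M.nat.e v j = 0 := by rw [e, Function.update_self]
      have h2 := (htr v hv).2 h1
      by_contra hne
      have h3 : τ (τ.symm i) = i := τ.apply_symm_apply i
      have h4 : τ.symm i ≠ j := fun h => hne (by rw [← h, h3])
      have h5 := (hτ v hv (τ.symm i)).1 (by rw [h3, h2]; rfl)
      rw [e, Function.update_of_ne h4] at h5
      simp at h5
    obtain ⟨v, hv, e⟩ := M.nat.surj (Function.update 0 j ![1, 0])
    have h1 : M.nat.e (t * v * t⁻¹) i 1 = 0 := by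
      rw [← hτj]
      refine (hτ v hv j).2 ?_
      rw [e, Function.update_self]; rfl
    have h2 : M.nat.e (l * v * l⁻¹) j 1 = c := by
      rw [hlA v hv j, Pi.mulSingle_eq_same, ap_one', e, Function.update_self]
      simp
    have h3 : M.nat.e (t * (l * v * l⁻¹) * t⁻¹) i 1 ≠ 0 := by
      rw [← hτj]
      intro h4
      exact hc (h2.symm.trans ((hτ _ (M.Vn l hlH v hv) j).1 h4))
    apply h3
    have e1 : t * (l * v * l⁻¹) * t⁻¹ = t * l * t⁻¹ * (t * v * t⁻¹) * (t * l * t⁻¹)⁻¹ := by group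
    rw [e1, hB' _ (M.Vn t htH v hv) i, ap_one', h0, h1]
    simp
  · rw [← hBs]
    exact hB'
  · intro d hd
    have h1 := M.Dn t⁻¹ hti d hd
    rw [inv_inv] at h1
    have h2 := hlD _ h1
    have h3 := congrArg (fun x => t * x * t⁻¹) h2
    simpa [mul_assoc] using h3

/-- `H = ⟨T, L⟩` -/
theorem le_sup (h : GE T H X AA) (N : NatKM F T H (zl T H) (cv T H) k) (hk : 0 < k)
    {L : Subgroup G} {j : Fin k}
    (hL : L ≤ Xn (natC_of h.hm hk N.toNatK) j ⊓ centralizer (cv T H : Set G))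
    (hcov : ∀ A : Matrix.SpecialLinearGroup (Fin 2) F, ∃ l ∈ L, ∀ v ∈ Wn (natC_of h.hm hk N.toNatK) j,
      N.e (l * v * l⁻¹) j = ap A (N.e v j)) : H ≤ T ⊔ L := by
  classical
  set M := natC_of h.hm hk N.toNatK with hM
  have hTH := h.TH
  have hLH : L ≤ H := fun l hl => (mem_inf.1 (hL hl)).1.1
  have hunip : ∀ c : Fin k → F, Has M (T ⊔ L) fun i => up (c i) := by
    intro c
    obtain ⟨t, ht, hc⟩ := N.unip c
    exact ⟨t, mem_sup_left ht, hTH ht, hc⟩
  have hup1 : ∀ (i : Fin k) (c : F), Has M (T ⊔ L) (Pi.mulSingle i (up c)) := by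
    intro i c
    have := hunip (Pi.single i c)
    rwa [NO3S.OneLine.single_acts] at this
  -- the `j`-th factor
  have hjj : ∀ A : Matrix.SpecialLinearGroup (Fin 2) F, Has M (T ⊔ L) (Pi.mulSingle j A) := by
    intro A₀
    obtain ⟨l, hl, hlA⟩ := hcov A₀
    obtain ⟨⟨hlH, A', hA', hA''⟩, hlD⟩ := mem_inf.1 (hL hl)
    have h1 : A' j = A₀ := by
      apply ap_inj
      intro x
      obtain ⟨v, hv, e⟩ := N.surj (Function.update 0 j x)
      have hvW : v ∈ Wn M j := ⟨hv, fun i hi => by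
        show N.e v i = 0
        rw [e, Function.update_of_ne hi]; rfl⟩
      have h2 := hA' v hv j
      have h3 := hlA v hvW
      have e' : N.e v j = x := by rw [e, Function.update_self]
      rw [e'] at h3
      have e'' : M.nat.e v j = x := e'
      rw [e''] at h2
      exact h2.symm.trans h3
    have hch : ∃ c : Fin k → F, ∀ i, i ≠ j → A' i = up (c i) := by
      have h4 : ∀ i, ∃ c, i ≠ j → A' i = up c := fun i => by
        by_cases hi : i = j
        · exact ⟨0, fun h => absurd hi h⟩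
        · obtain ⟨c, hc⟩ := hA'' i hi
          exact ⟨c, fun _ => hc⟩
      choose c hc using h4
      exact ⟨c, hc⟩
    obtain ⟨c, hc⟩ := hch
    have h5 : Has M (T ⊔ L) A' :=
      ⟨l, mem_sup_right hl, hlH, hA', fun d hd => (mem_centralizer_iff.1 hlD d hd).symm⟩
    have h6 := Has.mul M h5 (Has.inv M (hunip fun i => if i = j then 0 else c i))
    convert h6 using 1
    funext i
    by_cases hi : i = j
    · subst hi
      simp [Pi.mul_apply, Pi.inv_apply, h1, up_zero]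
    · rw [Pi.mulSingle_eq_of_ne hi, Pi.mul_apply, Pi.inv_apply, hc i hi, if_neg hi, mul_inv_cancel]
  have hall : ∀ i (A : Matrix.SpecialLinearGroup (Fin 2) F), Has M (T ⊔ L) (Pi.mulSingle i A) := by
    intro i
    obtain ⟨A₀, hA₀, hh⟩ := has_conj M hTH (K := T ⊔ L) le_sup_left (i := i) one_ne_zero (hjj (lo 1))
    refine sl2_all (fun A => Has M (T ⊔ L) (Pi.mulSingle i A)) (fun A B hA hB => ?_) (fun A hA => ?_) (hup1 i) hh hA₀
    · rw [Pi.mulSingle_mul]
      exact Has.mul M hA hB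
    · rw [Pi.mulSingle_inv]
      exact Has.inv M hA
  have hgen : H ≤ (T ⊔ L) ⊔ M.stab := by
    refine N.gen _ (le_sup_left.trans le_sup_left) fun x hx A hA => ?_
    obtain ⟨l, hlK, hlH, hlA, hlD⟩ := has_all M hall A
    have h1 : l⁻¹ * x ∈ M.stab := by
      refine ⟨mul_mem (inv_mem hlH) hx, ?_, fun d hd => ?_⟩
      · have h2 := acts_mul (M := M) hx (acts_inv (M := M) hlH hlA) hA.1
        rwa [inv_mul_cancel] at h2
      · have e1 : Commute l d := hlD d hd
        have e2 : Commute x d := hA.2 d hd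
        exact (e1.inv_left.mul_left e2).eq
    have e : x = l * (l⁻¹ * x) := by group
    rw [e]
    exact mul_mem (mem_sup_left hlK) (mem_sup_right h1)
  obtain ⟨M₀, hM₀, huniq⟩ := h.hm.uniq
  by_contra hcon
  apply hM₀
  have h1 : T ⊔ L ≤ M₀ := huniq _ le_sup_left (sup_le hTH hLH) fun e => hcon e.ge
  have h2 : M.stab ⊔ T ≤ M₀ := huniq _ le_sup_right (sup_le (fun x hx => hx.1) hTH) (M.stab_sup_ne h.hm.syl)
  exact hgen.trans (sup_le h1 (le_sup_left.trans h2))

/-- **Natural blocks.** -/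
theorem exists_pb (h : GE T H X AA) (b : BZ T X AA B ZJ) (N : NatKM F T H (zl T H) (cv T H) k) (hk : 0 < k)
    (hex : ∃ A ∈ AA, ¬ A ≤ o2 H) :
    ∃ L N' N₁ D', B ≤ L ∧ L ≤ H ∧ PB B L N' N₁ D' (Nat.card F) ∧ H ≤ T ⊔ L := by
  obtain ⟨A, hA, hAQ⟩ := hex
  obtain ⟨j, hroot⟩ := exists_root h N hk hA hAQ
  obtain ⟨g, M', hM'⟩ := exists_nxi h b N hk hA hroot
  obtain ⟨L, h1, h2, h3, h4⟩ := M'.exists_pb
  refine ⟨L, _, _, _, h1, h2.trans fun l hl => (mem_inf.1 hl).1.1, h3, le_sup h N hk h2 fun A₀ => ?_⟩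
  obtain ⟨l, hl, hlA⟩ := h4 A₀
  refine ⟨l, hl, fun v hv => ?_⟩
  rw [← hM', ← hM']
  exact hlA v hv

end main

end Cfsg.Agent.Omega.OM.GNat
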