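import Cfsg.Agent.Omega.OM.FrSym
import Cfsg.Agent.Omega.OM.Lev.SMin
import Cfsg.Agent.Omega.OM.Lev.Uni

/-!
# The frame `FrL` for the symmetric blocks (`q = 2`: `S₃ ≀`, `S_{2^m+1} ≀`)

`OM/FrSym.lean` over `SIn.In` (`J` in place of `J(T)`, `Z` in place of `Ω₁(Z(J(T)))`, `B = C_T(Z)`), `X ≥ V` elementary
abelian:

* `fb` : a minimal block `k : Blk H T V Z d r i L` is an FF-block `FB B L (N i) ⟨d i⟩ 2` if `Ω₁(Z(B)) ≤ Z`; `block`,
  `mainBlk` : the blocks of LEMMA K; `zc_BB` : `Ω₁(Z(B)) ≤ Z` if `Z ≤ V`;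
* `exists_A` : a best offender `A ≤ J` on `X` which acts on `V` only on `N i`;
* `frame` : `FrL B Q V X Z L N ⟨d i⟩ (C i) A 2` if `Z ≤ V`.
-/

set_option autoImplicit false

namespace Cfsg.Agent.Omega.OM.Lev.SFr

open Subgroup Cfsg Cfsg.Agent.PLocal.ThompsonJ Cfsg.Agent.ZN Cfsg.Agent.ZN.ChoiceBase
open Cfsg.Agent.PLocal.ElemAbSup
open Cfsg.Agent.Omega.SQ1.Bau (elem_comm elem_sq mem_sup_comm card_sup_comm)
open Cfsg.Agent.Omega.SQ1.BauS (Sim PermR)
open Cfsg.Agent.Omega.OM.BlockUniq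
open Cfsg.Agent.Omega.OM.Uni (Md FB)
open Cfsg.Agent.Omega.OM.Lev.Uni (FrL Best fullX)
open Cfsg.Agent.Omega.FFThm (ElemM)
open Cfsg.Agent.Omega.OM.FrSym (CC N_le_CC CC_le fix_of fix_iff mem_cent CC_eq card_two_mul exists_fix)
open Cfsg.Agent.Omega.OM.Lev.SIn
open scoped Pointwise commutatorElement

universe u w

variable {G : Type u} [Group G] {H T Q V J Z : Subgroup G} {ι : Type w} {N : ι → Subgroup G} {d t r : ι → G}

theorem mem_zp (h : In H T Q V J Z N d t r) {i : ι} {x : G} (hx : x ∈ zpowers (d i)) : x = 1 ∨ x = d i :=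
  Blk.mem_zp h hx

theorem d_sq (h : In H T Q V J Z N d t r) (i : ι) : d i * d i = 1 := h.mulself (h.dV i)

theorem card_zp (h : In H T Q V J Z N d t r) (i : ι) : Nat.card (zpowers (d i)) = 2 := by
  rw [Nat.card_zpowers]
  exact orderOf_eq_prime (by rw [pow_two]; exact d_sq h i) (h.d1 i)

/-- `t i` centralises `C i`. -/
theorem t_CC (h : In H T Q V J Z N d t r) {i : ι} {c : G} (hc : c ∈ CC N i) : t i * c = c * t i := by
  have h1 : CC N i ≤ centralizer ({t i} : Set G) := CC_le fun j hj =>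
    fix_of fun x hx => h.t_N' hj hx
  exact mem_cent.1 (h1 hc)

theorem CC_le_V (h : In H T Q V J Z N d t r) (i : ι) : CC N i ≤ V := CC_le fun j _ => h.NV j

theorem split_CC (h : In H T Q V J Z N d t r) (hN : V ≤ ⨆ i, N i) (i : ι) {v : G} (hv : v ∈ V) :
    ∃ n ∈ N i, ∃ c ∈ CC N i, v = n * c := by
  have h1 : V ≤ N i ⊔ CC N i := by
    refine hN.trans (iSup_le fun j => ?_)
    by_cases hj : j = i
    · subst hj; exact le_sup_left
    · exact (N_le_CC hj).trans le_sup_right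
  exact mem_sup_comm (fun a ha b hb => h.Vcomm a (h.NV i ha) b (CC_le_V h i hb)) (h1 hv)

/-- An element of `⨆ N j` fixed by all `t j` is a product of elements `d j`. -/
theorem mem_D (h : In H T Q V J Z N d t r) [Finite G] (s : Set ι) {v : G} (hv : v ∈ ⨆ j ∈ s, N j)
    (hfix : ∀ j, t j * v * (t j)⁻¹ = v) : v ∈ Subgroup.closure (d '' s) := by
  classical
  have := h.finite_index
  have := Fintype.ofFinite ι
  -- remove the moved coordinates one by one
  have key : ∀ F : Finset ι, ∀ v, v ∈ ⨆ j ∈ F, N j → (∀ j, t j * v * (t j)⁻¹ = v) →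
      v ∈ Subgroup.closure (d '' (F : Set ι)) := by
    intro F
    induction F using Finset.induction_on with
    | empty =>
      intro v hv _
      have : v = 1 := by simpa using hv
      rw [this]; exact one_mem _
    | insert i F hi ih =>
      intro v hv hf
      rw [Finset.iSup_insert] at hv
      have hFV : (⨆ j ∈ F, N j) ≤ V := iSup₂_le fun j _ => h.NV j
      obtain ⟨n, hn, c, hc, rfl⟩ := mem_sup_comm (fun a ha b hb => h.Vcomm a (h.NV i ha) b (hFV hb)) hv
      have hcC : c ∈ CC N i := by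
        have : (⨆ j ∈ F, N j) ≤ CC N i := iSup₂_le fun j hj => N_le_CC fun e => hi (e ▸ hj)
        exact this hc
      have h1 : t i * n * (t i)⁻¹ = n := by
        have h2 := hf i
        have e : t i * (n * c) * (t i)⁻¹ = (t i * n * (t i)⁻¹) * (t i * c * (t i)⁻¹) := by group
        rw [e, fix_iff.2 (t_CC h hcC)] at h2
        exact mul_right_cancel h2
      have hnd := h.t_ne i hn h1
      have hnfix : ∀ j, t j * n * (t j)⁻¹ = n := by
        intro j
        rcases hnd with h2 | h2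
        · rw [h2]; group
        · rw [h2]; exact h.t_d' i j
      have hcfix : ∀ j, t j * c * (t j)⁻¹ = c := by
        intro j
        have h2 := hf j
        have e : t j * (n * c) * (t j)⁻¹ = (t j * n * (t j)⁻¹) * (t j * c * (t j)⁻¹) := by group
        rw [e, hnfix j] at h2
        exact mul_left_cancel h2
      have h3 := ih c hc hcfix
      refine mul_mem ?_ ?_
      · rcases hnd with h2 | h2
        · rw [h2]; exact one_mem _
        · rw [h2]; exact subset_closure ⟨i, by simp, rfl⟩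
      · refine closure_mono (Set.image_mono ?_) h3
        intro x hx; simp only [Finset.coe_insert]; exact Or.inr hx
  have h1 := key (Set.toFinset s) v (by simpa using hv) hfix
  simpa using h1

/-- `r i` fixes the elements of `C i` fixed by all `t j`. -/
theorem r_CC (h : In H T Q V J Z N d t r) [Finite G] {i : ι} {c : G} (hc : c ∈ CC N i)
    (hfix : ∀ j, t j * c * (t j)⁻¹ = c) : r i * c = c * r i := by
  rw [CC_eq] at hc
  have h1 := mem_D h _ hc hfix
  have h2 : Subgroup.closure (d '' ({i}ᶜ : Set ι)) ≤ centralizer ({r i} : Set G) := by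
    rw [closure_le]
    rintro _ ⟨j, hj, rfl⟩
    exact mem_cent.2 (fix_iff.1 (h.r_d' (fun e => hj (e ▸ rfl))))
  exact mem_cent.1 (h2 h1)

theorem dir (h : In H T Q V J Z N d t r) [Finite G] (i : ι) : N i ⊓ CC N i = ⊥ := by
  rw [eq_bot_iff]
  rintro x ⟨hx, hc⟩
  rw [mem_bot]
  rcases h.t_ne i hx (fix_iff.2 (t_CC h hc)) with h1 | h1
  · exact h1
  · exfalso
    have h2 : ∀ j, t j * x * (t j)⁻¹ = x := fun j => by rw [h1]; exact h.t_d' i j
    have h3 := r_CC h hc h2
    rw [h1] at h3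
    exact h.r_d_ne i (fix_iff.2 h3)

theorem C0 (h : In H T Q V J Z N d t r) [Finite G] (hN : V ≤ ⨆ i, N i) {x : G} (hx : x ∈ V)
    (hc : ∀ i, x ∈ CC N i) : x = 1 := by
  classical
  have hfix : ∀ j, t j * x * (t j)⁻¹ = x := fun j => fix_iff.2 (t_CC h (hc j))
  have hr : ∀ i, r i * x = x * r i := fun i => r_CC h (hc i) hfix
  have := h.finite_index
  have := Fintype.ofFinite ι
  -- `x` is a product of `d j`, fixed by all `r i`
  have key : ∀ F : Finset ι, ∀ v, v ∈ ⨆ j ∈ F, N j → (∀ j, t j * v * (t j)⁻¹ = v) →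
      (∀ i, r i * v = v * r i) → v = 1 := by
    intro F
    induction F using Finset.induction_on with
    | empty =>
      intro v hv _ _
      simpa using hv
    | insert i F hi ih =>
      intro v hv hf hrv
      rw [Finset.iSup_insert] at hv
      have hFV : (⨆ j ∈ F, N j) ≤ V := iSup₂_le fun j _ => h.NV j
      obtain ⟨n, hn, c, hc, rfl⟩ := mem_sup_comm (fun a ha b hb => h.Vcomm a (h.NV i ha) b (hFV hb)) hv
      have hcC : c ∈ CC N i := by
        have : (⨆ j ∈ F, N j) ≤ CC N i := iSup₂_le fun j hj => N_le_CC fun e => hi (e ▸ hj)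
        exact this hc
      have h1 : t i * n * (t i)⁻¹ = n := by
        have h2 := hf i
        have e : t i * (n * c) * (t i)⁻¹ = (t i * n * (t i)⁻¹) * (t i * c * (t i)⁻¹) := by group
        rw [e, fix_iff.2 (t_CC h hcC)] at h2
        exact mul_right_cancel h2
      have hnd := h.t_ne i hn h1
      have hnfix : ∀ j, t j * n * (t j)⁻¹ = n := by
        intro j
        rcases hnd with h2 | h2
        · rw [h2]; group
        · rw [h2]; exact h.t_d' i j
      have hcfix : ∀ j, t j * c * (t j)⁻¹ = c := by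
        intro j
        have h2 := hf j
        have e : t j * (n * c) * (t j)⁻¹ = (t j * n * (t j)⁻¹) * (t j * c * (t j)⁻¹) := by group
        rw [e, hnfix j] at h2
        exact mul_left_cancel h2
      have hrc := r_CC h hcC hcfix
      have hn1 : n = 1 := by
        rcases hnd with h2 | h2
        · exact h2
        · exfalso
          have h3 := hrv i
          have h4 : r i * n = n * r i := by
            have h5 : r i * n * c = n * r i * c := by
              rw [mul_assoc, h3, mul_assoc, ← hrc]; group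
            exact mul_right_cancel h5
          rw [h2] at h4
          exact h.r_d_ne i (fix_iff.2 h4)
      subst hn1
      rw [one_mul] at hf hrv ⊢
      exact ih c hc hf hrv
  exact key Finset.univ x (by simpa using hN hx) hfix hr

/-! ### The group `A i` -/

/-- `a ∈ J` centralises `N j` or acts on it as `t j`. -/
theorem J_N (h : In H T Q V J Z N d t r) {a : G} (ha : a ∈ J) (j : ι) :
    (∀ v ∈ N j, a * v = v * a) ∨ ∀ v ∈ N j, a * v * a⁻¹ = t j * v * (t j)⁻¹ := by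
  rcases (h.EE_good (h.Jt ha)).actN j with h1 | h1
  · exact Or.inl fun v hv => fix_iff.1 (h1 v hv)
  · exact Or.inr h1

/-! ### The blocks -/

variable {i : ι} {L : Subgroup G}

theorem B_fix (h : In H T Q V J Z N d t r) [Finite G] {b : G} (hb : b ∈ BB T Z) (i : ι) : b * d i = d i * b :=
  fix_iff.1 ((h.EE_good (h.bau_EE hb)).fixd i)

theorem mem_QQ {b : G} (hb : b ∈ BB T Z) : b ∈ QQ T Z N i ↔ ∀ v ∈ N i, b * v = v * b := by
  rw [QQ, mem_inf, mem_centralizer_iff]
  exact ⟨fun h1 v hv => (h1.2 v hv).symm, fun h1 => ⟨hb, fun v hv => (h1 v hv).symm⟩⟩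

theorem B_comm (h : In H T Q V J Z N d t r) [Finite G] {b v : G} (hb : b ∈ BB T Z) (hv : v ∈ N i) :
    b * v * b⁻¹ * v⁻¹ ∈ zpowers (d i) := by
  rcases (h.EE_good (h.bau_EE hb)).actN i with h1 | h1
  · rw [h1 v hv, mul_inv_cancel]; exact one_mem _
  · rw [h1 v hv]
    rcases h.t_comm i v (h.NV i hv) with h2 | h2
    · rw [h2, mul_inv_cancel]; exact one_mem _
    · rw [h2, mul_inv_cancel_right]; exact mem_zpowers _

theorem NB (h : In H T Q V J Z N d t r) [Finite G] (i : ι) : N i ≤ BB T Z := le_sup_right.trans (Blk.VV_le_B h)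

theorem md (h : In H T Q V J Z N d t r) [Finite G] (i : ι) : Md (BB T Z) (N i) (zpowers (d i)) 2 where
  VB := NB h i
  el := isElementaryAbelian_mono h.Velem (h.NV i)
  ZV := (zpowers_le).2 (h.dN i)
  cZ := fun b hb z hz => by
    rcases mem_zp h hz with h1 | h1
    · rw [h1, mul_one, one_mul]
    · rw [h1]; exact B_fix h hb i
  com := fun b hb v hv => B_comm h hb hv
  free := fun b hb v hv hvZ hc => by
    by_contra hcon
    have h1 : b ∉ QQ T Z N i := fun h2 => hcon ((mem_QQ hb).1 h2)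
    rcases h.B_ne hb h1 hv (fix_iff.2 hc) with h2 | h2
    · exact hvZ (by rw [h2]; exact one_mem _)
    · exact hvZ (by rw [h2]; exact mem_zpowers _)
  ne := by
    refine ⟨t i, h.t_bau i, ?_⟩
    by_contra hcon
    push Not at hcon
    exact h.t_not_QQ i ((mem_QQ (h.t_bau i)).2 hcon)
  card := by rw [h.cardN, card_zp h]
  cardB := by
    have h1 := Blk.relIndex_QQ (i := i) h
    rw [Subgroup.relIndex] at h1
    have h3 := ((QQ T Z N i).subgroupOf (BB T Z)).card_mul_index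
    rw [Nat.card_congr (Subgroup.subgroupOfEquivOfLe (show QQ T Z N i ≤ BB T Z from inf_le_left)).toEquiv, h1] at h3
    rw [← h3, mul_comm]
    exact le_rfl
  one := one_lt_two


/-- The kernel of a best offender on a block module is a best offender. -/
theorem best_cut [Finite G] {B V' Z X E : Subgroup G} {q : ℕ} (h : Md B V' Z q)
    (hX : ∀ x ∈ X, ∀ y ∈ X, x * y = y * x) (hVX : V' ≤ X) (hE : E ≤ B) (hb : Best X E) :
    Best X (E ⊓ centralizer (V' : Set G)) := by
  rcases fullX h hX hVX hE hb with h0 | ⟨-, h2, h3, h4⟩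
  · have e : E ⊓ centralizer (V' : Set G) = E := inf_eq_left.2 fun a ha =>
      mem_centralizer_iff.2 fun v hv => (h0 a ha v hv).symm
    rw [e]; exact hb
  · intro F hF1 hF2
    refine (hb F ?_ (hF2.trans inf_le_left)).trans ?_
    · refine le_trans (le_inf (le_inf inf_le_left (inf_le_right.trans (centralizer_le hVX))) inf_le_right) hF1
    · rw [h4]
      have h5 := card_sup_comm (A := V') (B := X ⊓ centralizer (E : Set G)) fun a ha b hb' => hX a (hVX ha) b hb'.1
      have h6 : V' ⊓ (X ⊓ centralizer (E : Set G)) = Z := by rw [← inf_assoc, inf_eq_left.2 hVX, h2]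
      rw [h6, h.card] at h5
      have hp : 0 < Nat.card Z := Nat.card_pos
      have h7 : Nat.card ↥(V' ⊔ (X ⊓ centralizer (E : Set G))) = q * Nat.card ↥(X ⊓ centralizer (E : Set G)) := by
        refine Nat.eq_of_mul_eq_mul_right hp ?_
        rw [h5]; ring
      rw [h7, ← h3]
      exact le_of_eq (by ring)

/-- **There is a best offender `A ≤ J` on `X` acting only on `N i`.** -/
theorem exists_A (h : In H T Q V J Z N d t r) [Finite G] {X : Subgroup G} (hX : ∀ x ∈ X, ∀ y ∈ X, x * y = y * x)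
    (hVX : V ≤ X) (i : ι)
    (hne : ∃ A ≤ J, ElemM X A ∧ Best X A ∧ ¬ ∀ a ∈ A, ∀ v ∈ N i, a * v = v * a) :
    ∃ A ≤ J, ElemM X A ∧ Best X A ∧ (¬ ∀ a ∈ A, ∀ v ∈ N i, a * v = v * a) ∧ ∀ a ∈ A, ∀ c ∈ CC N i, a * c = c * a := by
  classical
  obtain ⟨A, hA, hmin⟩ := Set.exists_min_image {A : Subgroup G | A ≤ J ∧ ElemM X A ∧ Best X A ∧
    ¬ ∀ a ∈ A, ∀ v ∈ N i, a * v = v * a} (fun A => Nat.card A) (Set.toFinite _) hne
  obtain ⟨hAJ, hAel, hAb, hAi⟩ := hA
  refine ⟨A, hAJ, hAel, hAb, hAi, ?_⟩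
  suffices hj : ∀ j, j ≠ i → ∀ a ∈ A, ∀ v ∈ N j, a * v = v * a by
    intro a ha c hc
    have h1 : CC N i ≤ centralizer ({a} : Set G) := CC_le fun j hji v hv => mem_cent.2 (hj j hji a ha v hv)
    exact mem_cent.1 (h1 hc)
  intro j hji
  by_contra hAj
  have hAB : A ≤ BB T Z := hAJ.trans (h.le_BB)
  have hNX : N j ≤ X := (h.NV j).trans hVX
  rcases fullX (md h j) hX hNX hAB hAb with h0 | ⟨-, -, h3, h4⟩
  · exact hAj h0
  set A₁ := A ⊓ centralizer (N j : Set G) with hA₁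
  have hA₁b : Best X A₁ := best_cut (md h j) hX hNX hAB hAb
  have hA₁A : A₁ ≤ A := inf_le_left
  have hA₁el : ElemM X A₁ := ⟨fun a ha => hAel.sq a (hA₁A ha), fun a ha b hb => hAel.comm a (hA₁A ha) b (hA₁A hb)⟩
  -- `A₁` centralises `N i`
  have hc : ∀ a ∈ A₁, ∀ v ∈ N i, a * v = v * a := by
    by_contra hcon
    have h5 := hmin A₁ ⟨hA₁A.trans hAJ, hA₁el, hA₁b, hcon⟩
    have h6 : 0 < Nat.card A₁ := Nat.card_pos
    omega
  push Not at hAi
  obtain ⟨a, ha, v, hv, hav⟩ := hAi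
  have hai : ∀ v ∈ N i, a * v * a⁻¹ = t i * v * (t i)⁻¹ :=
    (J_N h (hAJ ha) i).resolve_left fun h1 => hav (h1 v hv)
  -- `m ∈ N j C_X(A)`
  have hmN : r i * d i * (r i)⁻¹ ∈ N i := h.r_N i (h.dN i)
  have hm := h.t_m i
  set m := r i * d i * (r i)⁻¹ with hmd
  have h5 : m ∈ N j ⊔ (X ⊓ centralizer (A : Set G)) := by
    rw [← h4]
    exact ⟨hVX (h.NV i hmN), mem_centralizer_iff.2 fun b hb => hc b hb m hmN⟩
  obtain ⟨n, hn, c, hcX, e⟩ := mem_sup_comm (A := N j) (B := X ⊓ centralizer (A : Set G))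
    (fun x hx y hy => hX x (hNX hx) y hy.1) h5
  have hac : a * c * a⁻¹ = c := fix_iff.2 (mem_centralizer_iff.1 hcX.2 a ha)
  have h6 : d i = (a * n * a⁻¹) * n⁻¹ := by
    have e1 : a * m * a⁻¹ = d i * m := by rw [hai m hmN, hm]
    calc d i = (d i * m) * m⁻¹ := by group
      _ = (a * (n * c) * a⁻¹) * (n * c)⁻¹ := by rw [← e1, e]
      _ = (a * n * a⁻¹) * (a * c * a⁻¹) * c⁻¹ * n⁻¹ := by group
      _ = _ := by rw [hac]; group
  have h7 : d i ∈ N i ⊓ CC N i := by
    refine mem_inf.2 ⟨h.dN i, N_le_CC hji ?_⟩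
    rw [h6]
    exact mul_mem (h.B_N (hAB ha) hn) (inv_mem hn)
  rw [dir h i, mem_bot] at h7
  exact h.d1 i h7

/-- `Ω₁(Z(B)) ≤ Z` -/
theorem zc_BB (h : In H T Q V J Z N d t r) (hZV : Z ≤ V)
    (hzQ : ∀ x ∈ Q, x ^ 2 = 1 → (∀ y ∈ Q, x * y = y * x) → x ∈ V) : zc (BB T Z) ≤ Z := by
  intro z hz
  obtain ⟨h1, h2, h3⟩ := ChoiceBase.mem_zc.1 hz
  have h4 : z ∈ Q := h.cT (BB_le T Z h1) fun v hv => (h3 v (h.VB hv)).symm
  exact h.V1Z z (hzQ z h4 h2 fun y hy => (h3 y (h.Q_le_B hZV hy)).symm) fun y hy => h3 y (h.le_BB hy)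

/-- A 2-subgroup of `L` containing `B` is `B`. -/
theorem blk_syl (k : Blk H T V Z d r i L) (h : In H T Q V J Z N d t r) [Finite G] {P : Subgroup G}
    (hBP : BB T Z ≤ P) (hPL : P ≤ L) (hP : IsPGroup 2 P) : P = BB T Z := by
  refine le_antisymm ?_ hBP
  have hN1 : N i ≠ ⊥ := fun h0 => h.d1 i (by
    have := h.dN i
    rwa [h0, mem_bot] at this)
  obtain ⟨v, hv, hv1, hvf⟩ := exists_fix hP (isElementaryAbelian_mono h.Velem (h.NV i)) hN1
    fun x hx v hv => k.L_N h (hPL hx) hv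
  have hvd : v = d i := (h.t_ne i hv (hvf _ (hBP (h.t_bau i)))).resolve_left hv1
  intro x hx
  obtain ⟨b, hb, hs⟩ := h.PP_fix (k.LP (hPL hx)) (by rw [← hvd]; exact hvf x hx)
  have hcP : b⁻¹ * x ∈ P := mul_mem (inv_mem (hBP hb)) hx
  have hcH : b⁻¹ * x ∈ H := mul_mem (inv_mem (h.bau_H hb)) (k.LH h (hPL hx))
  have hcV : ∀ v ∈ V, b⁻¹ * x * v = v * (b⁻¹ * x) := by
    refine In.sim_one_iff.1 ?_
    have := hs.mul_left b⁻¹
    rwa [inv_mul_cancel] at this
  obtain ⟨n, hn⟩ := hP ⟨_, hcP⟩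
  have h1 : b⁻¹ * x ∈ Q := h.two _ hcH hcV ⟨n, by simpa using congrArg Subtype.val hn⟩
  have h2 := mul_mem hb (k.inf_Q h (mul_mem (inv_mem (k.BL hb)) (hPL hx)) h1)
  rwa [mul_inv_cancel_left] at h2

theorem blk_gen (k : Blk H T V Z d r i L) (h : In H T Q V J Z N d t r) [Finite G] :
    L ≤ ⨆ x : L, cj (x : G) (BB T Z) := by
  obtain ⟨l, hl, hm⟩ := k.mv
  refine k.gen h hl hm ?_ ?_
  · have h1 : cj ((1 : L) : G) (BB T Z) ≤ ⨆ x : L, cj (x : G) (BB T Z) :=
      le_iSup (fun x : L => cj (x : G) (BB T Z)) 1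
    intro b hb
    exact h1 ⟨b, hb, by simp⟩
  · intro b hb
    exact (le_iSup (fun x : L => cj (x : G) (BB T Z)) ⟨l, hl⟩) ⟨b, hb, rfl⟩

/-- `[Z, L] ≤ N i`. -/
theorem zj_act (k : Blk H T V Z d r i L) (h : In H T Q V J Z N d t r) [Finite G] {l z : G} (hl : l ∈ L)
    (hz : z ∈ Z) : l * z * l⁻¹ * z⁻¹ ∈ N i := by
  obtain ⟨l₀, hl₀, hm⟩ := k.mv
  rcases k.Z_split h hl₀ hm hz with h1 | h1
  · have h2 := k.cent_of h hl₀ hm hz h1 l hl
    rw [h2, mul_inv_cancel_right, mul_inv_cancel]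
    exact one_mem _
  · have h2 := k.cent_of h hl₀ hm (mul_mem (h.d_mem_Z i) hz) h1 l hl
    have e : l * z * l⁻¹ * z⁻¹ = (l * d i * l⁻¹)⁻¹ * (l * (d i * z) * l⁻¹) * (d i * z)⁻¹ * d i := by group
    rw [e, h2]
    have e2 : (l * d i * l⁻¹)⁻¹ * (d i * z * l * l⁻¹) * (d i * z)⁻¹ * d i = (l * d i * l⁻¹)⁻¹ * d i := by group
    rw [e2]
    exact mul_mem (inv_mem (k.L_N h hl (h.dN i))) (h.dN i)

theorem comm_zp {g : G} (i : ι) (hg : g * d i * g⁻¹ = d i) : cj g (zpowers (d i)) = zpowers (d i) := by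
  rw [cj, MonoidHom.map_zpowers]
  change zpowers (g * d i * g⁻¹) = _
  rw [hg]

/-- `d i ∈ [N i, B]`. -/
theorem d_mem_comm (h : In H T Q V J Z N d t r) (i : ι) : d i ∈ ⁅N i, BB T Z⁆ := by
  have h1 := commutator_mem_commutator (h.r_N i (h.dN i)) (h.t_bau i)
  have e : (⁅r i * d i * (r i)⁻¹, t i⁆)⁻¹ = d i := by
    rw [commutatorElement_def]
    calc (r i * d i * (r i)⁻¹ * t i * (r i * d i * (r i)⁻¹)⁻¹ * (t i)⁻¹)⁻¹
        = (t i * (r i * d i * (r i)⁻¹) * (t i)⁻¹) * (r i * d i * (r i)⁻¹)⁻¹ := by group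
      _ = d i := by rw [h.t_m i]; group
  rw [← e]
  exact inv_mem h1

/-- `N i = ⟨d, d'⟩` for `d' ∈ N i` different from `1`, `d`. -/
theorem N_le_of (h : In H T Q V J Z N d t r) [Finite G] (i : ι) {X : Subgroup G} (hd : d i ∈ X) {x : G} (hx : x ∈ X)
    (hxN : x ∈ N i) (hx1 : x ≠ 1) (hxd : x ≠ d i) : N i ≤ X := by
  set m := r i * d i * (r i)⁻¹ with hm
  have hmX : m ∈ X := by
    rcases h.mem_N i hxN with h1 | h1 | h1 | h1
    · exact absurd h1 hx1
    · exact absurd h1 hxd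
    · rwa [h1] at hx
    · rw [h1, ← hm] at hx
      have h2 := mul_mem (inv_mem hd) hx
      rwa [inv_mul_cancel_left] at h2
  intro v hv
  rcases h.mem_N i hv with h1 | h1 | h1 | h1
  · rw [h1]; exact one_mem _
  · rw [h1]; exact hd
  · rw [h1]; exact hmX
  · rw [h1]; exact mul_mem hd hmX

theorem cj_d_ne_one (h : In H T Q V J Z N d t r) (l : G) (i : ι) : l * d i * l⁻¹ ≠ 1 := fun e => h.d1 i (by
  calc d i = l⁻¹ * (l * d i * l⁻¹) * l := by group
    _ = 1 := by rw [e]; group)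

/-- **The FF-block.** -/
theorem fb (k : Blk H T V Z d r i L) (h : In H T Q V J Z N d t r) [Finite G] (hzB : zc (BB T Z) ≤ Z) :
    FB (BB T Z) L (N i) (zpowers (d i)) 2 where
  toMd := md h i
  BL := k.BL
  nV := fun l hl v hv => k.L_N h hl hv
  gen := blk_gen k h
  syl := fun P h1 h2 h3 => blk_syl k h h1 h2 h3
  cor := fun l hl x hx hc => (k.L_QQ h hl ((mem_QQ hx).2 hc)).1
  act := fun l hl z hz => zj_act k h hl (hzB hz)
  sup := by
    obtain ⟨l, hl, hm⟩ := k.mv
    refine ⟨l, hl, N_le_of h i (mem_sup_left (d_mem_comm h i)) (x := l * d i * l⁻¹)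
      (mem_sup_right ⟨d i, d_mem_comm h i, rfl⟩) (k.L_N h hl (h.dN i)) (cj_d_ne_one h l i) hm⟩
  tri := fun l hl => by
    by_cases hm : l * d i * l⁻¹ = d i
    · left; exact comm_zp i hm
    · right
      intro x hx0
      obtain ⟨hx1, hx2⟩ := mem_inf.1 hx0
      rw [mem_cj] at hx1
      have h1 : x = 1 := by
        rcases mem_zp h hx2 with h2 | h2
        · exact h2
        · exfalso
          rw [h2] at hx1
          rcases mem_zp h hx1 with h3 | h3
          · apply h.d1 i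
            calc d i = l * (l⁻¹ * d i * l) * l⁻¹ := by group
              _ = 1 := by rw [h3]; group
          · apply hm
            calc l * d i * l⁻¹ = l * (l⁻¹ * d i * l) * l⁻¹ := by rw [h3]
              _ = d i := by group
      rw [h1]; exact one_mem _
  tor := fun z hz hzc z' hz' hzc' => by
    have h1 : z = d i := (mem_zp h hz).resolve_left fun e => hzc (by rw [e]; exact one_mem _)
    have h2 : z' = d i := (mem_zp h hz').resolve_left fun e => hzc' (by rw [e]; exact one_mem _)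
    refine ⟨1, one_mem _, one_mem _, ?_⟩
    rw [h1, h2]
    have e : (1 : G) * d i * 1⁻¹ * (d i)⁻¹ = 1 := by group
    rw [e]; exact one_mem _

/-! ### The frame -/

theorem fix_t (h : In H T Q V J Z N d t r) {v : G} (hv : v ∈ Z) (j : ι) : t j * v * (t j)⁻¹ = v :=
  fix_iff.2 (h.JZ v hv _ (h.tJ j))

/-- `L i` centralises `C i ∩ Z`. -/
theorem LC (k : Blk H T V Z d r i L) (h : In H T Q V J Z N d t r) [Finite G] {l z : G} (hl : l ∈ L) (hz : z ∈ Z)
    (hc : z ∈ CC N i) : l * z = z * l := by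
  have h1 : PP H T V Z (r i) ≤ centralizer ({z} : Set G) := by
    have key : ∀ y : G, z * y = y * z → y ∈ centralizer ({z} : Set G) := fun y hy => mem_cent.2 hy
    refine sup_le (sup_le (fun b hb => key b ((mem_BB.1 hb).2 z hz)) ?_) ?_
    · rw [zpowers_le]
      exact key _ (r_CC h hc (fix_t h hz)).symm
    · rintro c ⟨-, hc'⟩
      exact key c (mem_centralizer_iff.1 hc' z (CC_le_V h i hc))
  exact (mem_cent.1 (h1 (k.LP hl))).symm

theorem mem_Z_iff (h : In H T Q V J Z N d t r) [Finite G] (hZV : Z ≤ V) (v : G) :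
    v ∈ Z ↔ v ∈ V ∧ ∀ b ∈ BB T Z, b * v = v * b := by
  constructor
  · intro hv
    exact ⟨hZV hv, fun b hb => ((mem_BB.1 hb).2 v hv).symm⟩
  · rintro ⟨hv, hc⟩
    exact h.V1Z v hv fun j hj => hc j (h.le_BB hj)

/-- **The frame of the symmetric blocks at a level.** -/
theorem frame [Finite G] (h : In H T Q V J Z N d t r) (hZV : Z ≤ V) {X : Subgroup G} (elX : IsElementaryAbelian 2 X) (hVX : V ≤ X)
    (hHX : ∀ g ∈ H, ∀ x ∈ X, g * x * g⁻¹ ∈ X)
    (hzQ : ∀ x ∈ Q, x ^ 2 = 1 → (∀ y ∈ Q, x * y = y * x) → x ∈ V) (hN : V ≤ ⨆ i, N i)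
    (hA : ∀ i, ∃ A ≤ J, ElemM X A ∧ Best X A ∧ ¬ ∀ a ∈ A, ∀ v ∈ N i, a * v = v * a) {L : ι → Subgroup G}
    (hL : ∀ i, Blk H T V Z d r i (L i)) :
    ∃ A : ι → Subgroup G, (∀ i, A i ≤ J) ∧
      FrL (BB T Z) Q V X Z L N (fun i => zpowers (d i)) (fun i => CC N i) A 2 := by
  choose A hAJ hAel hAb hA1 hA2 using fun i => exists_A h (elem_comm elX) hVX i (hA i)
  refine ⟨A, hAJ, ?_⟩
  exact
    { blk := fun i => fb (hL i) h (zc_BB h hZV hzQ)
      cardZ := fun i => card_zp h i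
      QB := h.Q_le_B hZV
      VQ := h.VQ
      elX := elX
      VX := hVX
      mem_Q := fun x hx => ⟨fun hxQ v hv => h.VcQ x hxQ v hv, fun hc => h.cT (BB_le T Z hx) hc⟩
      zcQ := hzQ
      mem_ZJ := mem_Z_iff h hZV
      LV := fun i l hl v hv => h.Vn l ((hL i).LH h hl) v hv
      LQ := fun i l hl x hx => h.Qn l ((hL i).LH h hl) x hx
      LX := fun i l hl x hx => hHX l ((hL i).LH h hl) x hx
      WV := fun i => h.NV i
      CV := fun i => CC_le_V h i
      WC := fun i v hv => split_CC h hN i hv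
      dir := fun i => dir h i
      C0 := fun x hx hc => C0 h hN hx hc
      WjC := fun i j hij => N_le_CC (Ne.symm hij)
      BC := fun i b hb c hc => by
        have h1 : CC N i ≤ (CC N i).comap (MulAut.conj b).toMonoidHom := by
          refine CC_le fun j hj => ?_
          intro x hx
          rw [mem_comap]
          exact N_le_CC hj (h.B_N hb hx)
        exact h1 hc
      LC := fun i l hl z hz hc => LC (hL i) h hl hz hc
      AB := fun i => (hAJ i).trans (h.le_BB)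
      AX := hAel
      best := hAb
      Ane := fun i => hA1 i
      AC := fun i a ha c hc => hA2 i a ha c hc }

/-! ### The blocks of LEMMA K -/

theorem irr (k : Blk H T V Z d r i L) (h : In H T Q V J Z N d t r) [Finite G] {U : Subgroup G} (hU : U ≤ N i)
    (hn : L ≤ normalizer (U : Set G)) (hne : U ≠ ⊥) : N i ≤ U := by
  obtain ⟨l, hl, hm⟩ := k.mv
  obtain ⟨u, hu, hu1⟩ := (Subgroup.bot_or_exists_ne_one U).resolve_left hne
  have hd : d i ∈ U := by
    by_cases hud : u = d i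
    · rwa [← hud]
    · have h1 : t i * u * (t i)⁻¹ * u⁻¹ ∈ U :=
        mul_mem ((mem_normalizer_iff.1 (hn (k.BL (h.t_bau i))) u).1 hu) (inv_mem hu)
      rcases h.t_comm i u (h.NV i (hU hu)) with h2 | h2
      · exfalso
        rcases h.t_ne i (hU hu) h2 with h3 | h3
        · exact hu1 h3
        · exact hud h3
      · rwa [h2, mul_inv_cancel_right] at h1
  exact N_le_of h i hd (x := l * d i * l⁻¹) ((mem_normalizer_iff.1 (hn hl) _).1 hd) (k.L_N h hl (h.dN i))
    (cj_d_ne_one h l i) hm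

/-- **The block of LEMMA K.** -/
theorem block (k : Blk H T V Z d r i L) (h : In H T Q V J Z N d t r) [Finite G] (hzB : zc (BB T Z) ≤ Z) (hW : LemmaK.WeakNormal 2 (BB T Z)) :
    LemmaK.Block 2 (BB T Z) L (N i) :=
  (fb k h hzB).toBlock (card_zp h i) (h.Tp.to_le (BB_le T Z)) hW

/-- **The block of `LemmaK.Main`.** -/
theorem mainBlk (k : Blk H T V Z d r i L) (h : In H T Q V J Z N d t r) [Finite G] (hzB : zc (BB T Z) ≤ Z) : LemmaK.Main.Blk (BB T Z) L (N i) := by
  have hb := fb k h hzB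
  refine LemmaK.Main.Blk.of_irr hb.BL hb.gen (hb.VB.trans hb.BL) ?_ ?_ (OM.Uni.isPGroup_of_el hb.el) (elem_comm hb.el)
    hb.perf ?_
  · intro w h1 h2
    have e : N i = vl (BB T Z) L := hb.V_eq
    rw [e]
    exact LemmaK.Endo.norm_vl h1 h2
  · exact hb.core (h.Tp.to_le (BB_le T Z)) (ZN.isPGroup_o2 L) (ZN.o2_le L) (ZN.le_normalizer_o2 L)
  · intro U hU _ hn hne
    by_cases hU1 : U = ⊥
    · exact absurd (by rw [hU1]; exact bot_le) hne
    · exact irr k h hU hn hU1

end Cfsg.Agent.Omega.OM.Lev.SFr
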