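import Cfsg.Agent.Omega.NO3S.OneLine.LevKOf
import Cfsg.Agent.Omega.OM.ROneSymT
import Cfsg.Agent.Omega.OM.Lev.SymT
import Cfsg.Agent.Omega.OM.Lev.SFr

/-!
# The symmetric instance of the frame `FrL` (`V_P` a sum of even-subset modules of `S_{2^m+1}`), every level

`Exa S P X L AA` (`NO3S/OneLine/LevK.lean`), `V_P` a sum of `k` even-subset modules (`SymKM`), `J ≤ S` an `S`-invariant
group with `AA ⊆ J ≤ C_S(X) ⟨AA⟩` (`J = nxt S K` for `X = Ω₁(Z(K))`, `AA = BO S K`):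

* `syL_of` : the module data `SyL`;
* `SymOut` : `V = ⨆ N i = Ω₁(Z(O₂(P)))`, `Z_J = C_V(J) = ⟨d i⟩`, `B = C_S(Z_J)`, `SIn.In`, `PermR`;
* `exists_sym` : the frame `FrL B (O₂(P)) V X Z_J L N ⟨d i⟩ (C i) A 2`, with an `S`-equivariant choice of the blocks.
-/

set_option autoImplicit false
set_option linter.unusedVariables false
set_option linter.unusedSectionVars false

namespace Cfsg.Agent.Omega.OM.Lev.Sym

open Subgroup Cfsg Cfsg.Agent.PLocal.ThompsonJ Cfsg.Agent.ZN Cfsg.Agent.ZN.ChoiceBase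
open Cfsg.Agent.ZN.ChoiceSit
open Cfsg.Agent.Omega.SQ1 Cfsg.Agent.Omega.SQ1.FFOne Cfsg.Agent.Omega.SQ1.FFSym Cfsg.Agent.Omega.SQ1.VOf
open Cfsg.Agent.Omega.FFThm (ActsSym SymK SymKM OffM ElemM)
open Cfsg.Agent.Omega.SQ1.BauS (Sim PermR)
open Cfsg.Agent.Omega.FrameFF (cv)
open Cfsg.Agent.Omega.MinPar (IsParS)
open Cfsg.Agent.Omega.OM.Lev.SymIn Cfsg.Agent.Omega.OM.Lev.SymIn.SyL
open Cfsg.Agent.Omega.OM.Lev.SIn (In In0 ZJ BB Blk mem_ZJ mem_BB)
open Cfsg.Agent.Omega.OM.Lev.Uni (FrL Best)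
open Cfsg.Agent.Omega.NO3S.OneLine (Exa BFam)
open Cfsg.Agent.Omega.OM.FrSym (CC)
open scoped Pointwise

universe v w

variable {G : Type v} [Group G]

section syt

variable {T H Q V Jg : Subgroup G} {AA : Set (Subgroup G)} {k n : ℕ} {o : Fin n} {e : G → Fin k → Fin n → ZMod 2}
  {ι : Type} {J : ι → Fin k} {X Y : ι → Fin n} {t r : ι → G}

/-- `C_V(J) = ⟨d i⟩` -/
theorem fix_le (h : SyL T H Q V Jg ⊥ AA o e) [Finite G] (c : Ch Jg H V ⊥ o e J X Y t r) {v : G}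
    (hv : v ∈ V) (hJ : ∀ j ∈ Jg, j * v = v * j) :
    v ∈ closure (Set.range fun i => u H V ⊥ e (J i) (X i) (Y i)) := by
  classical
  have hb := In.of_ZJ (c.main h Cfsg.Agent.Omega.SQ1.SymCyc.exists_pow) h.Jn
  have := hb.finite_index
  have := Fintype.ofFinite ι
  set Z := closure (Set.range fun i => u H V ⊥ e (J i) (X i) (Y i)) with hZ
  have hZV : Z ≤ V := hb.D_le_Z.trans (SIn.ZJ_le V Jg)
  have hXY : ∀ v ∈ V, (∀ j ∈ Jg, j * v = v * j) → ∀ i, e v (J i) (X i) = e v (J i) (Y i) := by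
    intro v hv hJ i
    have h1 := (c.tg i).act v hv (J i) (X i)
    have h2 : t i * v * (t i)⁻¹ = v := by rw [hJ _ (c.tJ i)]; group
    rw [h2, Equiv.Perm.one_apply, Pi.mulSingle_eq_same, Equiv.swap_apply_left] at h1
    exact h1.symm
  have key : ∀ s : Finset ι, ∃ w ∈ Z, ∀ i ∈ s, e (v * w) (J i) (X i) = 0 := by
    intro s
    induction s using Finset.induction_on with
    | empty => exact ⟨1, one_mem _, by simp⟩
    | insert i s hi ih =>
      obtain ⟨w, hw, hws⟩ := ih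
      by_cases h0 : e (v * w) (J i) (X i) = 0
      · refine ⟨w, hw, fun l hl => ?_⟩
        rcases Finset.mem_insert.1 hl with rfl | hl
        · exact h0
        · exact hws l hl
      · have h1 : e (v * w) (J i) (X i) = 1 := by
          have : ∀ a : ZMod 2, a ≠ 0 → a = 1 := by decide
          exact this _ h0
        refine ⟨w * u H V ⊥ e (J i) (X i) (Y i), mul_mem hw (subset_closure ⟨i, rfl⟩),
          fun l hl => ?_⟩
        rw [← mul_assoc, h.mul _ (mul_mem hv (hZV hw)) _ (h.u_mem _ _ _), h.e_u]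
        rcases Finset.mem_insert.1 hl with rfl | hl
        · have hne := (c.tr l).1
          simp only [Pi.add_apply, h1, E, true_and, if_true, hne, if_false, add_zero]
          decide
        · have hli : l ≠ i := fun e => hi (e ▸ hl)
          have h2 := hws l hl
          by_cases hJl : J l = J i
          · obtain ⟨a1, a2, -, -⟩ := c.cases h hli hJl
            simp only [Pi.add_apply, h2, E, a1, a2, and_false, if_false, add_zero]
          · simp only [Pi.add_apply, h2, E, hJl, false_and, if_false, add_zero]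
  obtain ⟨w, hw, hws⟩ := key Finset.univ
  have hvw : v * w ∈ V := mul_mem hv (hZV hw)
  have hwJ : ∀ j ∈ Jg, j * w = w * j := fun j hj => (mem_ZJ.1 (hb.D_le_Z hw)).2 j hj
  have hvwJ : ∀ j ∈ Jg, j * (v * w) = v * w * j := by
    intro j hj
    have c1 : Commute j v := hJ j hj
    have c2 : Commute j w := hwJ j hj
    exact (c1.mul_right c2).eq
  have h0 : e (v * w) = 0 := by
    have h1 : ∀ i x, x ≠ o → e (v * w) i x = 0 := by
      intro j x hx
      obtain ⟨y, hy⟩ := h.cover Cfsg.Agent.Omega.SQ1.SymCyc.exists_pow j hx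
      obtain ⟨i, rfl, -, -, ⟨rfl, rfl⟩ | ⟨rfl, rfl⟩⟩ := c.exists_idx h hy
      · exact hws i (Finset.mem_univ i)
      · rw [← hXY _ hvw hvwJ i]
        exact hws i (Finset.mem_univ i)
    funext i x
    by_cases hx : x = o
    · subst hx
      have h2 := h.even _ hvw i
      rw [Finset.sum_eq_single_of_mem x (Finset.mem_univ x) fun y _ hy => h1 i y hy] at h2
      exact h2
    · exact h1 i x hx
  have h2 : v * w = 1 := mem_bot.1 ((h.ker _ hvw).1 h0)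
  rw [eq_inv_of_mul_eq_one_left h2]
  exact inv_mem hw

/-- `V = ⟨N i⟩` -/
theorem V_le_iSup (h : SyL T H Q V Jg ⊥ AA o e) [Finite G] (c : Ch Jg H V ⊥ o e J X Y t r) :
    V ≤ ⨆ i, h.NN (J i) o (X i) (Y i) := by
  refine h.V_le o bot_le fun j a => ?_
  by_cases ha : a = o
  · subst ha
    rw [Sy.u_self]
    exact one_mem _
  · obtain ⟨y, hy⟩ := h.cover Cfsg.Agent.Omega.SQ1.SymCyc.exists_pow j ha
    obtain ⟨i, rfl, -, -, hp⟩ := c.exists_idx h hy
    refine (le_iSup (fun i => h.NN (J i) o (X i) (Y i)) i) ?_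
    rcases hp with ⟨rfl, rfl⟩ | ⟨rfl, rfl⟩
    · exact Or.inr (Or.inl rfl)
    · exact Or.inr (Or.inr (Or.inl rfl))

end syt

/-! ### The output -/

/-- `V = ⨆ N i = Ω₁(Z(O₂(H)))`, `Z_J = C_V(J) = ⟨d i⟩`. -/
structure SymOut (T H V Jg : Subgroup G) {ι : Type} (N : ι → Subgroup G) (d t r : ι → G) : Prop where
  ne : Nonempty ι
  bau : In H T (o2 H) V Jg (ZJ V Jg) N d t r
  permR : PermR T V d r
  ZJ_eq : ZJ V Jg = closure (Set.range d)
  V_eq : V = ⨆ i, N i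
  mem_o2 : ∀ x, x ∈ o2 H ↔ x ∈ T ∧ ∀ v ∈ V, x * v = v * x
  zc_eq : zc (o2 H) = V

theorem symOut_of [Finite G] {T H V Jg : Subgroup G} {AA : Set (Subgroup G)} {k n : ℕ} {o : Fin n}
    {e : G → Fin k → Fin n → ZMod 2} {ι : Type} {J : ι → Fin k} {X Y : ι → Fin n} {t r : ι → G}
    (h : SyL T H (o2 H) V Jg ⊥ AA o e) (c : Ch Jg H V ⊥ o e J X Y t r) (hz : zc (o2 H) = V) :
    SymOut T H V Jg (fun i => h.NN (J i) o (X i) (Y i)) (fun i => u H V ⊥ e (J i) (X i) (Y i)) t r := by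
  have hb := In.of_ZJ (c.main h Cfsg.Agent.Omega.SQ1.SymCyc.exists_pow) h.Jn
  have hne : Nonempty ι := by
    obtain ⟨j, x, y, hT⟩ := h.exists_tr
    obtain ⟨i, -⟩ := c.ex j x y hT
    exact ⟨i⟩
  exact
    { ne := hne
      bau := hb
      permR := c.permR h
      ZJ_eq := le_antisymm (fun z hz => fix_le h c (mem_ZJ.1 hz).1 (mem_ZJ.1 hz).2) hb.D_le_Z
      V_eq := le_antisymm (V_le_iSup h c) (iSup_le fun i => h.NN_le _ _ _ _)
      mem_o2 := fun x => ⟨fun hx => ⟨h.QT hx, h.VcQ x hx⟩, fun hx => h.cT x hx.1 hx.2⟩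
      zc_eq := hz }

/-- `|V| ≥ 2^m + 1` -/
theorem card_sym {T H V D : Subgroup G} [Finite G] {k m : ℕ} (hk : 0 < k) (N : SymK T H V D k m) :
    2 ^ m + 1 ≤ Nat.card V := by
  classical
  have h1 : ∀ x : Fin (2 ^ m + 1), ∃ v ∈ V, N.e v = fun _ z =>
      (if z = 0 then 1 else 0) + (if z = x then 1 else 0) := by
    intro x
    refine N.surj _ fun i => ?_
    rw [Finset.sum_add_distrib, Finset.sum_ite_eq', Finset.sum_ite_eq']
    simp only [Finset.mem_univ, if_true]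
    exact CharTwo.add_self_eq_zero 1
  choose f hf1 hf2 using h1
  have h2 : Function.Injective fun x => (⟨f x, hf1 x⟩ : V) := by
    intro x y hxy
    have e : f x = f y := congrArg Subtype.val hxy
    have e2 := congrFun (congrFun ((hf2 x).symm.trans ((congrArg N.e e).trans (hf2 y))) ⟨0, hk⟩) x
    simp only [if_true] at e2
    have e3 := add_left_cancel e2
    by_contra hne
    rw [if_neg hne] at e3
    exact one_ne_zero e3
  have h3 := Nat.card_le_card_of_injective _ h2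
  rwa [Nat.card_fin] at h3

/-! ### The module data -/

section gen

/-- **The module data of a pair `(T, H)`** with a family `AA` of offenders, `Jg ≤ ⟨AA⟩ O₂(H)`. -/
theorem syL_gen [Finite G] {T H Jg D : Subgroup G} {AA : Set (Subgroup G)} (hM : MinH H T) {k m : ℕ} (hk : 0 < k)
    (hm : 1 ≤ m) (N : SymKM T H (zl T H) D k m) (hDV : D ≤ zl T H) (hDn : ∀ h ∈ H, ∀ v ∈ D, h * v * h⁻¹ ∈ D)
    (hAT : ∀ A ∈ AA, A ≤ T) (hoff : ∀ A ∈ AA, ¬ A ≤ o2 H → OffM (zl T H) A) (hex : ∃ A ∈ AA, ¬ A ≤ o2 H)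
    (JT : Jg ≤ T) (Jn : ∀ x ∈ T, ∀ y ∈ Jg, x * y * x⁻¹ ∈ Jg) (AJ : ∀ A ∈ AA, A ≤ Jg) (Jle : Jg ≤ sSup AA ⊔ o2 H) :
    SyL T H (o2 H) (zl T H) Jg D AA (0 : Fin (2 ^ m + 1)) N.e :=
  { toSy := sy_of hM N.toSymK hk hm hDV hDn
    TH := hM.syl.1
    Tp := hM.syl.2.1
    QT := o2_le_syl hM.syl
    VQ := MinH.zl_le_o2 hM
    Qn := fun g hg x hx => conj_mem_of_norm (ZN.le_normalizer_o2 H hg) hx
    VcQ := MinH.o2_cent hM
    cT := fun x hx hc => cT' hM N.toSymK hk hm hDV hx hc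
    syl := fun x hx h2 => syl_elt hM.syl hx h2
    trans := N.trans
    fix0 := N.fix0
    gen := fun K hT hK => N.gen K hT fun g hg τ ha hd => hK g τ ⟨hg, hd, ha⟩
    JT := JT
    Jn := Jn
    AJ := AJ
    Jle := Jle
    offD := by
      intro A hA a ha
      by_cases hne : A ≤ o2 H
      · have hc := MinH.o2_cent hM a (hne ha)
        refine ⟨1, ⟨hM.syl.1 (hAT A hA ha), fun d hd => hc d (hDV hd), fun v hv i x => ?_⟩,
          fun i x hx => absurd rfl hx⟩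
        have h1 := hc v hv
        have h2 : a * v * a⁻¹ = v := by rw [h1]; group
        rw [h2, Equiv.Perm.one_apply, Pi.one_apply, Equiv.Perm.one_apply]
      · obtain ⟨h1, h2⟩ := N.offM A (hAT A hA) (hoff A hA hne)
        obtain ⟨τ, hτ, hτ'⟩ := h2 a ha
        refine ⟨τ, ⟨hM.syl.1 (hAT A hA ha), h1 a ha, hτ⟩, fun i x hx => ?_⟩
        obtain ⟨h3, b, hb, hb'⟩ := hτ' i x hx
        exact ⟨h3, b, hb, hM.syl.1 (hAT A hA hb), h1 b hb, hb'⟩
    nJ := by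
      obtain ⟨A, hA, hAQ⟩ := hex
      by_contra hcon
      push Not at hcon
      apply hAQ
      intro a ha
      exact cT' hM N.toSymK hk hm hDV (hAT A hA ha) fun v hv => hcon A hA a ha v hv
    cycle := by
      obtain ⟨p, h1, -, h3, h4⟩ := Cfsg.Agent.Omega.SQ1.SymCyc.exists_cyc m hm
      exact ⟨p, m, h1, h3, h4⟩
    prop := by
      intro K hTK hKH hle
      by_contra hcon
      obtain ⟨M₀, hn, hu⟩ := hM.uniq
      have h1 : K ≤ M₀ := hu K hTK hKH fun h => hcon h.ge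
      have h2 : (H ⊓ centralizer (zl T H : Set G)) ⊔ T ≤ M₀ :=
        hu _ le_sup_right (sup_le inf_le_left hM.syl.1) (cent_sup_ne' hM N.toSymK hk hm hDV)
      exact hn (hle.trans (sup_le h1 (le_sup_left.trans h2))) }

end gen

section exa

variable [Finite G] {S : Sylow 2 G} {P X L : Subgroup G} {AA : Set (Subgroup G)}

/-- **The module data at a level.** -/
theorem syL_of (h : Exa S P X L AA) {Jg D : Subgroup G} {k m : ℕ} (hk : 0 < k) (hm : 1 ≤ m)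
    (N : SymKM (S : Subgroup G) P (zl (S : Subgroup G) P) D k m) (hD : D = ⊥)
    (JT : Jg ≤ (S : Subgroup G)) (Jn : ∀ x ∈ (S : Subgroup G), ∀ y ∈ Jg, x * y * x⁻¹ ∈ Jg)
    (AJ : ∀ A ∈ AA, A ≤ Jg) (Jle : Jg ≤ sSup AA ⊔ ((S : Subgroup G) ⊓ centralizer (X : Set G))) :
    SyL (S : Subgroup G) P (o2 P) (zl (S : Subgroup G) P) Jg ⊥ AA (0 : Fin (2 ^ m + 1)) N.e := by
  subst hD
  have hC : (S : Subgroup G) ⊓ centralizer (X : Set G) ≤ o2 P := by
    rw [← MinPar.IsParS.inf_centralizer S h.char2 h.star]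
    exact inf_le_inf_left _ (centralizer_le h.VX)
  refine syL_gen h.minH' hk hm N bot_le (fun g _ v hv => ?_) h.fam.le (fun A hA hAQ => h.offM hA hAQ) h.ex JT Jn AJ
    (Jle.trans (sup_le_sup_left hC _))
  rw [mem_bot.1 hv, mul_one, mul_inv_cancel]
  exact one_mem _

/-- a member of the family is a best offender -/
theorem best_of (h : Exa S P X L AA) {A : Subgroup G} (hA : A ∈ AA) : Best X A := fun F h1 h2 => h.fam.best A hA F h1 h2

/-- **The symmetric frame**, with the coordinates. -/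
theorem exists_frame (h : Exa S P X L AA) {Jg D : Subgroup G} {k m : ℕ} (hk : 0 < k) (hm : 1 ≤ m)
    (N : SymKM (S : Subgroup G) P (zl (S : Subgroup G) P) D k m) (hD : D = ⊥)
    (hz : zc (o2 P) = zl (S : Subgroup G) P)
    (JT : Jg ≤ (S : Subgroup G)) (Jn : ∀ x ∈ (S : Subgroup G), ∀ y ∈ Jg, x * y * x⁻¹ ∈ Jg)
    (AJ : ∀ A ∈ AA, A ≤ Jg) (Jle : Jg ≤ sSup AA ⊔ ((S : Subgroup G) ⊓ centralizer (X : Set G))) :
    ∃ (ι : Type) (J : ι → Fin k) (U Y : ι → Fin (2 ^ m + 1)) (t r : ι → G)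
      (h0 : SyL (S : Subgroup G) P (o2 P) (zl (S : Subgroup G) P) Jg ⊥ AA (0 : Fin (2 ^ m + 1)) N.e)
      (Lb A : ι → Subgroup G),
      Ch Jg P (zl (S : Subgroup G) P) ⊥ 0 N.e J U Y t r ∧
      SymOut (S : Subgroup G) P (zl (S : Subgroup G) P) Jg (fun i => h0.NN (J i) 0 (U i) (Y i))
        (fun i => u P (zl (S : Subgroup G) P) ⊥ N.e (J i) (U i) (Y i)) t r ∧
      (∀ i, Blk P (S : Subgroup G) (zl (S : Subgroup G) P) (ZJ (zl (S : Subgroup G) P) Jg)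
        (fun i => u P (zl (S : Subgroup G) P) ⊥ N.e (J i) (U i) (Y i)) r i (Lb i)) ∧
      (∀ x ∈ (S : Subgroup G), ∀ i j, x * u P (zl (S : Subgroup G) P) ⊥ N.e (J i) (U i) (Y i) * x⁻¹ =
        u P (zl (S : Subgroup G) P) ⊥ N.e (J j) (U j) (Y j) → cj x (Lb i) = Lb j) ∧
      (∀ i, A i ≤ Jg) ∧
      FrL (BB (S : Subgroup G) (ZJ (zl (S : Subgroup G) P) Jg)) (o2 P) (zl (S : Subgroup G) P) X
        (ZJ (zl (S : Subgroup G) P) Jg) Lb (fun i => h0.NN (J i) 0 (U i) (Y i))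
        (fun i => zpowers (u P (zl (S : Subgroup G) P) ⊥ N.e (J i) (U i) (Y i)))
        (fun i => CC (fun i => h0.NN (J i) 0 (U i) (Y i)) i) A 2 := by
  have h0 := syL_of h hk hm N hD JT Jn AJ Jle
  obtain ⟨ι, J, U, Y, t, r, c⟩ := h0.exists_ch
  have hs := symOut_of h0 c hz
  obtain ⟨Lb, hL, hc⟩ := hs.bau.exists_blks hs.permR
  have hzQ : ∀ x ∈ o2 P, x ^ 2 = 1 → (∀ y ∈ o2 P, x * y = y * x) → x ∈ zl (S : Subgroup G) P := by
    intro x hx h2 hxc
    rw [← hz]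
    exact ChoiceBase.mem_zc.2 ⟨hx, h2, fun y hy => (hxc y hy).symm⟩
  have hA : ∀ i, ∃ A ≤ Jg, ElemM X A ∧ Best X A ∧
      ¬ ∀ a ∈ A, ∀ v ∈ h0.NN (J i) 0 (U i) (Y i), a * v = v * a := by
    intro i
    by_contra hcon
    push Not at hcon
    have h1 : Jg ≤ centralizer (h0.NN (J i) 0 (U i) (Y i) : Set G) := by
      refine h0.Jle.trans (sup_le (sSup_le fun A hA a ha => mem_centralizer_iff.2 fun v hv => ?_) ?_)
      · exact (hcon A (AJ A hA) (h.fam.elem A hA) (best_of h hA) a ha v hv).symm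
      · exact fun x hx => mem_centralizer_iff.2 fun v hv => (h0.VcQ x hx v (hs.bau.NV i hv)).symm
    exact hs.bau.t_not_QQ i ⟨hs.bau.t_bau i, h1 (hs.bau.tJ i)⟩
  obtain ⟨A, hAJ, hF⟩ := SFr.frame hs.bau (SIn.ZJ_le _ _) h.elem h.VX (fun g hg x hx => (mem_normalizer_iff.1 (h.norm hg) x).1 hx)
    hzQ hs.V_eq.le hA hL
  exact ⟨ι, J, U, Y, t, r, h0, Lb, A, c, hs, hL, hc, hAJ, hF⟩

/-- **The symmetric frame** (`m ≥ 2`): at least two blocks. -/
theorem exists_sym (h : Exa S P X L AA) {Jg : Subgroup G} {k m : ℕ} (hk : 0 < k) (hm : 2 ≤ m)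
    (N : SymKM (S : Subgroup G) P (zl (S : Subgroup G) P) (cv (S : Subgroup G) P) k m)
    (JT : Jg ≤ (S : Subgroup G)) (Jn : ∀ x ∈ (S : Subgroup G), ∀ y ∈ Jg, x * y * x⁻¹ ∈ Jg)
    (AJ : ∀ A ∈ AA, A ≤ Jg) (Jle : Jg ≤ sSup AA ⊔ ((S : Subgroup G) ⊓ centralizer (X : Set G))) :
    ∃ (ι : Type) (_ : Finite ι) (W : ι → Subgroup G) (d t r : ι → G) (Lb A : ι → Subgroup G),
      SymOut (S : Subgroup G) P (zl (S : Subgroup G) P) Jg W d t r ∧
      (∀ i, Blk P (S : Subgroup G) (zl (S : Subgroup G) P) (ZJ (zl (S : Subgroup G) P) Jg) d r i (Lb i)) ∧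
      (∀ x ∈ (S : Subgroup G), ∀ i j, x * d i * x⁻¹ = d j → cj x (Lb i) = Lb j) ∧
      (∀ i, A i ≤ Jg) ∧ (∀ i : ι, ∃ j, j ≠ i) ∧
      FrL (BB (S : Subgroup G) (ZJ (zl (S : Subgroup G) P) Jg)) (o2 P) (zl (S : Subgroup G) P) X
        (ZJ (zl (S : Subgroup G) P) Jg) Lb W (fun i => zpowers (d i)) (fun i => CC W i) A 2 := by
  have hm1 : 1 ≤ m := by omega
  obtain ⟨ι, J, U, Y, t, r, h0, Lb, A, c, hs, hL, hc, hAJ, hF⟩ := exists_frame h hk hm1 N (h.cv_eq_bot_sym N)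
    (h.zc_o2_sym N hk hm1) JT Jn AJ Jle
  have hfin : Finite ι := hs.bau.finite_index
  refine ⟨ι, hfin, _, _, t, r, Lb, A, hs, hL, hc, hAJ, fun i => ?_, hF⟩
  by_contra hcon
  push Not at hcon
  have h3 : zl (S : Subgroup G) P = h0.NN (J i) 0 (U i) (Y i) := by
    refine le_antisymm (hs.V_eq.le.trans (iSup_le fun j => ?_)) (hs.bau.NV i)
    rw [hcon j]
  have h4 := hs.bau.cardN i
  rw [← h3] at h4
  have h5 := card_sym hk N.toSymK
  have h6 : 2 ^ 2 ≤ 2 ^ m := Nat.pow_le_pow_right (by norm_num) hm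
  omega

end exa

/-! ### At a level of `Level/Basic.lean` -/

section lev

open Cfsg.Agent.Omega.NO3S.Level (Lev BO nxt)

variable [Finite G] {S : Sylow 2 G} {P K : Subgroup G}

theorem nxt_le_sup (S K : Subgroup G) : nxt S K ≤ sSup (BO S K) ⊔ (S ⊓ centralizer (zc K : Set G)) :=
  sup_le le_sup_right le_sup_left

theorem nxt_norm (hL : Lev (S : Subgroup G) K) :
    ∀ x ∈ (S : Subgroup G), ∀ y ∈ nxt (S : Subgroup G) K, x * y * x⁻¹ ∈ nxt (S : Subgroup G) K :=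
  fun x hx y hy => (mem_normalizer_iff.1 (hL.next.S_norm hx) y).1 hy

/-- **The symmetric frame at a level `K ≤ O₂(P)`**, `B = C_S(Ω₁(Z(nxt S K)))`, `X = Ω₁(Z(K))`. -/
theorem exists_sym_lev (hFF : FFThm.StmtM.{v}) (hG : IsCharacteristicTwoType G) (hP : IsParS (S : Subgroup G) P)
    (hL : Lev (S : Subgroup G) K) (hK : K ≤ o2 P)
    (hcen : zc (S : Subgroup G) ⊓ centralizer (P : Set G) = ⊥)
    (hJ : ∃ A ∈ BO (S : Subgroup G) K, ¬ A ≤ o2 P) {k m : ℕ} (hk : 0 < k) (hm : 2 ≤ m)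
    (N : SymKM (S : Subgroup G) P (zl (S : Subgroup G) P) (cv (S : Subgroup G) P) k m) :
    ∃ (ι : Type) (_ : Finite ι) (W : ι → Subgroup G) (d t r : ι → G) (Lb A : ι → Subgroup G),
      SymOut (S : Subgroup G) P (zl (S : Subgroup G) P) (nxt (S : Subgroup G) K) W d t r ∧
      (∀ i, Blk P (S : Subgroup G) (zl (S : Subgroup G) P) (zc (nxt (S : Subgroup G) K)) d r i (Lb i)) ∧
      (∀ x ∈ (S : Subgroup G), ∀ i j, x * d i * x⁻¹ = d j → cj x (Lb i) = Lb j) ∧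
      (∀ i, A i ≤ nxt (S : Subgroup G) K) ∧ (∀ i : ι, ∃ j, j ≠ i) ∧
      FrL ((S : Subgroup G) ⊓ centralizer (zc (nxt (S : Subgroup G) K) : Set G)) (o2 P) (zl (S : Subgroup G) P)
        (zc K) (zc (nxt (S : Subgroup G) K)) Lb W (fun i => zpowers (d i)) (fun i => CC W i) A 2 := by
  obtain ⟨h, hc⟩ := NO3S.OneLine.exa_lev hFF hG hP hL hK hcen hJ
  have e1 := (NO3S.OneLine.lev_eq hFF hG hP hL hK hcen hJ).2
  have e2 : ZJ (zl (S : Subgroup G) P) (nxt (S : Subgroup G) K) = zc (nxt (S : Subgroup G) K) := e1.symm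
  obtain ⟨ι, hι, W, d, t, r, Lb, A, h1, h2, h3, h4, h5, h6⟩ := exists_sym h hk hm N (NO3S.Level.nxt_le _ _)
    (nxt_norm hL) (fun A hA => NO3S.Level.BO.le_nxt hA) (nxt_le_sup _ _)
  rw [e2] at h2 h6
  exact ⟨ι, hι, W, d, t, r, Lb, A, h1, h2, h3, h4, h5, h6⟩

end lev

end Cfsg.Agent.Omega.OM.Lev.Sym
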