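import Cfsg.Agent.Omega.OM.Lev.GLev
import Cfsg.Agent.Omega.OM.Lev.Sym
import Cfsg.Agent.Omega.OM.PB

/-!
# Blocks over `B = C_T(Z_J)` of type `S_{2^m+1} ≀` (or `S₃ ≀`) in a minimal parabolic `H` over `T`, general pair `(T, H)`

`GE T H X AA` (`Lev/GLev.lean`), `V = ⟨Ω₁Z(T)^H⟩` a sum of even-subset modules modulo `D = C_V(O²(H))` (`SymKM`),
`Z_J = C_X(AA) = Ω₁Z(B)` (`BZ`):

* `pb` : a minimal block `Blk H T V Z d r i L` over `B = BB T Z` with `Ω₁Z(B) = Z` gives `PB B L (N i) ⟨d i⟩ 1 2`;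
* `exists_pb` : a block `L ≤ H` over `B`, `H = ⟨T, L⟩`; the literal of `GNat.exists_pb` with `2` for `|F|`.
-/

set_option autoImplicit false
set_option linter.unusedSectionVars false

namespace Cfsg.Agent.Omega.OM.GSym

open Subgroup Cfsg Cfsg.Agent.PLocal.ThompsonJ Cfsg.Agent.ZN Cfsg.Agent.ZN.ChoiceBase
open Cfsg.Agent.ZN.ChoiceSit (Syl)
open Cfsg.Agent.PLocal.ElemAbSup
open Cfsg.Agent.Omega.SQ1.Bau (elem_comm elem_sq mem_sup_comm card_sup_comm mem_sup_norm Mv not_mv_iff mv_inv)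
open Cfsg.Agent.Omega.SQ1.BauS (Sim)
open Cfsg.Agent.Omega.OM.Lev.SIn
open Cfsg.Agent.Omega.OM.Lev.SIn.In (sim_one_iff)
open Cfsg.Agent.Omega.OM.Lev.SIn.Blk (mem_zp Z_inf_N VV_le_B relIndex_QQ)
open Cfsg.Agent.Omega.OM.GLev
open Cfsg.Agent.Omega.LemmaK (WeakNormal)
open Cfsg.Agent.Omega.FFThm (SymKM)
open Cfsg.Agent.Omega.FrameFF (cv)
open scoped Pointwise commutatorElement

universe u w

section blk

variable {G : Type u} [Group G] {H T Q V J Z L : Subgroup G} {ι : Type w} {N : ι → Subgroup G} {d t r : ι → G} {i : ι}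

theorem mv_iff (h : In H T Q V J Z N d t r) {l : G} : Mv (zpowers (d i)) l ↔ l * d i * l⁻¹ ≠ d i := by
  constructor
  · rintro ⟨x, hx, hx'⟩ e
    apply hx'
    rcases mem_zp h hx with h1 | h1
    · rw [h1, mul_one, mul_inv_cancel]; exact one_mem _
    · rw [h1, e]; exact mem_zpowers _
  · intro hm
    refine ⟨d i, mem_zpowers _, fun h1 => ?_⟩
    rcases mem_zp h h1 with h2 | h2
    · apply h.d1 i
      calc d i = l⁻¹ * (l * d i * l⁻¹) * l := by group
        _ = 1 := by rw [h2]; group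
    · exact hm h2

/-- `B` is a Sylow 2-subgroup of `L`. -/
theorem syl (h : In H T Q V J Z N d t r) [Finite G] (hz : zc (BB T Z) = Z) (hw : WeakNormal 2 (BB T Z))
    (k : Blk H T V Z d r i L) {S : Subgroup G} (hBS : BB T Z ≤ S) (hSL : S ≤ L) (h2 : IsPGroup 2 S) :
    S = BB T Z := by
  refine le_antisymm (fun x hx => ?_) hBS
  have hxL := hSL hx
  have hxN : x ∈ normalizer (BB T Z : Set G) := hw S h2 hBS hx
  -- `x` fixes `d i`
  have hfix : x * d i * x⁻¹ = d i := by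
    have h3 : x * d i * x⁻¹ ∈ Z := by
      have h4 := normalizer_le_of_cj (F := zc) (fun g B => LemmaK.Main.zc_cj g B) (BB T Z) hxN
      rw [hz] at h4
      exact (mem_normalizer_iff.1 h4 _).1 (h.d_mem_Z i)
    rcases Z_inf_N h (k.L_N h hxL (h.dN i)) h3 with h5 | h5
    · exfalso
      apply h.d1 i
      calc d i = x⁻¹ * (x * d i * x⁻¹) * x := by group
        _ = 1 := by rw [h5]; group
    · exact h5
  obtain ⟨b, hb, hbx⟩ := h.PP_fix (k.LP hxL) hfix
  have hcP : b⁻¹ * x ∈ S := mul_mem (inv_mem (hBS hb)) hx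
  have hcH : b⁻¹ * x ∈ H := mul_mem (inv_mem (h.bau_H hb)) (k.LH h hxL)
  have hcV : ∀ v ∈ V, b⁻¹ * x * v = v * (b⁻¹ * x) := by
    refine sim_one_iff.1 ?_
    have := hbx.mul_left b⁻¹
    rwa [inv_mul_cancel] at this
  have hcQ : b⁻¹ * x ∈ Q := by
    obtain ⟨n, hn⟩ := h2 ⟨_, hcP⟩
    exact h.two _ hcH hcV ⟨n, by simpa using congrArg Subtype.val hn⟩
  have hcB : b⁻¹ * x ∈ BB T Z := k.inf_Q h (mul_mem (inv_mem (k.BL hb)) hxL) hcQ
  have h3 := mul_mem hb hcB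
  rwa [mul_inv_cancel_left] at h3

/-- **The blocks for `q = 2`.** -/
theorem pb (h : In H T Q V J Z N d t r) [Finite G] (hz : zc (BB T Z) = Z) (hw : WeakNormal 2 (BB T Z))
    (k : Blk H T V Z d r i L) : PB (BB T Z) L (N i) (zpowers (d i)) ⊥ 2 where
  Bp := h.Tp.to_le (BB_le T Z)
  BL := k.BL
  el := isElementaryAbelian_mono h.Velem (h.NV i)
  NB := le_sup_right.trans (VV_le_B h)
  Nn := fun l hl v hv => k.L_N h hl hv
  N1N := (zpowers_le).2 (h.dN i)
  N1c := fun b hb v hv => by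
    have h1 : v ∈ Z := (zpowers_le.2 (h.d_mem_Z i)) hv
    exact ((mem_BB.1 hb).2 v h1).symm
  N01 := bot_le
  N0c := fun l _ v hv => by rw [mem_bot.1 hv, mul_one, one_mul]
  card := by rw [h.cardN, Lev.SFr.card_zp h]
  card1 := by rw [Lev.SFr.card_zp h, Subgroup.card_bot]
  opp := by
    intro l hl hm v hv hlv
    rcases mem_zp h hv with h1 | h1
    · rw [h1, mul_one, mul_inv_cancel]; exact one_mem _
    · exfalso
      rw [h1] at hlv
      rcases mem_zp h hlv with h2 | h2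
      · apply h.d1 i
        calc d i = l⁻¹ * (l * d i * l⁻¹) * l := by group
          _ = 1 := by rw [h2]; group
      · exact (mv_iff h).1 hm h2
  quad := by
    intro b hb v hv
    rcases (h.EE_good (h.bau_EE hb)).actN i with h1 | h1
    · rw [h1 v hv, mul_inv_cancel]; exact one_mem _
    · rw [h1 v hv]
      rcases h.t_comm i v (h.NV i hv) with h2 | h2
      · rw [h2, mul_inv_cancel]; exact one_mem _
      · rw [h2, mul_inv_cancel_right]; exact mem_zpowers _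
  cent := by
    intro b hb hne v hv h0
    have h1 : b * v * b⁻¹ = v := mul_inv_eq_one.1 (mem_bot.1 h0)
    have hbQ : b ∉ QQ T Z N i := by
      intro hbQ
      obtain ⟨w, hw, hne⟩ := hne
      exact hne (mem_centralizer_iff.1 hbQ.2 w hw).symm
    rcases h.B_ne hb hbQ hv h1 with h2 | h2
    · rw [h2]; exact one_mem _
    · rw [h2]; exact mem_zpowers _
  cardB := by
    have h1 := relIndex_QQ (i := i) h
    have h2 : QQ T Z N i ≤ BB T Z := inf_le_left
    have h3 := relIndex_mul_relIndex (⊥ : Subgroup G) (QQ T Z N i) (BB T Z) bot_le h2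
    rw [relIndex_bot_left, relIndex_bot_left, h1] at h3
    exact h3.symm
  one := by norm_num
  mv := by
    obtain ⟨l, hl, hm⟩ := k.mv
    exact ⟨l, hl, (mv_iff h).2 hm⟩
  gen := fun l hl hm X hX hx => k.gen h hl ((mv_iff h).1 hm) hX hx
  act := fun l hl z hz' => Lev.SFr.zj_act k h hl (by rwa [hz] at hz')
  cor := fun l hl x hx hc => (k.L_QQ h hl (x := x)
    ⟨hx, mem_centralizer_iff.2 fun v hv => (hc v hv).symm⟩).1
  syl := fun S h1 h2 h3 => syl h hz hw k h1 h2 h3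
  tor := by
    intro z hz hz0 z' hz' hz0'
    refine ⟨1, one_mem _, one_mem _, ?_⟩
    have h1 := (mem_zp h hz).resolve_left fun e => hz0 (by rw [e]; exact one_mem _)
    have h2 := (mem_zp h hz').resolve_left fun e => hz0' (by rw [e]; exact one_mem _)
    rw [h1, h2, one_mul, inv_one, mul_one, mul_inv_cancel]
    exact one_mem _

end blk

section main

variable {G : Type u} [Group G] [Finite G] {T H X B ZJ : Subgroup G} {AA : Set (Subgroup G)} {k m : ℕ}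

theorem T_norm_ZJ (h : GE T H X AA) (b : BZ T X AA B ZJ) : ∀ x ∈ T, ∀ z ∈ ZJ, x * z * x⁻¹ ∈ ZJ := by
  intro x hx z hz
  have h1 : x ∈ normalizer (B : Set G) := b.wn T h.hm.syl.2.1 b.BT hx
  have h2 := normalizer_le_of_cj (F := zc) (fun g B => LemmaK.Main.zc_cj g B) B h1
  rw [b.zcB] at h2
  exact (mem_normalizer_iff.1 h2 z).1 hz

theorem T_norm_AA (h : GE T H X AA) : ∀ x ∈ T, ∀ y ∈ sSup AA, x * y * x⁻¹ ∈ sSup AA := by
  intro x hx y hy
  have h1 : sSup AA ≤ (sSup AA).comap (MulAut.conj x).toMonoidHom := by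
    refine sSup_le fun A hA a ha => ?_
    have h2 : cj x A ∈ AA := h.fam.conj A hA x (h.norm (h.TH hx)) (by
      rintro _ ⟨a, ha, rfl⟩
      exact mul_mem (mul_mem hx (h.fam.le A hA ha)) (inv_mem hx))
    exact (le_sSup h2 : cj x A ≤ sSup AA) ⟨a, ha, rfl⟩
  exact h1 hy

/-- `[Y0, ⟨AA⟩] ≤ V` -/
theorem Y0_sSup (h : GE T H X AA) : ∀ j ∈ sSup AA, ∀ y ∈ Y0 H X AA, j * y * j⁻¹ * y⁻¹ ∈ zl T H := by
  let S : Subgroup G :=
    { carrier := {j | j ∈ H ∧ ∀ y ∈ Y0 H X AA, j * y * j⁻¹ * y⁻¹ ∈ zl T H}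
      mul_mem' := by
        rintro a b ⟨ha, ha'⟩ ⟨hb, hb'⟩
        refine ⟨mul_mem ha hb, fun y hy => ?_⟩
        have e : a * b * y * (a * b)⁻¹ * y⁻¹ = (a * (b * y * b⁻¹ * y⁻¹) * a⁻¹) * (a * y * a⁻¹ * y⁻¹) := by group
        rw [e]
        exact mul_mem (SQ1.VOf.zl_norm a ha _ (hb' y hy)) (ha' y hy)
      one_mem' := ⟨one_mem _, fun y _ => by
        have e : (1 : G) * y * 1⁻¹ * y⁻¹ = 1 := by group
        rw [e]; exact one_mem _⟩
      inv_mem' := by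
        rintro a ⟨ha, ha'⟩
        refine ⟨inv_mem ha, fun y hy => ?_⟩
        have e : a⁻¹ * y * a⁻¹⁻¹ * y⁻¹ = a⁻¹ * (a * y * a⁻¹ * y⁻¹)⁻¹ * a⁻¹⁻¹ := by group
        rw [e]
        exact SQ1.VOf.zl_norm a⁻¹ (inv_mem ha) _ (inv_mem (ha' y hy)) }
  have h1 : sSup AA ≤ S := by
    refine sSup_le fun A hA a ha => ⟨h.TH (h.fam.le A hA ha), fun y hy => ?_⟩
    obtain ⟨v, hv, hvy⟩ := h.Y0_comm hA hy
    rw [hvy a ha]
    exact mul_mem (SQ1.VOf.zl_norm a (h.TH (h.fam.le A hA ha)) v hv) (inv_mem hv)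
  exact fun j hj => (h1 hj).2

/-- The Baumann input with `Z = Z_J` from the one without. -/
theorem in_of (h : GE T H X AA) (b : BZ T X AA B ZJ) {ι : Type} {N : ι → Subgroup G} {d t r : ι → G} (i : ι)
    (h0 : In0 H T (o2 H) (zl T H) (sSup AA) N d t r) : In H T (o2 H) (zl T H) (sSup AA) ZJ N d t r :=
  { h0 with
    ZT := by
      rw [← b.zcB]
      exact (zc_le B).trans b.BT
    Zcomm := fun x hx y hy => h.Xc x ((b.mem_ZJ x).1 hx).1 y ((b.mem_ZJ y).1 hy).1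
    Zsq := fun x hx => by
      have := elem_sq h.elem x ((b.mem_ZJ x).1 hx).1
      simpa [pow_two] using this
    JZ := fun z hz j hj => by
      have h1 : sSup AA ≤ centralizer ({z} : Set G) := by
        refine sSup_le fun A hA a ha => ?_
        rw [mem_centralizer_singleton_iff]
        exact ((b.mem_ZJ z).1 hz).2 A hA a ha
      exact mem_centralizer_singleton_iff.1 (h1 hj)
    Zn := T_norm_ZJ h b
    ZcV := fun z hz v hv => h.Xc z ((b.mem_ZJ z).1 hz).1 v (h.VX hv)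
    V1Z := fun v hv hc => (b.mem_ZJ v).2 ⟨h.VX hv, fun A hA a ha => hc a ((le_sSup hA : A ≤ sSup AA) ha)⟩
    Y_norm := h0.norm_of i (Y₀ := Y0 H X AA) (fun g hg y hy => (mem_normalizer_iff.1 (h.norm_Y0 hg) y).1 hy)
      (Y0_sSup h) (fun z hz => h.mem_Y0_of ((b.mem_ZJ z).1 hz).1 ((b.mem_ZJ z).1 hz).2) (T_norm_ZJ h b) }

/-- **The symmetric blocks of a general pair `(T, H)`.** -/
theorem exists_pb (h : GE T H X AA) (b : BZ T X AA B ZJ) (N : SymKM T H (zl T H) (cv T H) k m) (hk : 0 < k)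
    (hm : 1 ≤ m) (hex : ∃ A ∈ AA, ¬ A ≤ o2 H) :
    ∃ L N' N₁ D', B ≤ L ∧ L ≤ H ∧ PB B L N' N₁ D' 2 ∧ H ≤ T ⊔ L := by
  have h0 := Lev.Sym.syL_gen (Jg := sSup AA) h.hm hk hm N SQ1.FFOf.cv_le SQ1.FFOf.cv_norm h.fam.le
    (fun A hA hAQ => h.offM hA hAQ) hex (sSup_le h.fam.le) (T_norm_AA h) (fun A hA => le_sSup hA) le_sup_left
  obtain ⟨ι, J, U, Y, t, r, c⟩ := h0.exists_ch
  obtain ⟨j, x, y, hTr⟩ := h0.exists_tr
  obtain ⟨i, -⟩ := c.ex j x y hTr
  have hin := in_of h b i (c.main h0 Cfsg.Agent.Omega.SQ1.SymCyc.exists_pow)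
  obtain ⟨L, hL⟩ := hin.exists_blk i
  have hB : BB T ZJ = B := b.eqB.symm
  have hw : WeakNormal 2 (BB T ZJ) := by
    rw [hB]
    exact fun R hR hBR => b.wn R hR hBR
  have hpb := pb hin (by rw [hB]; exact b.zcB) hw hL
  rw [hB] at hpb
  exact ⟨L, _, _, _, hB ▸ hL.BL, hL.LH hin, hpb, hL.sup_T hin le_sup_left le_sup_right⟩

end main

end Cfsg.Agent.Omega.OM.GSym
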