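import Cfsg.Agent.Omega.OM.Lev.FixPt
import Cfsg.Agent.Omega.OM.Lev.GNat
import Cfsg.Agent.Omega.OM.Lev.GSym

/-!
# (O1+) of #14539 at every level: minimal parabolics which move `Ω₁(Z(T))` are generated by `T` and blocks

`FBlk B L V` : `L` is an FF-block (`Uni.FB`) over `B` with module `V`, and a block of Lemma K.

* `FBlk.conj`, `fam`; `zc_B` : `Ω₁Z(B) = ZJ`;
* `bz_lev` : `BZ` at stage `n` for every 2-group `T ≥ B`;
* `SymBlk` : the symmetric type (statement), `symBlk` : it holds (helper668's `GSym.exists_pb`);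
* `blkGen` : stage `n`: `LevD.BlkGen (lev S (n + 1)) ZJ (FBlk B) T H` for every minimal parabolic `H` of characteristic 2
  over `T ≥ B` with `lev S n ≤ O₂(H)`.
-/

set_option autoImplicit false

namespace Cfsg.Agent.Omega.OM.LevB

open Subgroup Cfsg Cfsg.Agent.ZN.ChoiceBase Cfsg.Agent.ZN.ChoiceSit
open Cfsg.Agent.ZN (jj zj bau zc zl o2)
open Cfsg.Agent.MinSimple.MinParabolic (IsMinPar)
open Cfsg.Agent.Omega.LemmaK (Block WeakNormal)
open Cfsg.Agent.Omega.FFThm (NatKM SymKM OffM NoOverM)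
open Cfsg.Agent.Omega.FrameFF (cv)
open Cfsg.Agent.Omega.OM.Uni (FB)
open Cfsg.Agent.Omega.OM.LevD
open Cfsg.Agent.Omega.OM.GLev
open Cfsg.Agent.Omega.NO3S.Level
open scoped Pointwise commutatorElement

universe u

variable {G : Type u} [Group G]

/-- `L` is an FF-block over `B` with module `V`. -/
structure FBlk (B L V : Subgroup G) : Prop where
  fb : ∃ Z q, FB B L V Z q
  blk : Block 2 B L V

theorem FBlk.conj {B L V : Subgroup G} (h : FBlk B L V) {n : G} (hn : n ∈ normalizer (B : Set G)) :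
    FBlk B (cj n L) (cj n V) := by
  obtain ⟨⟨Z, q, h1⟩, h2⟩ := h
  have h3 := h1.conj n
  have h4 := BlkGen.block_conj h2 n
  rw [cj_eq_of_mem_normalizer hn] at h3 h4
  exact ⟨⟨_, _, h3⟩, h4⟩

/-- The family of all FF-blocks over `B`: it remains to know `ZJ ≤ ∏ V_L`. -/
theorem fam {B ZJ : Subgroup G}
    (h : ZJ ≤ ⨆ i : {x : Subgroup G × Subgroup G // FBlk B x.1 x.2}, i.1.2) : Fam B ZJ (FBlk B) where
  blk := fun _ _ h => h.blk
  conj := fun _ hn _ _ h => h.conj hn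
  zj_le := h

variable [Finite G]

/-- `B` at the level `n` -/
noncomputable def BL (S : Subgroup G) (n : ℕ) : Subgroup G := S ⊓ centralizer (zc (lev S n) : Set G)

theorem lb (S : Sylow 2 G) (n : ℕ) :
    LB S (lev (S : Subgroup G) n) (BL (S : Subgroup G) n) (zc (lev (S : Subgroup G) n)) := LB.lev S n

/-- `Ω₁Z(B) = ZJ` -/
theorem zc_B (S : Sylow 2 G) (n : ℕ) : zc (BL (S : Subgroup G) n) = zc (lev (S : Subgroup G) n) := by
  have hb := lb S n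
  ext z
  constructor
  · intro hz
    obtain ⟨h1, h2, h3⟩ := mem_zc.1 hz
    exact (lev_isLev (S : Subgroup G) n).mem_of_comm (hb.BS h1) h2 fun y hy => h3 y (hb.KB hy)
  · intro hz
    exact mem_zc.2 ⟨hb.ZB hz, hb.sq z hz, fun y hy => (mem_centralizer_iff.1 (hb.Bc hy) z hz).symm⟩

section

variable {T H : Subgroup G}

theorem nxt_lev (S : Sylow 2 G) {n : ℕ} (hT : IsPGroup 2 T) (hle : lev (S : Subgroup G) (n + 1) ≤ T) :
    nxt T (lev (S : Subgroup G) n) = lev (S : Subgroup G) (n + 1) := by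
  have h1 := LevD.lev_eq S hT hle (n + 1) le_rfl
  have h2 := LevD.lev_eq S hT hle n (Nat.le_succ n)
  have h3 : lev T (n + 1) = nxt T (lev T n) := rfl
  rw [h3, h2] at h1
  exact h1

theorem isLev_T (S : Sylow 2 G) {n : ℕ} (hT : IsPGroup 2 T) (hle : lev (S : Subgroup G) n ≤ T) :
    Lev T (lev (S : Subgroup G) n) := by
  have h1 := LevD.lev_eq S hT hle n le_rfl
  have h2 := lev_isLev T n
  rwa [h1] at h2

/-- `BZ` at stage `n` -/
theorem bz_lev (S : Sylow 2 G) {n : ℕ} (hT : IsPGroup 2 T) (hB : BL (S : Subgroup G) (n + 1) ≤ T) :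
    BZ T (zc (lev (S : Subgroup G) n)) (BO T (lev (S : Subgroup G) n)) (BL (S : Subgroup G) (n + 1))
      (zc (lev (S : Subgroup G) (n + 1))) := by
  have hb := lb S (n + 1)
  have hle := hb.KB.trans hB
  refine
    { mem_ZJ := fun z => ?_
      eqB := (hb.inf_eq hT hB).symm
      zcB := zc_B S (n + 1)
      wn := fun R hR hBR => hb.two_le hR hBR
      sylB := fun R hR hBR hRc => hb.syl.2.2 R hRc hR hBR }
  rw [← nxt_lev S hT hle]
  exact zc_nxt (isLev_T S hT ((lev_le_succ _ n).trans hle))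

/-- **The symmetric type** (statement): a block `L ≤ H` over `B` with `H = ⟨T, L⟩`. -/
def SymBlk : Prop :=
  ∀ (G : Type u) [Group G] [Finite G] (T H X B ZJ : Subgroup G) (AA : Set (Subgroup G)) (k m : ℕ),
    GE T H X AA → BZ T X AA B ZJ → 0 < k → 2 ≤ m → Nonempty (SymKM T H (zl T H) (cv T H) k m) →
      (∃ A ∈ AA, ¬ A ≤ o2 H) →
        ∃ (L N' N₁ D' : Subgroup G) (q : ℕ), B ≤ L ∧ L ≤ H ∧ PB B L N' N₁ D' q ∧ H ≤ T ⊔ L

theorem symBlk : SymBlk.{u} := by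
  intro G _ _ T H X B ZJ AA k m hge hbz hk hm hN hex
  obtain ⟨N⟩ := hN
  obtain ⟨L, N', N₁, D', hBL, hLH, hpb, hsup⟩ := GSym.exists_pb hge hbz N hk (by omega) hex
  exact ⟨L, N', N₁, D', 2, hBL, hLH, hpb, hsup⟩

/-- A block `L` over `B` with `H = ⟨T, L⟩`, both types. -/
theorem exists_fblk (S : Sylow 2 G) {n : ℕ} (hT : Syl T H)
    (hB : BL (S : Subgroup G) (n + 1) ≤ T) (hP : IsMinPar T H) (hc : H ⊓ centralizer (o2 H : Set G) ≤ o2 H)
    (hK : lev (S : Subgroup G) n ≤ o2 H) (hn : ¬ lev (S : Subgroup G) (n + 1) ≤ o2 H)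
    (hZ : ¬ H ≤ centralizer (zc T : Set G)) :
    ∃ L V : Subgroup G, L ≤ H ∧ FBlk (BL (S : Subgroup G) (n + 1)) L V ∧ H ≤ T ⊔ L := by
  have hb := lb S (n + 1)
  have hle := hb.KB.trans hB
  have hT2 := hT.2.1
  have hL := isLev_T S hT2 ((lev_le_succ _ n).trans hle)
  have hnx := nxt_lev S hT2 hle
  have hV : zl T H ≤ zc (lev (S : Subgroup G) n) :=
    (MinSimple.VModule.zl_le_zc hT.1 hT2 (syl_not_dvd hT) hc).trans (hL.zc_o2_le hK (o2_le_syl hT))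
  have hQC := BlkGen.inf_cent hT hP hZ
  obtain ⟨A, hA, hAQ⟩ : ∃ A ∈ BO T (lev (S : Subgroup G) n), ¬ A ≤ o2 H := by
    by_contra hcon
    push Not at hcon
    apply hn
    rw [← hnx]
    exact sup_le ((inf_le_inf_left _ (centralizer_le hV)).trans hQC) (sSup_le hcon)
  have hoff : OffM (zl T H) A := hA.2.offM hV fun h1 => hAQ ((le_inf hA.1 h1).trans hQC)
  obtain ⟨hno, hcon⟩ := FF.Glob.ffthmM G T H hT hP hc ⟨A, hA.1.trans hT.1, hoff⟩
  have hge := GE.of_lev hT hP hc hZ hL hK hno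
  have hbz := bz_lev S hT2 hB
  have hw := hb.weakNormal
  rcases hcon with ⟨F, _, _, _, k, hk, ⟨N⟩⟩ | ⟨k, m, hk, hm, hN⟩
  · obtain ⟨L, N', N₁, D', -, hLH, hpb, hsup⟩ := GNat.exists_pb hge hbz N hk ⟨A, hA, hAQ⟩
    exact ⟨L, _, hLH, ⟨⟨_, _, hpb.fb⟩, hpb.block hw⟩, hsup⟩
  · obtain ⟨L, N', N₁, D', q, -, hLH, hpb, hsup⟩ := symBlk G T H _ _ _ _ k m hge hbz hk hm hN ⟨A, hA, hAQ⟩
    exact ⟨L, _, hLH, ⟨⟨_, _, hpb.fb⟩, hpb.block hw⟩, hsup⟩

/-- **Minimal parabolics of stage `n` which move `Ω₁(Z(T))` are generated by `T` and an FF-block over `B`.** -/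
theorem blkGen (S : Sylow 2 G) {n : ℕ} (hT : Syl T H) (hB : BL (S : Subgroup G) (n + 1) ≤ T)
    (hP : IsMinPar T H) (hc : H ⊓ centralizer (o2 H : Set G) ≤ o2 H) (hK : lev (S : Subgroup G) n ≤ o2 H) :
    LevD.BlkGen (lev (S : Subgroup G) (n + 1)) (zc (lev (S : Subgroup G) (n + 1)))
      (FBlk (BL (S : Subgroup G) (n + 1))) T H := by
  intro hn hZ
  obtain ⟨L, V, -, hF, hsup⟩ := exists_fblk S hT hB hP hc hK hn hZ
  exact hsup.trans (sup_le le_sup_right (le_sup_of_le_left (LevD.blk_le_K0 hF)))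

/-- `LevD.gen` with the conclusion `Y ≤ M` for the minimal parabolics which move `Ω₁(Z(T))` as a hypothesis -/
theorem genM {S : Sylow 2 G} {K B ZJ : Subgroup G} {𝓑 : Subgroup G → Subgroup G → Prop} (hB : LB S K B ZJ)
    {M : Subgroup G} (hK : K0 ZJ 𝓑 ≤ M)
    (hN : normalizer (B : Set G) ≤ M) (hT : Syl T H) (hBT : B ≤ T)
    (hc : H ⊓ centralizer (o2 H : Set G) ≤ o2 H)
    (hfix : ∀ Y : Subgroup G, IsMinPar T Y → Y ≤ H → FixPt K T Y)
    (hblk : ∀ Y : Subgroup G, IsMinPar T Y → Y ≤ H → ¬ K ≤ o2 Y → ¬ Y ≤ centralizer (zc T : Set G) → Y ≤ M) :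
    H ≤ (H ⊓ M) ⊔ ⨆ Y : {Y : Subgroup G // IsMinPar T Y ∧ Y ≤ H ∧ ¬ K ≤ o2 Y ∧
      Y ≤ centralizer (zc T : Set G) ∧ ¬ o2 Y ≤ B}, (Y : Subgroup G) := by
  have hZM := norm_le_M hB hK hN
  have hTN : normalizer (T : Set G) ≤ M := (hB.nrm T hT.2.1 (hB.KB.trans hBT)).trans hZM
  have hTM : T ≤ M := le_normalizer.trans hTN
  have hD : centralizer (ZJ : Set G) ≤ M := cent_le_K0.trans hK
  refine MinSimple.MinParabolic.le_of_forall hT.1 ?_ fun Y hY hYH => ?_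
  · exact le_sup_of_le_left (inf_le_inf_left _ hTN)
  have hcase : Y ≤ M → Y ≤ (H ⊓ M) ⊔ ⨆ Y : {Y : Subgroup G // IsMinPar T Y ∧ Y ≤ H ∧ ¬ K ≤ o2 Y ∧
      Y ≤ centralizer (zc T : Set G) ∧ ¬ o2 Y ≤ B}, (Y : Subgroup G) :=
    fun h => le_sup_of_le_left (le_inf hYH h)
  have hTY : Syl T Y := ⟨hY.le, hT.2.1, fun Q hQ h2 hTQ => hT.2.2 Q (hQ.trans hYH) h2 hTQ⟩
  by_cases h1 : K ≤ o2 Y
  · exact hcase ((le_normalizer_o2 Y).trans ((hB.nrm _ (isPGroup_o2 Y) h1).trans hZM))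
  by_cases h2 : Y ≤ centralizer (zc T : Set G)
  · by_cases h3 : o2 Y ≤ B
    · apply hcase
      -- `Z_J ≤ Ω₁(Z(O₂(Y)))`
      have h4 : o2 H ≤ o2 Y := by
        refine le_o2 (isPGroup_o2 H) ((o2_le_syl hT).trans hY.le) (hYH.trans (le_normalizer_o2 H))
      have hcY : Y ⊓ centralizer (o2 Y : Set G) ≤ o2 Y := by
        rintro x ⟨hx, hxc⟩
        exact h4 (hc ⟨hYH hx, centralizer_le (by exact_mod_cast h4) hxc⟩)
      have h5 : ZJ ≤ zc (o2 Y) := by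
        intro z hz
        have hzT : z ∈ T := hBT (hB.ZB hz)
        have hcz : ∀ y ∈ o2 Y, y * z = z * y := fun y hy =>
          (mem_centralizer_iff.1 (hB.Bc (h3 hy)) z hz).symm
        exact mem_zc.2 ⟨hcY ⟨hY.le hzT, mem_centralizer_iff.2 hcz⟩, hB.sq z hz, hcz⟩
      have h6 := h5.trans (hfix Y hY hYH h1 h2)
      have h7 : MinSimple.VModule.oddGen Y ≤ M := (le_centralizer_iff.1 h6).trans hD
      have h8 : MinSimple.VModule.oddGen Y ⊔ T = Y := Dich.oddGen_sup_syl hTY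
      rw [← h8]
      exact sup_le h7 hTM
    · exact le_sup_of_le_right (le_iSup (fun Y : {Y : Subgroup G // IsMinPar T Y ∧ Y ≤ H ∧ ¬ K ≤ o2 Y ∧
        Y ≤ centralizer (zc T : Set G) ∧ ¬ o2 Y ≤ B} => (Y : Subgroup G))
        ⟨Y, hY, hYH, h1, h2, h3⟩)
  · exact hcase (hblk Y hY hYH h1 h2)

/-- **(O1+) at stage `n`** for the family of all FF-blocks over `B`: `H` is generated by `H ∩ M`, the minimal parabolics of
smaller stage over `T` which move `Ω₁(Z(T))`, and the minimal parabolics `Y` over `T` with `lev S (n + 1) ≰ O₂(Y)`,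
`[Ω₁(Z(T)), Y] = 1` and `O₂(Y) ≰ B`. -/
theorem gen {S : Sylow 2 G} {n : ℕ} {M : Subgroup G}
    (hK : K0 (zc (lev (S : Subgroup G) (n + 1))) (FBlk (BL (S : Subgroup G) (n + 1))) ≤ M)
    (hN : normalizer (BL (S : Subgroup G) (n + 1) : Set G) ≤ M)
    (hT : Syl T H) (hB : BL (S : Subgroup G) (n + 1) ≤ T) (hc : H ⊓ centralizer (o2 H : Set G) ≤ o2 H)
    (hlow : ∀ Y : Subgroup G, IsMinPar T Y → Y ≤ H → ¬ lev (S : Subgroup G) n ≤ o2 Y →
      ¬ Y ≤ centralizer (zc T : Set G) → Y ≤ M) :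
    H ≤ (H ⊓ M) ⊔ ⨆ Y : {Y : Subgroup G // IsMinPar T Y ∧ Y ≤ H ∧ ¬ lev (S : Subgroup G) (n + 1) ≤ o2 Y ∧
      Y ≤ centralizer (zc T : Set G) ∧ ¬ o2 Y ≤ BL (S : Subgroup G) (n + 1)}, (Y : Subgroup G) := by
  have hb := lb S (n + 1)
  have hle := hb.KB.trans hB
  have hTM : T ≤ M := (le_normalizer.trans (hb.nrm T hT.2.1 hle)).trans (LevD.norm_le_M hb hK hN)
  refine genM hb hK hN hT hB hc (fun Y hY hYH => LevD.fixPt S ⟨hY.le, hT.2.1, fun Q hQ h2 hTQ => hT.2.2 Q (hQ.trans hYH) h2 hTQ⟩ hle hY) fun Y hY hYH hnY hZ => ?_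
  by_cases hK' : lev (S : Subgroup G) n ≤ o2 Y
  · have hTY : Syl T Y := ⟨hY.le, hT.2.1, fun Q hQ h2 hTQ => hT.2.2 Q (hQ.trans hYH) h2 hTQ⟩
    have h4 : o2 H ≤ o2 Y :=
      le_o2 (isPGroup_o2 H) ((o2_le_syl hT).trans hY.le) (hYH.trans (le_normalizer_o2 H))
    have hcY : Y ⊓ centralizer (o2 Y : Set G) ≤ o2 Y := by
      rintro x ⟨hx, hxc⟩
      exact h4 (hc ⟨hYH hx, centralizer_le (by exact_mod_cast h4) hxc⟩)
    exact (blkGen S hTY hB hY hcY hK' hnY hZ).trans (sup_le hK hTM)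
  · exact hlow Y hY hYH hK' hZ

end

end Cfsg.Agent.Omega.OM.LevB
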