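import Cfsg.Agent.Omega.OM.Lev.Exa
import Cfsg.Agent.Omega.NO3S.EThree.FrameG
import Cfsg.Agent.Omega.NO3S.HypL

/-!
# `HypL S P`, `V_P` a sum of `k ≥ 2` natural modules: the frame `Bg`

* `Hy.perm`, `Hy.trans`, `Hy.tr`, `Hy.scal` : the fields of `Bg`;
* `bg_K` : a level `K` (`Lev S K`, `K ≤ O₂(P)`, a best offender on `Ω₁(Z(K))` is not in `O₂(P)`):
  `ZJ = Ω₁(Z(nxt S K))`, `B = C_S(ZJ)`, the frames `FrL` and `Bg`; `bg_lev` : stage `n`, `K = lev S n`;
* `bg_J` : stage `-1`;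
* `exists_bg` : `HypL S P`, `NatKM F S P (zl S P) (cv S P) k`, `2 ≤ k` gives `Bg S P B ZJ L W Z C |F|`.
-/

set_option autoImplicit false
set_option linter.unusedSectionVars false
set_option linter.unusedVariables false

namespace Cfsg.Agent.Omega.OM.Lev.Main

open Subgroup Cfsg Cfsg.Agent.PLocal.ThompsonJ Cfsg.Agent.ZN Cfsg.Agent.ZN.ChoiceBase Cfsg.Agent.Omega.MinPar
open Cfsg.Agent.Omega.NatPair (ap ap_zero' ap_one' ap_one ap_mul ext2 exists_ap)
open Cfsg.Agent.Lib.SL2Mat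
open Cfsg.Agent.Omega.SQ1.FFOne
open Cfsg.Agent.Omega.FFThm (NatK ActsSL Off OffM NatKM ElemM NoOverM)
open Cfsg.Agent.Omega.FrameFF (cv)
open Cfsg.Agent.Omega.NO3S (HypL HypN HypJ Hyp)
open Cfsg.Agent.Omega.NO3S.OneLine (NatC)
open Cfsg.Agent.Omega.NO3S.Level (lev lev_isLev)
open Cfsg.Agent.Omega.NO3S.EThree.Frame (Bg Fg ScalG)
open Cfsg.Agent.Omega.OM.Lev.Uni (FrL Best)
open Cfsg.Agent.Omega.OM.Lev.Nat Cfsg.Agent.Omega.OM.Lev.Exa

universe u

variable {G : Type u} [Group G] [Finite G]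

section hy

variable {F : Type} [Field F] [Finite F] [CharP F 2] {T H V D : Subgroup G} {k : ℕ}
  {M : NatC F T H V D k} {B ZJ : Subgroup G} (h : Hy M B ZJ)

omit [Finite F] [CharP F 2] in
theorem cj_WC {g : G} {σ : Equiv.Perm (Fin k)} (hg : g ∈ H)
    (hσ : ∀ v ∈ V, ∀ i, M.nat.e (g * v * g⁻¹) (σ i) = 0 ↔ M.nat.e v i = 0) (i : Fin k) :
    cj g (Wn M i) = Wn M (σ i) ∧ cj g (Cn M i) = Cn M (σ i) := by
  have hgv : ∀ x ∈ V, g⁻¹ * x * g ∈ V := by
    intro x hx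
    have := M.Vn g⁻¹ (inv_mem hg) x hx
    rwa [inv_inv] at this
  have e0 : ∀ x : G, g * (g⁻¹ * x * g) * g⁻¹ = x := fun x => by group
  constructor
  · ext x
    rw [mem_cj]
    constructor
    · rintro ⟨hx, hx'⟩
      have hxV : x ∈ V := by
        have := M.Vn g hg _ hx
        rwa [e0] at this
      refine ⟨hxV, fun j hj => ?_⟩
      have h1 := (hσ _ hx (σ.symm j)).2 (hx' _ fun e => hj (by rw [← e, Equiv.apply_symm_apply]))
      rwa [Equiv.apply_symm_apply, e0] at h1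
    · rintro ⟨hx, hx'⟩
      refine ⟨hgv x hx, fun j hj => ?_⟩
      refine (hσ _ (hgv x hx) j).1 ?_
      rw [e0]
      exact hx' _ fun e => hj (σ.injective e)
  · ext x
    rw [mem_cj]
    constructor
    · rintro ⟨hx, hx'⟩
      have hxV : x ∈ V := by
        have := M.Vn g hg _ hx
        rwa [e0] at this
      have h1 := (hσ _ hx i).2 hx'
      rw [e0] at h1
      exact ⟨hxV, h1⟩
    · rintro ⟨hx, hx'⟩
      refine ⟨hgv x hx, (hσ _ (hgv x hx) i).1 ?_⟩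
      rw [e0]
      exact hx'

omit [Finite F] [CharP F 2] in
theorem perm {p : G} (hp : p ∈ H) : ∃ σ : Equiv.Perm (Fin k), ∀ i,
    cj p (Wn M i) = Wn M (σ i) ∧ cj p (Cn M i) = Cn M (σ i) := by
  obtain ⟨σ, hσ⟩ := M.nat.perm p hp
  exact ⟨σ, cj_WC hp hσ⟩

omit [Finite F] [CharP F 2] in
theorem trans (hTH : T ≤ H) (i j : Fin k) : ∃ t ∈ T, cj t (Wn M i) = Wn M j := by
  classical
  obtain ⟨t, ht, hij⟩ := M.nat.trans i j
  have htP : t ∈ H := hTH ht
  obtain ⟨σ, hσ⟩ := M.nat.perm t htP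
  have h1 := cj_WC htP hσ i
  have h2 : σ i = j := by
    by_contra hne
    obtain ⟨v, hv, e⟩ := M.nat.surj (Function.update 0 (σ i) ![1, 0])
    have h3 : M.nat.e v j = 0 := by rw [e, Function.update_of_ne (Ne.symm hne)]; rfl
    have hv0 : M.nat.e v (σ i) ≠ 0 := by
      rw [e, Function.update_self]
      intro h0
      have := congrFun h0 0
      simp at this
    obtain ⟨w, hw, rfl⟩ : ∃ w ∈ V, t * w * t⁻¹ = v := by
      refine ⟨t⁻¹ * v * t, ?_, by group⟩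
      have := M.Vn t⁻¹ (inv_mem htP) v hv
      rwa [inv_inv] at this
    exact hv0 ((hσ w hw i).2 ((hij w hw).1 h3))
  exact ⟨t, ht, h2 ▸ h1.1⟩

include h

omit [Finite F] [CharP F 2] in
theorem tr {Z : Fin k → Subgroup G} (hZ : ∀ i v, v ∈ Z i ↔ v ∈ Wn M i ∧ M.nat.e v i 1 = 0) (i : Fin k) {x : G}
    (hx : x ∈ Wn M i) (hx1 : x ≠ 1) : ∃ l ∈ H, l ∈ centralizer (Cn M i : Set G) ∧ ∃ z ∈ Z i, l * z * l⁻¹ = x := by
  classical
  have hxi : M.nat.e x i ≠ 0 := by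
    intro h0
    apply hx1
    refine h.inj hx.1 (one_mem _) ?_
    rw [M.map_one]
    funext j
    by_cases hj : j = i
    · rw [hj]; exact h0
    · exact hx.2 j hj
  obtain ⟨z, hz, e⟩ := M.nat.surj (Function.update 0 i ![1, 0])
  have hzW : z ∈ Wn M i := ⟨hz, fun j hj => by rw [e, Function.update_of_ne hj]; rfl⟩
  have hzi : M.nat.e z i = ![1, 0] := by rw [e, Function.update_self]
  have hzi0 : M.nat.e z i ≠ 0 := by
    rw [hzi]
    intro h0
    have := congrFun h0 0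
    simp at this
  obtain ⟨B', hB⟩ := exists_ap hzi0 hxi
  obtain ⟨l, hl, hlA, -⟩ := M.nat.lift (Function.update 1 i B')
  refine ⟨l, hl, mem_centralizer_iff.2 fun c hc => ?_, z, (hZ i z).2 ⟨hzW, by rw [hzi]; rfl⟩, ?_⟩
  · have h1 : l * c * l⁻¹ = c := by
      refine h.inj (M.Vn l hl c hc.1) hc.1 ?_
      funext j
      rw [hlA c hc.1 j]
      by_cases hj : j = i
      · have h0 : M.nat.e c i = 0 := hc.2
        rw [hj, h0, ap_z]
      · rw [Function.update_of_ne hj, Pi.one_apply, ap_one]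
    calc c * l = l * c * l⁻¹ * l := by rw [h1]
      _ = l * c := by group
  · refine h.inj (M.Vn l hl z hz) hx.1 ?_
    funext j
    rw [hlA z hz j]
    by_cases hj : j = i
    · rw [hj, Function.update_self, hB]
    · rw [Function.update_of_ne hj, Pi.one_apply, ap_one]
      exact (hzW.2 j hj).trans (hx.2 j hj).symm

theorem scal {Z : Fin k → Subgroup G} (hZ : ∀ i v, v ∈ Z i ↔ v ∈ Wn M i ∧ M.nat.e v i 1 = 0) (i : Fin k) :
    ScalG B H (Wn M) Z (Cn M) i := by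
  classical
  have hup : ∀ b ∈ B, ∃ c : Fin k → F, ∀ v ∈ V, ∀ i, M.nat.e (b * v * b⁻¹) i = ap (up (c i)) (M.nat.e v i) :=
    fun b hb => h.up_of hb
  have hBP := h.BH
  have hinj : ∀ v ∈ V, ∀ w ∈ V, M.nat.e v = M.nat.e w → v = w := fun v hv w hw e => h.inj hv hw e
  have hinv : ∀ v ∈ V, M.nat.e v⁻¹ = - M.nat.e v := fun v hv => M.map_inv hv
  have hmul := M.nat.mul
  have hone : M.nat.e 1 = 0 := M.map_one
  -- commutators
  have hcomm : ∀ b ∈ B, ∀ c : Fin k → F, (∀ v ∈ V, ∀ i, M.nat.e (b * v * b⁻¹) i = ap (up (c i)) (M.nat.e v i)) →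
      ∀ v ∈ V, ∀ j, M.nat.e (b * v * b⁻¹ * v⁻¹) j = ![c j * M.nat.e v j 1, 0] := by
    intro b hb c hc v hv j
    rw [hmul _ (M.Vn b (hBP hb) v hv) _ (inv_mem hv), hinv v hv, Pi.add_apply, Pi.neg_apply, hc v hv j]
    apply ext2
    · rw [Pi.add_apply, Pi.neg_apply, ap_zero', up_00, up_01]
      simp
    · rw [Pi.add_apply, Pi.neg_apply, ap_one', up_10, up_11]
      simp
  have hnot : ∀ v ∈ Wn M i, v ∉ Z i → M.nat.e v i 1 ≠ 0 := fun v hv hvZ h0 => hvZ ((hZ i v).2 ⟨hv, h0⟩)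
  refine ⟨fun v hv hvZ z hz => ?_, fun v hv hvZ v' hv' hvZ' => ?_⟩
  · have hv1 := hnot v hv hvZ
    obtain ⟨hzW, hz1⟩ := (hZ i z).1 hz
    obtain ⟨b, hbB, hbc⟩ := h.exists_b fun _ => M.nat.e z i 0 / M.nat.e v i 1
    refine ⟨b, hbB, hinj _ (mul_mem (M.Vn b (hBP hbB) v hv.1) (inv_mem hv.1)) _ hzW.1 ?_⟩
    funext j
    rw [hcomm b hbB _ hbc v hv.1 j]
    by_cases hj : j = i
    · subst hj
      apply ext2
      · change M.nat.e z j 0 / M.nat.e v j 1 * M.nat.e v j 1 = _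
        rw [div_mul_cancel₀ _ hv1]
      · exact hz1.symm
    · have h1 : M.nat.e v j = 0 := hv.2 j hj
      have h2 : M.nat.e z j = 0 := hzW.2 j hj
      rw [h1, h2]
      apply ext2 <;> simp
  · have hv1 := hnot v hv hvZ
    have hv1' := hnot v' hv' hvZ'
    set μ : F := M.nat.e v' i 1 / M.nat.e v i 1 with hμ
    have hμ0 : μ ≠ 0 := div_ne_zero hv1' hv1
    let D : Matrix.SpecialLinearGroup (Fin 2) F := ⟨!![μ⁻¹, 0; 0, μ], by
      rw [Matrix.det_fin_two_of, mul_zero, sub_zero, inv_mul_cancel₀ hμ0]⟩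
    have hD0 : ∀ x : Fin 2 → F, ap D x 0 = μ⁻¹ * x 0 := fun x => by
      rw [ap_zero']
      change μ⁻¹ * x 0 + 0 * x 1 = _
      rw [zero_mul, add_zero]
    have hD1 : ∀ x : Fin 2 → F, ap D x 1 = μ * x 1 := fun x => by
      rw [ap_one']
      change 0 * x 0 + μ * x 1 = _
      rw [zero_mul, zero_add]
    obtain ⟨a, haP, haA, -⟩ := M.nat.lift (Function.update 1 i D)
    have ha : ∀ w ∈ V, M.nat.e (a * w * a⁻¹) i = ap D (M.nat.e w i) := fun w hw => by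
      rw [haA w hw i, Function.update_self]
    have ha' : ∀ w ∈ V, ∀ j, j ≠ i → M.nat.e (a * w * a⁻¹) j = M.nat.e w j := fun w hw j hj => by
      rw [haA w hw j, Function.update_of_ne hj, Pi.one_apply, ap_one]
    have haV : ∀ w ∈ V, a * w * a⁻¹ ∈ V := M.Vn a haP
    have haV' : ∀ w ∈ V, a⁻¹ * w * a ∈ V := fun w hw => by
      have := M.Vn a⁻¹ (inv_mem haP) w hw
      rwa [inv_inv] at this
    have hai : ∀ w ∈ V, M.nat.e (a⁻¹ * w * a) i 0 = μ * M.nat.e w i 0 ∧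
        M.nat.e (a⁻¹ * w * a) i 1 = μ⁻¹ * M.nat.e w i 1 ∧
        ∀ j, j ≠ i → M.nat.e (a⁻¹ * w * a) j = M.nat.e w j := by
      intro w hw
      have e1 : a * (a⁻¹ * w * a) * a⁻¹ = w := by group
      have h1 := ha _ (haV' w hw)
      rw [e1] at h1
      refine ⟨?_, ?_, fun j hj => ?_⟩
      · rw [h1, hD0, ← mul_assoc, mul_inv_cancel₀ hμ0, one_mul]
      · rw [h1, hD1, ← mul_assoc, inv_mul_cancel₀ hμ0, one_mul]
      · have := ha' _ (haV' w hw) j hj
        rw [e1] at this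
        exact this.symm
    have haW : ∀ w ∈ Wn M i, a * w * a⁻¹ ∈ Wn M i := fun w hw =>
      ⟨haV w hw.1, fun j hj => (ha' w hw.1 j hj).trans (hw.2 j hj)⟩
    refine ⟨a, haP, mem_centralizer_iff.2 fun c hc => ?_, ?_, ?_, ?_, ?_⟩
    · have h1 : a * c * a⁻¹ = c := by
        refine hinj _ (haV c hc.1) _ hc.1 (funext fun j => ?_)
        by_cases hj : j = i
        · have h0 : M.nat.e c i = 0 := hc.2
          rw [hj, ha c hc.1, h0, ap_z]
        · exact ha' c hc.1 j hj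
      calc c * a = a * c * a⁻¹ * a := by rw [h1]
        _ = a * c := by group
    · rw [mem_normalizer_iff_cj]
      refine Subgroup.eq_of_le_of_card_ge ?_ (by rw [card_cj])
      rintro _ ⟨z, hz, rfl⟩
      obtain ⟨hzW, hz1⟩ := (hZ i z).1 hz
      refine (hZ i _).2 ⟨haW z hzW, ?_⟩
      change M.nat.e (a * z * a⁻¹) i 1 = 0
      rw [ha z hzW.1, hD1, hz1, mul_zero]
    · intro b hb w hw
      obtain ⟨c, hc⟩ := hup b hb
      have hx : b * w * b⁻¹ * w⁻¹ ∈ V := mul_mem (M.Vn b (hBP hb) w hw.1) (inv_mem hw.1)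
      refine hinj _ (mul_mem (M.Vn b (hBP hb) _ (haV w hw.1)) (inv_mem (haV w hw.1))) _ (haV' _ hx) ?_
      funext j
      rw [hcomm b hb c hc _ (haV w hw.1) j]
      obtain ⟨h1, h2, h3⟩ := hai _ hx
      by_cases hj : j = i
      · subst hj
        apply ext2
        · rw [h1, hcomm b hb c hc w hw.1 j, ha w hw.1, hD1]
          change c j * (μ * M.nat.e w j 1) = μ * (c j * M.nat.e w j 1)
          ring
        · rw [h2, hcomm b hb c hc w hw.1 j]
          change (0 : F) = μ⁻¹ * 0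
          rw [mul_zero]
      · rw [h3 j hj, hcomm b hb c hc w hw.1 j, ha' w hw.1 j hj]
    · refine (hZ i _).2 ⟨mul_mem (inv_mem hv') (haW v hv), ?_⟩
      rw [hmul _ (inv_mem hv'.1) _ (haV v hv.1), hinv v' hv'.1, Pi.add_apply, Pi.neg_apply, Pi.add_apply,
        Pi.neg_apply, ha v hv.1, hD1, hμ, div_mul_cancel₀ _ hv1, neg_add_cancel]
    · intro hne w hw hfix
      have hμ1 : μ ≠ 1 := by
        intro h1
        apply hne
        refine (hZ i _).2 ⟨mul_mem (inv_mem hv') hv, ?_⟩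
        rw [hμ, div_eq_one_iff_eq hv1] at h1
        rw [hmul _ (inv_mem hv'.1) _ hv.1, hinv v' hv'.1, Pi.add_apply, Pi.neg_apply, Pi.add_apply,
          Pi.neg_apply, h1, neg_add_cancel]
      have h1 := ha w hw.1
      rw [hfix] at h1
      refine hinj w hw.1 1 (one_mem _) ?_
      rw [hone]
      funext j
      by_cases hj : j = i
      · subst hj
        have h2 := congrFun h1 0
        have h3 := congrFun h1 1
        rw [hD0] at h2
        rw [hD1] at h3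
        have h4 : (μ - 1) * M.nat.e w j 1 = 0 := by rw [sub_mul, one_mul, ← h3, sub_self]
        have h5 : (μ - 1) * M.nat.e w j 0 = 0 := by
          have : μ * M.nat.e w j 0 = M.nat.e w j 0 := by
            conv_lhs => rw [h2]
            rw [← mul_assoc, mul_inv_cancel₀ hμ0, one_mul]
          rw [sub_mul, one_mul, this, sub_self]
        have hμ2 : μ - 1 ≠ 0 := sub_ne_zero.2 hμ1
        apply ext2
        · exact (mul_eq_zero.1 h5).resolve_left hμ2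
        · exact (mul_eq_zero.1 h4).resolve_left hμ2
      · exact hw.2 j hj

end hy

/-- `FrL` gives `Fg`. -/
theorem toFg {ι : Type*} {B Q V X ZJ : Subgroup G} {L W Z C A : ι → Subgroup G} {q : ℕ}
    (h : FrL B Q V X ZJ L W Z C A q) : Fg B Q V ZJ L W Z C q where
  blk := h.blk
  cardZ := h.cardZ
  QB := h.QB
  VQ := h.VQ
  el := h.el
  mem_Q := h.mem_Q
  zcQ := h.zcQ
  mem_ZJ := h.mem_ZJ
  LV := h.LV
  LQ := h.LQ
  WV := h.WV
  CV := h.CV
  WC := h.WC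
  dir := h.dir
  C0 := h.C0
  WjC := h.WjC
  BC := h.BC
  LC := h.LC

/-- the root group -/
theorem root {ι : Type*} {B Q V X ZJ : Subgroup G} {L W Z C A : ι → Subgroup G} {q : ℕ}
    (h : FrL B Q V X ZJ L W Z C A q) (i : ι) {v : G} (hv : v ∈ W i) (hvZ : v ∉ Z i) {z : G} (hz : z ∈ Z i) :
    ∃ b ∈ A i, b ∈ centralizer (C i : Set G) ∧ b * v * b⁻¹ * v⁻¹ = z := by
  obtain ⟨R, h1, h2, -, h4⟩ := (h.blk i).toMd.relIndex_comm (h.AB i) hv hvZ
  have h5 := (h.A_full i).2.2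
  rw [← h5] at h4
  have h6 : Nat.card R = q := Nat.eq_of_mul_eq_mul_right Nat.card_pos h4
  have h7 : R = Z i := Subgroup.eq_of_le_of_card_ge h1 (by rw [h6, h.cardZ])
  rw [← h7] at hz
  obtain ⟨x, hx, e⟩ := h2 z hz
  exact ⟨x, hx, mem_centralizer_iff.2 fun c hc => (h.AC i x hx c hc).symm, e.symm⟩

section main

variable {S : Sylow 2 G} {P : Subgroup G} {F : Type} [Field F] [Finite F] [CharP F 2] {k : ℕ}

/-- **The frames at a level `K`.** `X = Ω₁(Z(K))`, `ZJ = Ω₁(Z(nxt S K))`, `B = C_S(ZJ)`. -/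
theorem bg_K (h : HypN S P) {K : Subgroup G} (hL : NO3S.Level.Lev (S : Subgroup G) K) (hK : K ≤ o2 P)
    (hJ : ∃ A ∈ NO3S.Level.BO (S : Subgroup G) K, ¬ A ≤ o2 P) (hk : 2 ≤ k)
    (N : NatKM F (S : Subgroup G) P (zl (S : Subgroup G) P) (cv (S : Subgroup G) P) k) {B : Subgroup G}
    (eqB : B = (S : Subgroup G) ⊓
      centralizer ((zc (NO3S.Level.nxt (S : Subgroup G) K) : Subgroup G) : Set G)) :
    ∃ (M : NatC F (S : Subgroup G) P (zl (S : Subgroup G) P) (cv (S : Subgroup G) P) k)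
      (L Z A : Fin k → Subgroup G), M.nat = N.toNatK ∧
      FrL B (o2 P) (zl (S : Subgroup G) P) (zc K) (zc (NO3S.Level.nxt (S : Subgroup G) K))
        L (Wn M) Z (Cn M) A (Nat.card F) ∧
      Bg S P B (zc (NO3S.Level.nxt (S : Subgroup G) K)) L (Wn M) Z (Cn M) (Nat.card F) ∧
      (∀ i, A i ∈ NO3S.Level.BO (S : Subgroup G) K) ∧
      (∀ i, L i ≤ Xn M i) ∧
      (∀ i A, ∃ l ∈ L i, ∃ A', M.Acts l A' ∧ A' i = A) ∧
      (∀ i v, v ∈ Z i ↔ v ∈ Wn M i ∧ M.nat.e v i 1 = 0) ∧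
      ∀ v, v ∈ zc (NO3S.Level.nxt (S : Subgroup G) K) ↔
        v ∈ zl (S : Subgroup G) P ∧ ∀ i, M.nat.e v i 1 = 0 := by
  classical
  have hk0 : 0 < k := by omega
  have hG := h.toHyp.ctx.char2
  obtain ⟨E, -⟩ := NO3S.OneLine.exa_lev FF.Glob.ffthmM hG h.toHyp.star hL hK h.toHyp.inf_eq_bot hJ
  have hZJ : ∀ v, v ∈ zc (NO3S.Level.nxt (S : Subgroup G) K) ↔
      v ∈ zl (S : Subgroup G) P ∧ ∀ i, N.e v i 1 = 0 := by
    intro v
    have h1 := E.cent_nat N hk0 (x := v)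
    rw [NO3S.OneLine.zc_nxt_eq hL]
    exact h1
  have wc : WeakCl.WC B := Wc.wc_cent_Lev hL.next eqB
  have SZJ := Wc.S_norm_Lev hL.next
  set M := natM E N hk0 with hM
  have H : Hy M B (zc (NO3S.Level.nxt (S : Subgroup G) K)) := hy_of E N hk0 eqB hZJ wc SZJ
  choose A hA hAX hAb hA1 hA2 using exists_one E N hk0
  obtain ⟨L, Z, A', hL1, hA', hL2, hZ, hF⟩ := H.frL E.elem E.VX E.norm fun i =>
    ⟨A i, hA i, hAX i, hAb i, hA1 i, hA2 i⟩
  refine ⟨M, L, Z, A', rfl, hF, ?_, fun i => ?_, hL1, hL2, hZ, hZJ⟩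
  · exact
      { hyp := h
        fr := toFg hF
        wc := wc
        eqB := eqB
        SZJ := SZJ
        two := fun i => by
          have h1 : Nontrivial (Fin k) := Fin.nontrivial_iff_two_le.2 hk
          exact exists_ne i
        LP := fun i l hl => (hL1 i hl).1
        perm := fun p hp => perm hp
        trans := fun i j => trans H.syl.1 i j
        tr := fun i x hx hx1 => tr H hZ i hx hx1
        root := fun i v hv hvZ z hz' => by
          obtain ⟨b, hb, h1, h2⟩ := root hF i hv hvZ hz'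
          exact ⟨b, hF.AB i hb, h1, h2⟩
        nrm := fun g hg => hF.norm_of hg (NO3S.Level.normalizer_le_zc _ (Wc.norm_B_Lev hL eqB hg))
        scal := fun _ i => scal H hZ i }
  · exact ⟨hA' i, ⟨hF.AX i, fun F' h1 h2 => hF.best i F' h2 h1⟩⟩

/-- **The frames at stage `n`.** `X = Ω₁(Z(lev S n))`, `ZJ = Ω₁(Z(lev S (n + 1)))`, `B = C_S(ZJ)`. -/
theorem bg_lev (h : HypN S P) {n : ℕ} (hn : lev (S : Subgroup G) n ≤ o2 P)
    (hn1 : ¬ lev (S : Subgroup G) (n + 1) ≤ o2 P) (hk : 2 ≤ k)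
    (N : NatKM F (S : Subgroup G) P (zl (S : Subgroup G) P) (cv (S : Subgroup G) P) k) {B : Subgroup G}
    (eqB : B = (S : Subgroup G) ⊓ centralizer ((zc (lev (S : Subgroup G) (n + 1)) : Subgroup G) : Set G)) :
    ∃ (M : NatC F (S : Subgroup G) P (zl (S : Subgroup G) P) (cv (S : Subgroup G) P) k)
      (L Z A : Fin k → Subgroup G), M.nat = N.toNatK ∧
      FrL B (o2 P) (zl (S : Subgroup G) P) (zc (lev (S : Subgroup G) n)) (zc (lev (S : Subgroup G) (n + 1)))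
        L (Wn M) Z (Cn M) A (Nat.card F) ∧
      Bg S P B (zc (lev (S : Subgroup G) (n + 1))) L (Wn M) Z (Cn M) (Nat.card F) ∧
      (∀ i, A i ∈ NO3S.Level.BO (S : Subgroup G) (lev (S : Subgroup G) n)) ∧
      (∀ i, L i ≤ Xn M i) ∧
      (∀ i A, ∃ l ∈ L i, ∃ A', M.Acts l A' ∧ A' i = A) ∧
      (∀ i v, v ∈ Z i ↔ v ∈ Wn M i ∧ M.nat.e v i 1 = 0) ∧
      ∀ v, v ∈ zc (lev (S : Subgroup G) (n + 1)) ↔ v ∈ zl (S : Subgroup G) P ∧ ∀ i, M.nat.e v i 1 = 0 :=
  bg_K h (lev_isLev (S : Subgroup G) n) hn (NO3S.exists_BO h.toHyp.ctx.char2 h.toHyp.star hn hn1) hk N eqB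

/-- **Stage `-1`.** -/
theorem bg_J (h : HypJ S P) (hk : 2 ≤ k)
    (N : NatK F (S : Subgroup G) P (zl (S : Subgroup G) P) (cv (S : Subgroup G) P) k) :
    ∃ L W Z C : Fin k → Subgroup G, Bg S P (bau (S : Subgroup G)) (zj (S : Subgroup G)) L W Z C (Nat.card F) := by
  obtain ⟨L, Z, A, hB, hZ, -, -⟩ := NO3S.EThree.Frame.exists_bs h hk N
  exact ⟨L, _, Z, _, NO3S.EThree.Frame.Bg.of_bs hB fun _ i => NO3S.EThree.Frame.scal h (by omega) N hZ i⟩

/-- **The frame `Bg` at every stage.** -/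
theorem exists_bg (h : HypL S P) (hk : 2 ≤ k)
    (N : NatKM F (S : Subgroup G) P (zl (S : Subgroup G) P) (cv (S : Subgroup G) P) k) :
    ∃ (B ZJ : Subgroup G) (L W Z C : Fin k → Subgroup G), Bg S P B ZJ L W Z C (Nat.card F) := by
  rcases h.stage with hj | ⟨n, hn, hn1⟩
  · obtain ⟨L, W, Z, C, hB⟩ := bg_J ⟨h.toHypN, hj⟩ hk N.toNatK
    exact ⟨_, _, L, W, Z, C, hB⟩
  · obtain ⟨M, L, Z, A, -, -, hB, -⟩ := bg_lev h.toHypN (hn P h.star) hn1 hk N rfl
    exact ⟨_, _, L, _, Z, _, hB⟩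

end main

end Cfsg.Agent.Omega.OM.Lev.Main
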