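import Cfsg.Agent.Omega.OM.Lev.Uni

/-!
# FIX-X (bb OMEGA #22160, #22723 (A)): LEMMA FIX inside `X = Ω₁(Z(lev n))`, every `q`, every `k`

Over the frame `Lev.Uni.FrL`: `V ≤ X ≤ B`, `X` elementary abelian, `A i` a best offender on `X` acting on `W i` only.

* `fixX` : `n ∈ X`, `[n, Q] ≤ Z i` ⟹ `n ∈ V`.
-/

set_option autoImplicit false

namespace Cfsg.Agent.Omega.OM.FixXQ

open Subgroup Cfsg Cfsg.Agent.PLocal.ThompsonJ Cfsg.Agent.ZN Cfsg.Agent.ZN.ChoiceBase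
open Cfsg.Agent.PLocal.ElemAbSup
open Cfsg.Agent.Omega.SQ1.Bau (mem_sup_comm card_sup_comm elem_comm elem_sq)
open Cfsg.Agent.Omega.OM.BlockUniq Cfsg.Agent.Omega.OM.Uni
open Cfsg.Agent.Omega.OM.Lev.Uni
open Cfsg.Agent.Omega.FFThm (ElemM)

universe u

variable {G : Type u} [Group G]

section elem

variable {X A : Subgroup G}

/-- `A` is abelian modulo `C(X)`: conjugates of `e ∈ A` act on `X` as `e`. -/
theorem act_conj (hA : ElemM X A) {a e x : G} (ha : a ∈ A) (he : e ∈ A) (hx : x ∈ X) :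
    a⁻¹ * e * a * x * (a⁻¹ * e * a)⁻¹ = e * x * e⁻¹ := by
  have h1 := hA.comm e⁻¹ (inv_mem he) a⁻¹ (inv_mem ha)
  have h2 := mem_centralizer_iff.1 h1 x hx
  have e1 : e⁻¹ * a⁻¹ * e⁻¹⁻¹ * a⁻¹⁻¹ = e⁻¹ * (a⁻¹ * e * a) := by group
  rw [e1] at h2
  calc a⁻¹ * e * a * x * (a⁻¹ * e * a)⁻¹ = e * (e⁻¹ * (a⁻¹ * e * a) * x) * (a⁻¹ * e * a)⁻¹ := by group
    _ = e * (x * (e⁻¹ * (a⁻¹ * e * a))) * (a⁻¹ * e * a)⁻¹ := by rw [h2]
    _ = e * x * e⁻¹ := by group

end elem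

variable {ι : Type*} {B Q V X ZJ : Subgroup G} {L W Z C A : ι → Subgroup G} {q : ℕ}

/-- `B` normalises `X` -/
theorem bX (h : FrL B Q V X ZJ L W Z C A q) (i : ι) {b : G} (hb : b ∈ B) {x : G} (hx : x ∈ X) :
    b * x * b⁻¹ ∈ X := h.LX i b ((h.blk i).BL hb) x hx

/-- The case `[y, C_A(W i)] ≠ 1`. -/
theorem caseNe [Finite G] (h : FrL B Q V X ZJ L W Z C A q) (i : ι) {l : G} (hl : l ∈ L i)
    (hne : cj l (Z i) ≠ Z i) {y : G} (hy : y ∈ X) (hyQ : ∀ o ∈ Q, o * y * o⁻¹ * y⁻¹ ∈ cj l (Z i)) {e₀ : G}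
    (he₀ : e₀ ∈ A i) (he₀' : e₀ ∈ centralizer (W i : Set G)) : e₀ * y = y * e₀ := by
  by_contra hmv
  have hZl : cj l (Z i) ≤ W i := by
    rintro _ ⟨z, hz, rfl⟩
    exact (h.blk i).nV l hl z ((h.blk i).ZV hz)
  have hWX : W i ≤ X := (h.WV i).trans h.VX
  set E₀ : Subgroup G := A i ⊓ centralizer (W i : Set G) with hE₀
  have hE₀Q : ∀ e ∈ E₀, e ∈ Q := fun e he =>
    h.A_Q he.1 fun v hv => (mem_centralizer_iff.1 he.2 v hv).symm
  set E : Subgroup G := E₀ ⊓ centralizer ({y} : Set G) with hE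
  have hAB := h.AB i
  -- `|E₀| ≤ q |E|`
  have c1 : Nat.card E₀ ≤ q * Nat.card E := by
    let f : E₀ →* G :=
      { toFun := fun e => (e : G) * y * (e : G)⁻¹ * y⁻¹
        map_one' := by simp
        map_mul' := by
          intro a b
          have ha := hE₀Q a a.2
          have hb := hE₀Q b b.2
          have h1 := hZl (hyQ b hb)
          have h2 : (a : G) * ((b : G) * y * (b : G)⁻¹ * y⁻¹) = ((b : G) * y * (b : G)⁻¹ * y⁻¹) * a :=
            h.cQ ha (h.WV i h1)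
          have h3 := h.Xc _ (hWX (hZl (hyQ a ha))) _ (hWX h1)
          show ((a * b : E₀) : G) * y * ((a * b : E₀) : G)⁻¹ * y⁻¹ =
            (a : G) * y * (a : G)⁻¹ * y⁻¹ * ((b : G) * y * (b : G)⁻¹ * y⁻¹)
          rw [h3, Subgroup.coe_mul]
          calc (a : G) * b * y * ((a : G) * b)⁻¹ * y⁻¹
              = (a : G) * ((b : G) * y * (b : G)⁻¹ * y⁻¹) * y * (a : G)⁻¹ * y⁻¹ := by group
            _ = ((b : G) * y * (b : G)⁻¹ * y⁻¹) * a * y * (a : G)⁻¹ * y⁻¹ := by rw [h2]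
            _ = (b : G) * y * (b : G)⁻¹ * y⁻¹ * ((a : G) * y * (a : G)⁻¹ * y⁻¹) := by group }
    have hf : ∀ e : E₀, f e = (e : G) * y * (e : G)⁻¹ * y⁻¹ := fun e => rfl
    have hker : Nat.card f.ker ≤ Nat.card E := by
      have h1 : f.ker.map E₀.subtype ≤ E := by
        rintro _ ⟨e, he, rfl⟩
        refine mem_inf.2 ⟨e.2, mem_centralizer_singleton_iff.2 ?_⟩
        have h2 : (e : G) * y * (e : G)⁻¹ * y⁻¹ = 1 := (MonoidHom.mem_ker (f := f)).1 he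
        have h3 := mul_inv_eq_one.1 h2
        exact mul_inv_eq_iff_eq_mul.1 h3
      have h2 := Subgroup.card_le_of_le h1
      rwa [Nat.card_congr (f.ker.equivMapOfInjective E₀.subtype E₀.subtype_injective).toEquiv.symm] at h2
    have hran : Nat.card f.range ≤ q := by
      have h1 : f.range ≤ cj l (Z i) := by
        rintro _ ⟨e, rfl⟩
        exact hyQ e (hE₀Q e e.2)
      have h2 := Subgroup.card_le_of_le h1
      rwa [card_cj, h.cardZ] at h2
    have hc : Nat.card E₀ = Nat.card f.range * Nat.card f.ker := by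
      rw [← Subgroup.card_mul_index f.ker, Subgroup.index_ker, mul_comm]
    rw [hc]
    exact Nat.mul_le_mul hran hker
  -- `|C_X(E)| ≥ 2 q |C_X(E₀)|`
  have hXe : ∀ u ∈ X, e₀ * u * e₀⁻¹ ∈ X := fun u hu => bX h i (hAB he₀) hu
  have c2 : 2 * q * Nat.card ↥(X ⊓ centralizer (E₀ : Set G)) ≤ Nat.card ↥(X ⊓ centralizer (E : Set G)) := by
    set Y : Subgroup G := X ⊓ centralizer (E : Set G) with hY
    let g : Y →* G :=
      { toFun := fun u => e₀ * (u : G) * e₀⁻¹ * (u : G)⁻¹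
        map_one' := by simp
        map_mul' := by
          intro a b
          have h1 : (e₀ * (b : G) * e₀⁻¹ * (b : G)⁻¹) * (a : G)⁻¹ = (a : G)⁻¹ * (e₀ * (b : G) * e₀⁻¹ * (b : G)⁻¹) :=
            h.Xc _ (mul_mem (hXe _ b.2.1) (inv_mem b.2.1)) _ (inv_mem a.2.1)
          show e₀ * ((a * b : Y) : G) * e₀⁻¹ * ((a * b : Y) : G)⁻¹ =
            e₀ * (a : G) * e₀⁻¹ * (a : G)⁻¹ * (e₀ * (b : G) * e₀⁻¹ * (b : G)⁻¹)
          rw [Subgroup.coe_mul]
          calc e₀ * ((a : G) * b) * e₀⁻¹ * ((a : G) * b)⁻¹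
              = e₀ * (a : G) * e₀⁻¹ * ((e₀ * (b : G) * e₀⁻¹ * (b : G)⁻¹) * (a : G)⁻¹) := by group
            _ = e₀ * (a : G) * e₀⁻¹ * ((a : G)⁻¹ * (e₀ * (b : G) * e₀⁻¹ * (b : G)⁻¹)) := by rw [h1]
            _ = e₀ * (a : G) * e₀⁻¹ * (a : G)⁻¹ * (e₀ * (b : G) * e₀⁻¹ * (b : G)⁻¹) := by group }
    have hg : ∀ u : Y, g u = e₀ * (u : G) * e₀⁻¹ * (u : G)⁻¹ := fun u => rfl
    have he₀E : e₀ ∈ E₀ := mem_inf.2 ⟨he₀, he₀'⟩
    have hker : Nat.card ↥(X ⊓ centralizer (E₀ : Set G)) ≤ Nat.card g.ker := by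
      have h1 : X ⊓ centralizer (E₀ : Set G) ≤ g.ker.map Y.subtype := by
        intro u hu
        have hu2 := mem_centralizer_iff.1 hu.2
        have huY : u ∈ Y := mem_inf.2 ⟨hu.1, mem_centralizer_iff.2 fun e he => hu2 e he.1⟩
        refine ⟨⟨u, huY⟩, (MonoidHom.mem_ker).2 ?_, rfl⟩
        show e₀ * u * e₀⁻¹ * u⁻¹ = 1
        rw [hu2 e₀ he₀E]; group
      have h2 := Subgroup.card_le_of_le h1
      rwa [Nat.card_congr (g.ker.equivMapOfInjective Y.subtype Y.subtype_injective).toEquiv.symm] at h2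
    -- the range
    set v : G := e₀ * y * e₀⁻¹ * y⁻¹ with hv
    have hv1 : v ≠ 1 := fun e => hmv (mul_inv_eq_iff_eq_mul.1 (mul_inv_eq_one.1 e))
    have hvl : v ∈ cj l (Z i) := hyQ e₀ (hE₀Q e₀ he₀E)
    have hvW : v ∈ W i := hZl hvl
    have hvZ : v ∉ Z i := by
      intro hz
      have h1 : v ∈ cj l (Z i) ⊓ Z i := mem_inf.2 ⟨hvl, hz⟩
      rw [h.tri' hl hne, mem_bot] at h1
      exact hv1 h1
    have hroot : ∀ z ∈ Z i, ∃ a ∈ A i, a * v * a⁻¹ * v⁻¹ = z := by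
      intro z hz
      obtain ⟨R, h1, h2, -, h4⟩ := (h.blk i).toMd.relIndex_comm hAB hvW hvZ
      have h5 := (h.A_full i).2.2
      rw [← h5] at h4
      have h6 : Nat.card R = q := Nat.eq_of_mul_eq_mul_right Nat.card_pos h4
      have h7 : R = Z i := Subgroup.eq_of_le_of_card_ge h1 (by rw [h6, h.cardZ])
      rw [← h7] at hz
      obtain ⟨x, hx, e⟩ := h2 z hz
      exact ⟨x, hx, e.symm⟩
    have hran0 : ∀ z ∈ Z i, z * v ∈ g.range := by
      intro z hz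
      obtain ⟨a, ha, e⟩ := hroot z hz
      have haX : a * y * a⁻¹ ∈ X := bX h i (hAB ha) hy
      have haY : a * y * a⁻¹ ∈ Y := by
        refine mem_inf.2 ⟨haX, mem_centralizer_iff.2 fun t ht => ?_⟩
        have h1 := act_conj (h.AX i) ha ht.1.1 hy
        have h2 : t * y = y * t := mem_centralizer_singleton_iff.1 ht.2
        have h3 : t * y * t⁻¹ = y := mul_inv_eq_iff_eq_mul.2 h2
        rw [h3] at h1
        calc t * (a * y * a⁻¹) = a * (a⁻¹ * t * a * y * (a⁻¹ * t * a)⁻¹) * a⁻¹ * t := by group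
          _ = a * y * a⁻¹ * t := by rw [h1]
      refine ⟨⟨_, haY⟩, ?_⟩
      show e₀ * (a * y * a⁻¹) * e₀⁻¹ * (a * y * a⁻¹)⁻¹ = z * v
      have h1 := act_conj (h.AX i) ha he₀ hy
      calc e₀ * (a * y * a⁻¹) * e₀⁻¹ * (a * y * a⁻¹)⁻¹
          = a * (a⁻¹ * e₀ * a * y * (a⁻¹ * e₀ * a)⁻¹) * y⁻¹ * a⁻¹ := by group
        _ = a * (e₀ * y * e₀⁻¹) * y⁻¹ * a⁻¹ := by rw [h1]
        _ = a * v * a⁻¹ := by rw [hv]; group
        _ = (a * v * a⁻¹ * v⁻¹) * v := by group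
        _ = z * v := by rw [e]
    have hvR : v ∈ g.range := by
      have := hran0 1 (one_mem _)
      rwa [one_mul] at this
    have hZR : Z i ≤ g.range := by
      intro z hz
      have h1 := mul_mem (hran0 z hz) (inv_mem hvR)
      rwa [mul_inv_cancel_right] at h1
    have hran : 2 * q ≤ Nat.card g.range := by
      have h1 : Z i < g.range := lt_of_le_of_ne hZR fun e => hvZ (by rw [e]; exact hvR)
      have h2 : Nat.card (Z i) * (Z i).relIndex g.range = Nat.card g.range := by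
        rw [← Nat.card_congr (Subgroup.subgroupOfEquivOfLe hZR).toEquiv, relIndex, Subgroup.card_mul_index]
      have h3 : (Z i).relIndex g.range ≠ 1 := fun e => h1.not_ge (Subgroup.relIndex_eq_one.1 e)
      have h4 : (Z i).relIndex g.range ≠ 0 := by
        intro e
        rw [e, mul_zero] at h2
        have : 0 < Nat.card g.range := Nat.card_pos
        omega
      rw [h.cardZ] at h2
      rw [← h2, mul_comm]
      exact Nat.mul_le_mul_left q (by omega)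
    have hc : Nat.card Y = Nat.card g.range * Nat.card g.ker := by
      rw [← Subgroup.card_mul_index g.ker, Subgroup.index_ker, mul_comm]
    rw [hc]
    exact Nat.mul_le_mul hran hker
  -- `f(E₀) = f(A)`
  rcases fullX (h.blk i).toMd h.Xc hWX hAB (h.best i) with h1 | ⟨-, h2, h3, h4⟩
  · exact h.Ane i h1
  have hD := card_sup_comm (A := W i) (B := X ⊓ centralizer (A i : Set G)) fun a ha b hb => h.Xc a (hWX ha) b hb.1
  have h5 : W i ⊓ (X ⊓ centralizer (A i : Set G)) = Z i := by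
    rw [← inf_assoc, inf_eq_left.2 hWX, h2]
  rw [h5, (h.blk i).card] at hD
  have hp : 0 < Nat.card (Z i) := Nat.card_pos
  have h6 : Nat.card ↥(W i ⊔ (X ⊓ centralizer (A i : Set G))) = q * Nat.card ↥(X ⊓ centralizer (A i : Set G)) := by
    refine Nat.eq_of_mul_eq_mul_right hp ?_
    rw [hD]; ring
  rw [h4, h6] at c2
  have hEle : A i ⊓ centralizer (X : Set G) ≤ E := by
    intro a ha
    have ha2 := mem_centralizer_iff.1 ha.2
    exact mem_inf.2 ⟨mem_inf.2 ⟨ha.1, mem_centralizer_iff.2 fun w hw => ha2 w (hWX hw)⟩,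
      mem_centralizer_singleton_iff.2 (ha2 y hy).symm⟩
  have h7 := h.best i E hEle (inf_le_left.trans inf_le_left)
  have hq := (h.blk i).one
  have hD0 : 0 < Nat.card ↥(X ⊓ centralizer (A i : Set G)) := Nat.card_pos
  have hA0 : 0 < Nat.card (A i) := Nat.card_pos
  have h8 : 2 * (Nat.card (A i) * Nat.card ↥(X ⊓ centralizer (A i : Set G))) ≤
      Nat.card (A i) * Nat.card ↥(X ⊓ centralizer (A i : Set G)) := by
    calc 2 * (Nat.card (A i) * Nat.card ↥(X ⊓ centralizer (A i : Set G)))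
        = 2 * (q * Nat.card E₀) * Nat.card ↥(X ⊓ centralizer (A i : Set G)) := by rw [← h3]; ring
      _ ≤ 2 * (q * (q * Nat.card E)) * Nat.card ↥(X ⊓ centralizer (A i : Set G)) :=
          Nat.mul_le_mul_right _ (Nat.mul_le_mul_left _ (Nat.mul_le_mul_left _ c1))
      _ = Nat.card E * (2 * q * (q * Nat.card ↥(X ⊓ centralizer (A i : Set G)))) := by ring
      _ ≤ Nat.card E * Nat.card ↥(X ⊓ centralizer (E : Set G)) := Nat.mul_le_mul_left _ c2
      _ ≤ _ := h7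
  have h9 : 0 < Nat.card (A i) * Nat.card ↥(X ⊓ centralizer (A i : Set G)) := Nat.mul_pos hA0 hD0
  omega

/-- **FIX-X.** -/
theorem fixX [Finite G] (h : FrL B Q V X ZJ L W Z C A q) (hXB : X ≤ B) (i : ι) {n : G} (hn : n ∈ X)
    (hnQ : ∀ o ∈ Q, o * n * o⁻¹ * n⁻¹ ∈ Z i) : n ∈ V := by
  obtain ⟨l, hl, hne⟩ := h.exists_mv i
  have hXQ : X ≤ Q := fun x hx => (h.mem_Q x (hXB hx)).2 fun v hv => h.Xc x hx v (h.VX hv)
  have hWX : W i ≤ X := (h.WV i).trans h.VX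
  have hAB := h.AB i
  have hZl : cj l (Z i) ≤ W i := by
    rintro _ ⟨z, hz, rfl⟩
    exact (h.blk i).nV l hl z ((h.blk i).ZV hz)
  set y : G := l * n * l⁻¹ with hyd
  have hy : y ∈ X := h.LX i l hl n hn
  have hyQ : ∀ o ∈ Q, o * y * o⁻¹ * y⁻¹ ∈ cj l (Z i) := by
    intro o ho
    have h1 : l⁻¹ * o * l ∈ Q := by
      have := h.LQ i l⁻¹ (inv_mem hl) o ho
      rwa [inv_inv] at this
    rw [mem_cj]
    have h2 := hnQ _ h1
    have e : l⁻¹ * (o * y * o⁻¹ * y⁻¹) * l = l⁻¹ * o * l * n * (l⁻¹ * o * l)⁻¹ * n⁻¹ := by rw [hyd]; group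
    rwa [e]
  suffices hyV : y ∈ V by
    have h1 := h.LV i l⁻¹ (inv_mem hl) y hyV
    have e : l⁻¹ * y * l⁻¹⁻¹ = n := by rw [hyd]; group
    rwa [e] at h1
  -- `y ∈ W i C_X(A i)`
  rcases fullX (h.blk i).toMd h.Xc hWX hAB (h.best i) with h1 | ⟨-, -, -, h4⟩
  · exact absurd h1 (h.Ane i)
  have h5 : y ∈ X ⊓ centralizer ((A i ⊓ centralizer (W i : Set G) : Subgroup G) : Set G) :=
    mem_inf.2 ⟨hy, mem_centralizer_iff.2 fun e he => caseNe h i hl hne hy hyQ he.1 he.2⟩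
  rw [h4] at h5
  obtain ⟨w, hw, c, hc, hwc⟩ := mem_sup_comm (A := W i) (B := X ⊓ centralizer (A i : Set G))
    (fun a ha b hb => h.Xc a (hWX ha) b hb.1) h5
  have hA := h.Ane i
  push Not at hA
  obtain ⟨a, ha, v, hv, hav⟩ := hA
  set z : G := a * w * a⁻¹ * w⁻¹ with hzd
  have hz : z ∈ Z i := (h.blk i).com a (hAB ha) w hw
  have hac : a * c = c * a := mem_centralizer_iff.1 hc.2 a ha
  have hay : a * y * a⁻¹ = z * y := by
    rw [hwc, hzd]
    calc a * (w * c) * a⁻¹ = a * w * (c * a⁻¹) := by group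
      _ = a * w * (a⁻¹ * c) := by
        have : c * a⁻¹ = a⁻¹ * c := by
          calc c * a⁻¹ = a⁻¹ * (a * c) * a⁻¹ := by group
            _ = a⁻¹ * c := by rw [hac]; group
        rw [this]
      _ = a * w * a⁻¹ * w⁻¹ * (w * c) := by group
  refine h.zcQ y (hXQ hy) (elem_sq h.elX y hy) fun o ho => ?_
  -- `r = [o, y] = [o', y]^a`
  set r : G := o * y * o⁻¹ * y⁻¹ with hrd
  have hr : r ∈ cj l (Z i) := hyQ o ho
  have ho' : a⁻¹ * o * a ∈ Q := by
    have := h.LQ i a⁻¹ (inv_mem ((h.blk i).BL (hAB ha))) o ho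
    rwa [inv_inv] at this
  set r' : G := a⁻¹ * o * a * y * (a⁻¹ * o * a)⁻¹ * y⁻¹ with hr'd
  have hr' : r' ∈ cj l (Z i) := hyQ _ ho'
  have hoz : o * z = z * o := h.cQ ho (h.ZV i hz)
  have hrr : a * r' * a⁻¹ = r := by
    have h6 : z * r = r * z := h.Xc z (h.VX (h.ZV i hz)) r (hWX (hZl hr))
    calc a * r' * a⁻¹ = o * (a * y * a⁻¹) * o⁻¹ * (a * y * a⁻¹)⁻¹ := by rw [hr'd]; group
      _ = (o * z) * y * o⁻¹ * (z * y)⁻¹ := by rw [hay]; group
      _ = (z * o) * y * o⁻¹ * (z * y)⁻¹ := by rw [hoz]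
      _ = z * r * z⁻¹ := by rw [hrd]; group
      _ = r := by rw [h6]; group
  have h7 : r * r'⁻¹ ∈ cj l (Z i) ⊓ Z i := by
    refine mem_inf.2 ⟨mul_mem hr (inv_mem hr'), ?_⟩
    rw [← hrr]
    exact (h.blk i).com a (hAB ha) r' (hZl hr')
  rw [h.tri' hl hne, mem_bot, mul_inv_eq_one] at h7
  have h8 : a * r = r * a := by
    rw [← h7] at hrr
    exact mul_inv_eq_iff_eq_mul.1 hrr
  have h9 : r ∈ Z i := (h.blk i).mem_Z (hAB ha) (fun hcon => hav (hcon v hv)) (hZl hr) h8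
  have h10 : r ∈ cj l (Z i) ⊓ Z i := mem_inf.2 ⟨hr, h9⟩
  rw [h.tri' hl hne, mem_bot] at h10
  have h11 : o * y = y * o := by
    have := mul_inv_eq_one.1 h10
    exact mul_inv_eq_iff_eq_mul.1 this
  exact h11.symm

end Cfsg.Agent.Omega.OM.FixXQ
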