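import Cfsg.Agent.Omega.OM.Lev.HU
import Cfsg.Agent.Omega.TC.OfMul

/-!
# hU (bb OMEGA #22723 (A), #22160) over `Mul`: every `q`, every `k ≥ 2`, every stage

`Mul S P K B ZJ L W Z C q`, `T ≥ B` a Sylow 2-subgroup of the minimal parabolic `R`, `R` centralises the `Z l`, `l ≠ j`,
and does not normalise `Z j`.

* `fixS` : **FIX / FIX-X**: stage `-1`: `n ∈ O₂(P)` an involution, stage `n`: `n ∈ Ω₁(Z(lev n))`; `[n, O₂(P)] ≤ Z i` ⟹ `n ∈ V`;
* `exists_blk` : `R = ⟨L', T⟩` with an FF-block `L'` over `B` with module `W j`;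
* `norm_W`, `norm_T0` : `R` normalises `W j` and `T ∩ C(W j)`;
* `hU` : `R` normalises `V` and all `W i` and centralises `W i / Z i` for `i ≠ j` (at stage `-1` with `k = 2` if `(W i)^R` and
  `W i` commute); `main` : the same from UNI+ and block generation.
-/

set_option autoImplicit false
set_option linter.unusedSectionVars false

namespace Cfsg.Agent.Omega.OM.HUMul

open Subgroup Cfsg Cfsg.Agent.ZN.ChoiceBase
open Cfsg.Agent.ZN (jj zj bau zc zl o2)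
open Cfsg.Agent.ZN.ChoiceSit (Syl exists_syl syl_conj syl_not_dvd isPGroup_o2 le_o2 le_normalizer_o2 o2_le_syl o2_le)
open Cfsg.Agent.MinSimple.MinParabolic (IsMinPar)
open Cfsg.Agent.Omega.SQ1.Bau (mem_sup_comm elem_sq)
open Cfsg.Agent.Omega.OM Cfsg.Agent.Omega.OM.Uni
open Cfsg.Agent.Omega.NO3S (HypJ HypN Hyp HypL)
open Cfsg.Agent.Omega.NO3S.Level (lev lev_isLev lev_mono lev_wc)
open Cfsg.Agent.Omega.NO3S.EThree.Frame
open Cfsg.Agent.Omega.Node.MultiOf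
open Cfsg.Agent.Omega.TC.OfMul (BlkS)
open Cfsg.Agent.Omega.OM.Lev.Uni (FrL)
open scoped commutatorElement

universe u

variable {G : Type u} [Group G] [Finite G] {S : Sylow 2 G} {P K B ZJ : Subgroup G} {k : ℕ}
  {L W Z C : Fin k → Subgroup G} {q : ℕ}

/-- `[W i, B] = Z i` -/
theorem comm_W {ι : Type} {L W Z C : ι → Subgroup G} (h : Bg S P B ZJ L W Z C q) (i : ι) : ⁅W i, B⁆ = Z i := by
  apply le_antisymm
  · exact (h.fr.blk i).comm_le le_rfl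
  · intro z hz
    obtain ⟨w, hw, hwZ⟩ := HU.exists_W h i
    obtain ⟨b, hb, -, e⟩ := h.root i w hw hwZ z hz
    have h1 := inv_mem (commutator_mem_commutator (H₁ := W i) (H₂ := B) hw hb)
    rw [← e]
    have e2 : (⁅w, b⁆)⁻¹ = b * w * b⁻¹ * w⁻¹ := by rw [commutatorElement_def]; group
    rwa [e2] at h1

/-- **FIX-X at stage `n`.** -/
theorem fix_lev (h : Mul S P K B ZJ L W Z C q) (hk : 2 ≤ k) {n : ℕ} (hn : lev (S : Subgroup G) n ≤ o2 P)
    (hn1 : ¬ lev (S : Subgroup G) (n + 1) ≤ o2 P)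
    (eqB : B = (S : Subgroup G) ⊓ centralizer (zc (lev (S : Subgroup G) (n + 1)) : Set G)) (i : Fin k) {x : G}
    (hx : x ∈ zc (lev (S : Subgroup G) n)) (hxQ : ∀ o ∈ o2 P, o * x * o⁻¹ * x⁻¹ ∈ Z i) :
    x ∈ zl (S : Subgroup G) P := by
  obtain ⟨F, _, _, _, rfl, ⟨N⟩⟩ := h.nat
  obtain ⟨M, L', Z', A, -, hF, -⟩ := Lev.Main.bg_lev h.hyp.toHypN hn hn1 hk N eqB
  have hWX : W i ≤ zc (lev (S : Subgroup G) n) := (h.bg.fr.WV i).trans hF.VX
  obtain ⟨-, i', hi', -⟩ := hF.uni (h.bg.fr.blk i).toMd hWX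
  rw [comm_W h.bg i] at hi'
  refine FixXQ.fixX hF ?_ i' hx fun o ho => ?_
  · rw [eqB]
    exact ((MinSimple.VModule.zc_le _).trans (lev_mono _ (Nat.le_succ n))).trans (Lev.Wc.lev_le_B S)
  · rw [← hi']
    exact hxQ o ho

/-- **LEMMA FIX at stage `-1`.** -/
theorem fix_neg (h : Mul S P K B ZJ L W Z C q) (hk : 2 ≤ k) (hj : ¬ jj (S : Subgroup G) ≤ o2 P)
    (eqB : B = bau (S : Subgroup G)) (i : Fin k) {x : G}
    (hx : x ∈ o2 P) (hx2 : x ^ 2 = 1) (hxQ : ∀ o ∈ o2 P, o * x * o⁻¹ * x⁻¹ ∈ Z i) :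
    x ∈ zl (S : Subgroup G) P := by
  subst eqB
  obtain ⟨F, _, _, _, rfl, ⟨N⟩⟩ := h.nat
  obtain ⟨L', W', Z', C', A, -, -, -, -, hL⟩ := OM.Line.exists_nat ⟨h.hyp.toHypN, hj⟩ hk N.toNatK
  obtain ⟨-, i', hi', -⟩ := hL.fr.uni (h.bg.fr.blk i).toMd fun _ hw _ hv => h.bg.fr.Vc (h.bg.fr.WV i hw) hv
  rw [comm_W h.bg i] at hi'
  refine FixLem.fix_Z hL.fr (i := i') hx hx2 fun o ho => ?_
  rw [← hi']
  have h1 := inv_mem (hxQ o ho)
  have e : (o * x * o⁻¹ * x⁻¹)⁻¹ = x * o * x⁻¹ * o⁻¹ := by group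
  rwa [e] at h1

/-- **FIX at every stage.** `x ∈ O₂(P)` an involution, at stage `n` also `x ∈ Ω₁(Z(lev n))`. -/
theorem fixS (h : Mul S P K B ZJ L W Z C q) (hk : 2 ≤ k) (i : Fin k) {x : G} (hx : x ∈ o2 P) (hx2 : x ^ 2 = 1)
    (hxX : ∀ n, lev (S : Subgroup G) n ≤ o2 P → K = lev (S : Subgroup G) (n + 1) → x ∈ zc (lev (S : Subgroup G) n))
    (hxQ : ∀ o ∈ o2 P, o * x * o⁻¹ * x⁻¹ ∈ Z i) : x ∈ zl (S : Subgroup G) P := by
  cases h.stg with
  | neg hj => exact fix_neg h hk hj rfl i hx hx2 hxQ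
  | lev n hall hn hn1 => exact fix_lev h hk hn hn1 rfl i (hxX n hn rfl) hxQ

/-- `Q ≤ T ∩ C(W j)` -/
theorem Q_le (h : Mul S P K B ZJ L W Z C q) {T : Subgroup G} (hBT : B ≤ T) (j : Fin k) :
    o2 P ≤ T ⊓ centralizer (W j : Set G) :=
  le_inf (h.bg.fr.QB.trans hBT) fun _ ho => mem_centralizer_iff.2 fun w hw => (h.bg.fr.cQ ho (h.bg.fr.WV j hw)).symm

/-- an element of `N_G(Z_J)` which centralises the `Z l`, `l ≠ j`, normalises `Z j` -/
theorem norm_Zj (h : Mul S P K B ZJ L W Z C q) {j : Fin k} {g : G} (hg : g ∈ normalizer (ZJ : Set G))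
    (hc : ∀ l, l ≠ j → g ∈ centralizer (Z l : Set G)) : g ∈ normalizer (Z j : Set G) := by
  obtain ⟨d, hd, n, hn, rfl⟩ := h.lb.exists_frattini hg
  have hdZ : ∀ l, d ∈ centralizer (Z l : Set G) := fun l => centralizer_le (by exact_mod_cast h.bg.fr.Z_le l) hd
  have hnZ : ∀ l, l ≠ j → cj n (Z l) = Z l := fun l hl => by
    have h1 : n ∈ centralizer (Z l : Set G) := by
      have := mul_mem (inv_mem (hdZ l)) (hc l hl)
      rwa [inv_mul_cancel_left] at this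
    exact mem_normalizer_iff_cj.1 (centralizer_le_normalizer _ h1)
  refine mul_mem (centralizer_le_normalizer _ (hdZ j)) (mem_normalizer_iff_cj.2 ?_)
  obtain ⟨m, hm, -⟩ := (h.bg.norm hn).2 j
  by_cases hmj : m = j
  · rwa [hmj] at hm
  · exfalso
    have h3 := hnZ m hmj
    rw [← hm] at h3
    have h4 := congrArg (cj n⁻¹) h3
    rw [cj_inv_cj, cj_inv_cj] at h4
    exact hmj (h.bg.Z_inj (hm.symm.trans h4))

/-- `V ≤ Ω₁(Z(lev n))` -/
theorem V_le_X (h : Mul S P K B ZJ L W Z C q) {n : ℕ} (hn : lev (S : Subgroup G) n ≤ o2 P) :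
    zl (S : Subgroup G) P ≤ zc (lev (S : Subgroup G) n) :=
  (h.bg.hyp.star.isLoc.zl_le S h.bg.hyp.ctx.char2).trans
    ((lev_isLev (S : Subgroup G) n).zc_o2_le hn (h.bg.hyp.star.isLoc.o2_le S))

/-- The situation: `R` is a minimal parabolic over `T ≥ B`, centralises the `Z l`, `l ≠ j`, does not normalise `Z j`. -/
structure Si (B : Subgroup G) (Z : Fin k → Subgroup G) (j : Fin k) (T R : Subgroup G) : Prop where
  par : IsMinPar T R
  syl : Syl T R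
  BT : B ≤ T
  cZ : ∀ l, l ≠ j → R ≤ centralizer (Z l : Set G)
  nZ : ¬ R ≤ normalizer (Z j : Set G)

section si

variable {j : Fin k} {T R : Subgroup G}

theorem T_norm (h : Mul S P K B ZJ L W Z C q) (s : Si B Z j T R) {t : G} (ht : t ∈ T) (l : Fin k) :
    cj t (Z l) = Z l ∧ cj t (W l) = W l :=
  HU.T_norm h.bg s.syl.2.1 s.BT (fun l hl => s.syl.1.trans (s.cZ l hl)) ht l

theorem K_not (h : Mul S P K B ZJ L W Z C q) (s : Si B Z j T R) : ¬ K ≤ o2 R := by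
  intro hK
  apply s.nZ
  intro r hr
  exact norm_Zj h (h.lb.nrm _ (isPGroup_o2 R) hK (le_normalizer_o2 R hr)) fun l hl => s.cZ l hl hr

theorem char2 (h : Mul S P K B ZJ L W Z C q) (s : Si B Z j T R) : R ⊓ centralizer (o2 R : Set G) ≤ o2 R := by
  obtain ⟨l, hl⟩ := h.bg.two j
  have hRn : R ≤ normalizer (Z l : Set G) := (s.cZ l hl).trans (centralizer_le_normalizer _)
  have h1 : o2 (normalizer (Z l : Set G)) ≤ o2 R :=
    le_o2 (isPGroup_o2 _) (((h.bg.o2_le l).trans s.BT).trans s.syl.1) (hRn.trans (le_normalizer_o2 _))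
  rintro x ⟨hx, hxc⟩
  exact h1 (h.bg.char_Z l ⟨hRn hx, centralizer_le (by exact_mod_cast h1) hxc⟩)

/-- `R = ⟨L', T⟩`, `L'` an FF-block over `B` with module `W j` -/
theorem exists_blk (h : Mul S P K B ZJ L W Z C q) (uni : ∀ L' V' : Subgroup G, FBl B L' V' → ∃ i, V' = W i)
    (hb : BlkS K B T) (s : Si B Z j T R) (hz : ¬ R ≤ centralizer (zc T : Set G)) :
    ∃ L' : Subgroup G, FBl B L' (W j) ∧ L' ≤ R ∧ R ≤ L' ⊔ T := by
  obtain ⟨L', V', h1, h2, h3⟩ := hb R s.par s.syl (char2 h s) (K_not h s) hz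
  obtain ⟨m, rfl⟩ := uni L' V' h1
  have hmj : m = j := by
    by_contra hmj
    obtain ⟨⟨Z', q', hF⟩, -⟩ := h1
    have hZ' : Z' = Z m := by
      ext x
      rw [hF.toMd.mem_Z_iff, (h.bg.fr.blk m).toMd.mem_Z_iff]
    subst hZ'
    obtain ⟨l, hl, h4⟩ := hF.sup
    have h5 : ⁅W m, B⁆ ≤ Z m := hF.comm_le le_rfl
    have h6 : cj l (Z m) = Z m :=
      mem_normalizer_iff_cj.1 (centralizer_le_normalizer _ (s.cZ m hmj (h2 hl)))
    have h7 : W m ≤ Z m := h4.trans (sup_le h5 ((cj_mono l h5).trans h6.le))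
    obtain ⟨w, hw, hwZ⟩ := HU.exists_W h.bg m
    exact hwZ (h7 hw)
  subst hmj
  exact ⟨L', h1, h2, h3⟩

theorem norm_W (h : Mul S P K B ZJ L W Z C q) (s : Si B Z j T R)
    (hb : ∃ L' : Subgroup G, FBl B L' (W j) ∧ L' ≤ R ∧ R ≤ L' ⊔ T) : R ≤ normalizer (W j : Set G) := by
  obtain ⟨L', ⟨⟨Z', q', hF⟩, -⟩, -, h2⟩ := hb
  refine h2.trans (sup_le (fun l hl => ?_) fun t ht => ?_)
  · refine mem_normalizer_of_cj_le ?_
    rintro _ ⟨w, hw, rfl⟩
    exact hF.nV l hl w hw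
  · exact mem_normalizer_iff_cj.2 (T_norm h s ht j).2

/-- `R` normalises `T ∩ C(W j)` -/
theorem norm_T0 (h : Mul S P K B ZJ L W Z C q) (s : Si B Z j T R) (hW : R ≤ normalizer (W j : Set G)) :
    R ≤ normalizer ((T ⊓ centralizer (W j : Set G) : Subgroup G) : Set G) := by
  refine HU.norm_inf s.par s.syl (fun r hr => ?_) fun hle => s.nZ (hle.trans (sup_le ?_ fun t ht => ?_))
  · rw [mem_normalizer_iff_cj, cj_centralizer, cj_eq_of_mem_normalizer (hW hr)]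
  · exact inf_le_right.trans
      ((centralizer_le (by exact_mod_cast (h.bg.fr.blk j).ZV)).trans (centralizer_le_normalizer _))
  · exact mem_normalizer_iff_cj.2 (T_norm h s ht j).1

/-- **hU**, given that `(W i)^R` and `W i` commute. -/
theorem hU_of (h : Mul S P K B ZJ L W Z C q) (hk : 2 ≤ k) (s : Si B Z j T R) (hW : R ≤ normalizer (W j : Set G))
    {i : Fin k} (hij : i ≠ j)
    (hV : ∀ r ∈ R, ∀ w ∈ W i, ∀ v ∈ zl (S : Subgroup G) P, r * w * r⁻¹ * v = v * (r * w * r⁻¹)) :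
    ∀ r ∈ R, ∀ w ∈ W i, r * w * r⁻¹ * w⁻¹ ∈ Z i := by
  have hT0 := norm_T0 h s hW
  refine HU.core h.bg s.syl.2.1 s.BT s.syl.1 (HU.gen_cj s.par s.syl) s.cZ hT0 hij fun r hr w hw => ?_
  have hQ0 := Q_le h s.BT j
  have hwQ : w ∈ o2 P := h.bg.fr.VQ (h.bg.fr.WV i hw)
  have hx0 : r * w * r⁻¹ ∈ T ⊓ centralizer (W j : Set G) := (mem_normalizer_iff.1 (hT0 hr) w).1 (hQ0 hwQ)
  have hxB : r * w * r⁻¹ ∈ B := by
    rw [← h.lb.inf_eq s.syl.2.1 s.BT]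
    exact ⟨hx0.1, mem_centralizer_iff.2 fun z hz => (hV r hr w hw z (h.bg.fr.ZJV hz)).symm⟩
  have hxQ : r * w * r⁻¹ ∈ o2 P := (h.bg.fr.mem_Q _ hxB).2 (hV r hr w hw)
  refine fixS h hk i hxQ ?_ (fun n hn hKn => ?_) fun o ho => ?_
  · have h1 := elem_sq h.bg.fr.el w (h.bg.fr.WV i hw)
    have e : (r * w * r⁻¹) ^ 2 = r * w ^ 2 * r⁻¹ := by rw [pow_two, pow_two]; group
    rw [e, h1]; group
  · -- `R` normalises `lev n`
    have hr' : r ∈ normalizer (lev (S : Subgroup G) n : Set G) :=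
      mem_normalizer_iff_cj.2 (LevD.norm_of_wc (lev_wc n) (s.syl.2.1.to_le inf_le_left) (hn.trans hQ0) (hT0 hr))
    have hVX := V_le_X h hn
    exact (mem_normalizer_iff.1 (NO3S.Level.normalizer_le_zc _ hr') w).1 (hVX (h.bg.fr.WV i hw))
  · have ho' : r⁻¹ * o * r ∈ T ⊓ centralizer (W j : Set G) := (mem_normalizer_iff''.1 (hT0 hr) o).1 (hQ0 ho)
    have h1 := HU.cent_y h.bg s.syl.2.1 s.BT (s.syl.1.trans (s.cZ i hij)) ho'.1 hw
    have h2 := mem_centralizer_iff.1 (s.cZ i hij hr) _ h1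
    have e : o * (r * w * r⁻¹) * o⁻¹ * (r * w * r⁻¹)⁻¹ =
        r * (r⁻¹ * o * r * w * (r⁻¹ * o * r)⁻¹ * w⁻¹) * r⁻¹ := by group
    rw [e, ← h2, mul_inv_cancel_right]
    exact h1

/-- `(W i)^R` commutes with `V` if it commutes with `W i` -/
theorem comm_V (h : Mul S P K B ZJ L W Z C q) (s : Si B Z j T R) (hW : R ≤ normalizer (W j : Set G))
    {i : Fin k} (hij : i ≠ j) (hc : ∀ r ∈ R, ∀ w ∈ W i, ∀ v ∈ W i, r * w * r⁻¹ * v = v * (r * w * r⁻¹)) :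
    ∀ r ∈ R, ∀ w ∈ W i, ∀ v ∈ zl (S : Subgroup G) P, r * w * r⁻¹ * v = v * (r * w * r⁻¹) := by
  intro r hr w hw
  have hT0 := norm_T0 h s hW
  have hQ0 := Q_le h s.BT j
  have hWQ : ∀ l, ∀ u ∈ W l, u ∈ T ⊓ centralizer (W j : Set G) := fun l u hu =>
    hQ0 (h.bg.fr.VQ (h.bg.fr.WV l hu))
  set x : G := r * w * r⁻¹ with hx
  have hx0 : x ∈ T ⊓ centralizer (W j : Set G) := (mem_normalizer_iff.1 (hT0 hr) w).1 (hWQ i w hw)
  suffices hle : zl (S : Subgroup G) P ≤ centralizer ({x} : Set G) by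
    intro v hv
    exact (mem_centralizer_singleton_iff.1 (hle hv)).symm
  refine (Fg_V_le h.bg.fr).trans (iSup_le fun l u hu => mem_centralizer_singleton_iff.2 ?_)
  by_cases hlj : l = j
  · subst hlj
    exact mem_centralizer_iff.1 hx0.2 u hu
  by_cases hli : l = i
  · subst hli
    exact (hc r hr w hw u hu).symm
  have h1 : x * u * x⁻¹ * u⁻¹ ∈ Z l :=
    HU.cent_y h.bg s.syl.2.1 s.BT (s.syl.1.trans (s.cZ l hlj)) hx0.1 hu
  have h2 : u * x * u⁻¹ * x⁻¹ ∈ Z i := by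
    have hu' : r⁻¹ * u * r ∈ T ⊓ centralizer (W j : Set G) := (mem_normalizer_iff''.1 (hT0 hr) u).1 (hWQ l u hu)
    have h1 := HU.cent_y h.bg s.syl.2.1 s.BT (s.syl.1.trans (s.cZ i hij)) hu'.1 hw
    have h2 := mem_centralizer_iff.1 (s.cZ i hij hr) _ h1
    have e : u * x * u⁻¹ * x⁻¹ = r * (r⁻¹ * u * r * w * (r⁻¹ * u * r)⁻¹ * w⁻¹) * r⁻¹ := by rw [hx]; group
    rw [e, ← h2, mul_inv_cancel_right]
    exact h1
  have h3 : u * x * u⁻¹ * x⁻¹ ∈ Z i ⊓ Z l := by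
    refine ⟨h2, ?_⟩
    have := inv_mem h1
    have e : (x * u * x⁻¹ * u⁻¹)⁻¹ = u * x * u⁻¹ * x⁻¹ := by group
    rwa [e] at this
  rw [h.bg.Z_disj (Ne.symm hli), mem_bot] at h3
  exact mul_inv_eq_iff_eq_mul.1 (mul_inv_eq_one.1 h3)

/-- `k ≥ 3`: `(W i)^R` commutes with `V` -/
theorem comm_three (h : Mul S P K B ZJ L W Z C q) (hk : 3 ≤ k) (s : Si B Z j T R) {i : Fin k} :
    ∀ r ∈ R, ∀ w ∈ W i, ∀ v ∈ zl (S : Subgroup G) P, r * w * r⁻¹ * v = v * (r * w * r⁻¹) := by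
  obtain ⟨l, hli, hlj⟩ : ∃ l : Fin k, l ≠ i ∧ l ≠ j := by
    by_contra hcon
    push Not at hcon
    have h1 : (Finset.univ : Finset (Fin k)) ⊆ {i, j} := fun l _ => by
      rw [Finset.mem_insert, Finset.mem_singleton]
      by_cases hl : l = i
      · exact Or.inl hl
      · exact Or.inr (hcon l hl)
    have h2 := (Finset.card_le_card h1).trans (Finset.card_le_two)
    rw [Finset.card_univ, Fintype.card_fin] at h2
    omega
  intro r hr w hw v hv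
  have h1 := h.bg.adj_le (i := l) (j := i) (Ne.symm hli) (k := r)
    (centralizer_le_normalizer _ (s.cZ l hlj hr)) ⟨w, hw, rfl⟩
  exact (mem_centralizer_iff.1 h1.2 v (h.bg.V_le l hv)).symm

/-- stage `n`: `(W i)^R` commutes with `V` -/
theorem comm_lev (h : Mul S P K B ZJ L W Z C q) (s : Si B Z j T R) (hW : R ≤ normalizer (W j : Set G)) {n : ℕ}
    (hn : lev (S : Subgroup G) n ≤ o2 P) {i : Fin k} :
    ∀ r ∈ R, ∀ w ∈ W i, ∀ v ∈ zl (S : Subgroup G) P, r * w * r⁻¹ * v = v * (r * w * r⁻¹) := by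
  intro r hr w hw v hv
  have hT0 := norm_T0 h s hW
  have hr' : r ∈ normalizer (lev (S : Subgroup G) n : Set G) :=
    mem_normalizer_iff_cj.2 (LevD.norm_of_wc (lev_wc n) (s.syl.2.1.to_le inf_le_left)
      (hn.trans (Q_le h s.BT j)) (hT0 hr))
  have hVX := V_le_X h hn
  have h1 := (mem_normalizer_iff.1 (NO3S.Level.normalizer_le_zc _ hr') w).1 (hVX (h.bg.fr.WV i hw))
  exact NO3S.Level.Lev.zc_comm h1 (hVX hv)

/-- **hU.** `R` centralises `W i / Z i` for `i ≠ j` and normalises `V`. At stage `-1` with `k = 2` one needs that `(W i)^R`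
and `W i` commute. -/
theorem hU (h : Mul S P K B ZJ L W Z C q) (hk : 2 ≤ k) (s : Si B Z j T R) (hW : R ≤ normalizer (W j : Set G))
    (hc : 3 ≤ k ∨ jj (S : Subgroup G) ≤ o2 P ∨ ∀ i, i ≠ j → ∀ r ∈ R, ∀ w ∈ W i, ∀ v ∈ W i,
      r * w * r⁻¹ * v = v * (r * w * r⁻¹)) :
    (∀ i, i ≠ j → ∀ r ∈ R, ∀ w ∈ W i, r * w * r⁻¹ * w⁻¹ ∈ Z i) ∧ (∀ i, R ≤ normalizer (W i : Set G)) ∧
      R ≤ normalizer (zl (S : Subgroup G) P : Set G) := by
  have key : ∀ i, i ≠ j → ∀ r ∈ R, ∀ w ∈ W i, r * w * r⁻¹ * w⁻¹ ∈ Z i := by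
    intro i hij
    refine hU_of h hk s hW hij ?_
    rcases hc with h3 | hJ | hc
    · exact comm_three h h3 s
    · have h1 := h.stg
      cases h1 with
      | neg hj => exact absurd hJ hj
      | lev n hall hn hn1 => exact comm_lev h s hW hn
    · exact comm_V h s hW hij (hc i hij)
  have key2 : ∀ i, R ≤ normalizer (W i : Set G) := by
    intro i
    by_cases hij : i = j
    · rw [hij]; exact hW
    · intro r hr
      refine mem_normalizer_of_cj_le ?_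
      rintro _ ⟨w, hw, rfl⟩
      have h1 := mul_mem ((h.bg.fr.blk i).ZV (key i hij r hr w hw)) hw
      rwa [inv_mul_cancel_right] at h1
  refine ⟨key, key2, fun r hr => mem_normalizer_of_cj_le ?_⟩
  refine (cj_mono r (Fg_V_le h.bg.fr)).trans ?_
  have e1 : cj r (⨆ i, W i) = ⨆ i, cj r (W i) := Subgroup.map_iSup _ _
  rw [e1]
  refine iSup_le fun i => ?_
  rw [cj_eq_of_mem_normalizer (key2 i hr)]
  exact h.bg.fr.WV i

/-- **hU with UNI+ (`uni`) and block generation (`BlkS`).** -/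
theorem main (h : Mul S P K B ZJ L W Z C q) (hk : 2 ≤ k) (uni : ∀ L' V' : Subgroup G, FBl B L' V' → ∃ i, V' = W i)
    (hb : BlkS K B T) (s : Si B Z j T R) (hz : ¬ R ≤ centralizer (zc T : Set G))
    (hc : 3 ≤ k ∨ jj (S : Subgroup G) ≤ o2 P ∨ ∀ i, i ≠ j → ∀ r ∈ R, ∀ w ∈ W i, ∀ v ∈ W i,
      r * w * r⁻¹ * v = v * (r * w * r⁻¹)) :
    (∃ L' : Subgroup G, FBl B L' (W j) ∧ L' ≤ R ∧ R ≤ L' ⊔ T) ∧
      R ≤ normalizer ((T ⊓ centralizer (W j : Set G) : Subgroup G) : Set G) ∧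
      (∀ i, i ≠ j → ∀ r ∈ R, ∀ w ∈ W i, r * w * r⁻¹ * w⁻¹ ∈ Z i) ∧ (∀ i, R ≤ normalizer (W i : Set G)) ∧
      R ≤ normalizer (zl (S : Subgroup G) P : Set G) := by
  have h1 := exists_blk h uni hb s hz
  have hW := norm_W h s h1
  exact ⟨h1, norm_T0 h s hW, hU h hk s hW hc⟩

end si

end Cfsg.Agent.Omega.OM.HUMul
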