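import Cfsg.Agent.Omega.OM.Lev.Dich
import Cfsg.Agent.Omega.OM.FixPt
import Cfsg.Agent.Omega.NO3S.Fld.LevRed
import Cfsg.Agent.Omega.NO3S.Level.Fam

/-!
# Fixed points do not lift, at every level (helper857 #12910 (c))

`T` a Sylow 2-subgroup of the minimal parabolic `H` over `T`, `[Ω₁(Z(T)), H] = 1`, `lev T n ≰ O₂(H)`. Then `O²(H)`
centralises `Ω₁(Z(O₂(H)))`.

* `fixPt_nxt` : one level `K ≤ O₂(H)`, `nxt T K ≰ O₂(H)`;
* `fixPt_lev` : all levels;
* `fixPt` : `LevD.FixPt (lev S n) T H` for 2-groups `T ≥ lev S n`.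
-/

set_option autoImplicit false

namespace Cfsg.Agent.Omega.OM.LevD

open Subgroup Cfsg Cfsg.Agent.ZN.ChoiceBase Cfsg.Agent.ZN.ChoiceSit
open Cfsg.Agent.ZN (jj zj bau zc zl o2)
open Cfsg.Agent.MinSimple.MinParabolic (IsMinPar)
open Cfsg.Agent.MinSimple.VModule (oddGen mem_oddGen le_normalizer_oddGen oddGen_le oddGen_le_of_sup)
open Cfsg.Agent.Omega.NO3S.Level
open Cfsg.Agent.Omega.NO3S.Fld (ff_lemma_off)
open Cfsg.Agent.Omega.NO3b.K0 (min_or)
open Cfsg.Agent.Omega.NO3S.ThmB (BFam)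

universe u

variable {G : Type u} [Group G] [Finite G] {T H K : Subgroup G}

/-- **Fixed points do not lift**, one level. -/
theorem fixPt_nxt (hT : Syl T H) (hmin : IsMinPar T H) (hL : Lev T K) (hK : K ≤ o2 H) (hn : ¬ nxt T K ≤ o2 H)
    (hz : H ≤ centralizer (zc T : Set G)) : zc (o2 H) ≤ centralizer (oddGen H : Set G) := by
  have hOT : o2 H ≤ T := o2_le_syl hT
  have hU : zc (o2 H) ≤ zc K := hL.zc_o2_le hK hOT
  have hUO : zc (o2 H) ≤ o2 H := zc_le _
  have hsq : ∀ y ∈ zc (o2 H), y ^ 2 = 1 := fun u hu => (mem_zc.1 hu).2.1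
  have hcom : zc (o2 H) ≤ centralizer (zc (o2 H) : Set G) := by
    intro u hu
    rw [mem_centralizer_iff]
    exact fun v hv => (mem_zc.1 hu).2.2 v (mem_zc.1 hv).1
  have hN : H ≤ normalizer (zc (o2 H) : Set G) := (le_normalizer_o2 H).trans (normalizer_le_zc _)
  have hQ : o2 H ≤ centralizer (zc (o2 H) : Set G) := le_centralizer_zc _
  have hCn : H ≤ normalizer ((H ⊓ centralizer (zc (o2 H) : Set G) : Subgroup G) : Set G) :=
    NO3b.K0.norm_inf le_normalizer (hN.trans Dich.norm_cent)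
  rcases min_or hT hmin (K := H ⊓ centralizer (zc (o2 H) : Set G)) inf_le_left hCn with h1 | h1
  · exact le_centralizer_iff.1 (h1.trans inf_le_right)
  have hTC : T ⊓ centralizer (zc K : Set G) ≤ o2 H := by
    refine le_trans ?_ h1
    exact le_inf inf_le_left (le_inf (inf_le_left.trans hT.1) (inf_le_right.trans (centralizer_le hU)))
  obtain ⟨A, hA, hAO⟩ : ∃ A ∈ BO T K, ¬ A ≤ o2 H := by
    by_contra hcon
    push Not at hcon
    exact hn (sup_le hTC (sSup_le hcon))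
  have hF : BFam T (zc (o2 H)) H (BO T K) := bfam_BO hU (hL.le_norm_of_o2 hK hOT)
  refine ff_lemma_off FF.Glob.aStmt hT hmin (hUO.trans (o2_le H)) hsq hcom hN hQ ?_ hA.1 hAO (hF.elem A hA) ?_
  · rintro x ⟨hx, hxT⟩
    have hxz : x ∈ zc T := mem_zc.2 ⟨hOT (hUO hx), hsq x hx, fun t ht => mem_centralizer_iff.1 hxT t ht⟩
    rw [mem_centralizer_iff]
    exact fun e he => (mem_centralizer_iff.1 (hz (oddGen_le H he)) x hxz).symm
  · have h2 := hF.best A hA (A ⊓ centralizer (zc (o2 H) : Set G)) le_rfl inf_le_left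
    have e : zc (o2 H) ⊓ centralizer ((A ⊓ centralizer (zc (o2 H) : Set G) : Subgroup G) : Set G) = zc (o2 H) :=
      inf_eq_left.2 (le_centralizer_iff.1 inf_le_right)
    rw [e, mul_comm] at h2
    exact h2

/-- **Fixed points do not lift**, all levels. -/
theorem fixPt_lev (hT : Syl T H) (hmin : IsMinPar T H) (hz : H ≤ centralizer (zc T : Set G)) :
    ∀ n, ¬ lev T n ≤ o2 H → zc (o2 H) ≤ centralizer (oddGen H : Set G) := by
  intro n
  induction n with
  | zero => exact fun h => FixPt.fixPt FF.Glob.aStmt hT hmin h hz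
  | succ n ih =>
    intro h
    by_cases h1 : lev T n ≤ o2 H
    · exact fixPt_nxt hT hmin (lev_isLev T n) h1 h hz
    · exact ih h1

/-- The hypothesis `hfix` of `LevD.gen` at stage `n`. -/
theorem fixPt (S : Sylow 2 G) {n : ℕ} (hT : Syl T H) (hle : lev (S : Subgroup G) n ≤ T) (hmin : IsMinPar T H) :
    FixPt (lev (S : Subgroup G) n) T H := fun h hz =>
  fixPt_lev hT hmin hz n (by rwa [lev_eq S hT.2.1 hle n le_rfl])

/-- The hypothesis `hfix` of `LevD.gen` at stage `-1`. -/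
theorem fixPt_neg (S : Sylow 2 G) (hT : Syl T H) (hle : jj (S : Subgroup G) ≤ T) (hmin : IsMinPar T H) :
    FixPt (jj (S : Subgroup G)) T H := fun h hz =>
  FixPt.fixPt FF.Glob.aStmt hT hmin (by rwa [MinSimple.EmptyTI.jj_eq S hT.2.1 hle]) hz

end Cfsg.Agent.Omega.OM.LevD
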