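import Cfsg.Agent.Omega.OM.Lev.Nat
import Cfsg.Agent.Omega.OM.Lev.Wc
import Cfsg.Agent.Omega.OM.UniPlus
import Cfsg.Agent.Omega.NO3S.OneLine.LevKOf

/-!
# The offenders of the frame at a level

* `best_of_split` : `A ∈ AA` the product of `E`, `E'` with `V = C_V(E) C_V(E')`: `E` is a best offender on `X`;
* `exists_one` : for every block a best offender which acts exactly as the root group of this block;
* `hy_of` : the structure `Nat.Hy` for `P ∈ P*(S)`, `B = C_S(ZJ)`.
-/

set_option autoImplicit false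
set_option linter.unusedSectionVars false
set_option linter.unusedVariables false

namespace Cfsg.Agent.Omega.OM.Lev.Exa

open Subgroup Cfsg Cfsg.Agent.PLocal.ThompsonJ Cfsg.Agent.ZN Cfsg.Agent.ZN.ChoiceBase Cfsg.Agent.Omega.MinPar
open Cfsg.Agent.Omega.NatPair (ap ap_zero' ap_one' ap_one ap_mul ext2)
open Cfsg.Agent.Lib.SL2Mat
open Cfsg.Agent.Omega.SQ1.FFOne
open Cfsg.Agent.Omega.SQ1.Bau (elem_comm elem_sq card_sup_comm)
open Cfsg.Agent.Omega.FFThm (NatK ActsSL Off OffM NatKM ElemM NoOverM)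
open Cfsg.Agent.Omega.FrameFF (cv)
open Cfsg.Agent.Omega.NO3S.OneLine
open Cfsg.Agent.Omega.OM.Lev.Uni (FrL Best)
open Cfsg.Agent.Omega.OM.Lev.Nat

universe u

variable {G : Type u} [Group G] [Finite G] {S : Sylow 2 G} {P X L : Subgroup G} {AA : Set (Subgroup G)}

section split

variable (h : NO3S.OneLine.Exa S P X L AA)
include h

/-- A factor of a best offender. -/
theorem best_of_split {A : Subgroup G} (hA : A ∈ AA) {E E' : Subgroup G} (hE : E ≤ A) (hE' : E' ≤ A)
    (h0 : E ⊓ E' = A ⊓ o2 P) (hEE : ∀ a ∈ A, ∃ e ∈ E, ∃ e' ∈ E', a = e * e')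
    (hV : ∀ v ∈ zl (S : Subgroup G) P, ∃ u ∈ zl (S : Subgroup G) P, ∃ w ∈ zl (S : Subgroup G) P,
      (∀ e ∈ E, e * u = u * e) ∧ (∀ e ∈ E', e * w = w * e) ∧ v = u * w) : Best X E := by
  set V := zl (S : Subgroup G) P with hVd
  have hAS := h.fam.le A hA
  have hA0 : A ⊓ o2 P ≤ E := h0.ge.trans inf_le_left
  have hA0' : A ⊓ o2 P ≤ E' := h0.ge.trans inf_le_right
  have hXc := h.Xc
  have hVX := h.VX
  -- (1)
  have c1 : Nat.card A * Nat.card ↥(A ⊓ o2 P) ≤ Nat.card E * Nat.card E' := by
    choose! f hf g hg hfg using hEE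
    rw [← Nat.card_prod, ← Nat.card_prod]
    refine Nat.card_le_card_of_injective (fun p : A × (A ⊓ o2 P : Subgroup G) =>
      ((⟨f p.1 * p.2, mul_mem (hf _ p.1.2) (hA0 p.2.2)⟩, ⟨(p.2 : G)⁻¹ * g p.1, mul_mem (inv_mem (hA0' p.2.2))
        (hg _ p.1.2)⟩) : E × E')) ?_
    rintro ⟨⟨a, ha⟩, ⟨x, hx⟩⟩ ⟨⟨b, hb⟩, ⟨y, hy⟩⟩ hab
    simp only [Prod.mk.injEq, Subtype.mk.injEq] at hab
    obtain ⟨h1, h2⟩ := hab
    have h3 : a = b := by
      rw [hfg a ha, hfg b hb]
      calc f a * g a = (f a * x) * (x⁻¹ * g a) := by group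
        _ = (f b * y) * (y⁻¹ * g b) := by rw [h1, h2]
        _ = f b * g b := by group
    subst h3
    have h4 : x = y := mul_left_cancel h1
    subst h4
    rfl
  -- (2)
  have hVc : ∀ x ∈ V, ∀ y ∈ V, x * y = y * x := fun x hx y hy => hXc x (hVX hx) y (hVX hy)
  have c2 : Nat.card V * Nat.card ↥(V ⊓ centralizer (A : Set G)) =
      Nat.card ↥(V ⊓ centralizer (E : Set G)) * Nat.card ↥(V ⊓ centralizer (E' : Set G)) := by
    have h1 := card_sup_comm (A := V ⊓ centralizer (E : Set G)) (B := V ⊓ centralizer (E' : Set G))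
      fun a ha b hb => hVc a ha.1 b hb.1
    have h2 : (V ⊓ centralizer (E : Set G)) ⊔ (V ⊓ centralizer (E' : Set G)) = V := by
      refine le_antisymm (sup_le inf_le_left inf_le_left) fun v hv => ?_
      obtain ⟨u, hu, w, hw, h3, h4, rfl⟩ := hV v hv
      exact mul_mem (mem_sup_left ⟨hu, mem_centralizer_iff.2 h3⟩) (mem_sup_right ⟨hw, mem_centralizer_iff.2 h4⟩)
    have h3 : (V ⊓ centralizer (E : Set G)) ⊓ (V ⊓ centralizer (E' : Set G)) = V ⊓ centralizer (A : Set G) := by
      apply le_antisymm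
      · rintro x ⟨⟨hx, hxE⟩, ⟨-, hxE'⟩⟩
        refine ⟨hx, mem_centralizer_iff.2 fun a ha => ?_⟩
        obtain ⟨e, he, e', he', rfl⟩ := hEE a ha
        have d1 : Commute e x := mem_centralizer_iff.1 hxE e he
        have d2 : Commute e' x := mem_centralizer_iff.1 hxE' e' he'
        exact (d1.mul_left d2).eq
      · exact le_inf (inf_le_inf_left _ (centralizer_le hE)) (inf_le_inf_left _ (centralizer_le hE'))
    rwa [h2, h3] at h1
  -- (3), (4)
  have key : ∀ E₀ : Subgroup G, E₀ ≤ A → A ⊓ o2 P ≤ E₀ →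
      Nat.card E₀ * Nat.card ↥(V ⊓ centralizer (E₀ : Set G)) ≤ Nat.card V * Nat.card ↥(A ⊓ o2 P) := by
    intro E₀ h1 h2
    have h3 := h.noOver E₀ ((h1.trans hAS).trans h.SP) (elemM_mono (h.fam.elem A hA) hVX h1)
    rw [h.inf_cent (h1.trans hAS)] at h3
    have h4 : E₀ ⊓ o2 P = A ⊓ o2 P :=
      le_antisymm (inf_le_inf_right _ h1) (le_inf h2 inf_le_right)
    rwa [h4] at h3
  have c3 := key E hE hA0
  have c4 := key E' hE' hA0'
  have c5 := h.exact hA
  rw [← hVd] at c5
  have hp0 : 0 < Nat.card ↥(A ⊓ o2 P) := Nat.card_pos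
  have hpV : 0 < Nat.card V := Nat.card_pos
  have hp : 0 < Nat.card V * Nat.card ↥(A ⊓ o2 P) := Nat.mul_pos hpV hp0
  have c6 : Nat.card V * Nat.card ↥(A ⊓ o2 P) ≤
      Nat.card E * Nat.card ↥(V ⊓ centralizer (E : Set G)) := by
    refine Nat.le_of_mul_le_mul_right ?_ hp
    calc (Nat.card V * Nat.card ↥(A ⊓ o2 P)) * (Nat.card V * Nat.card ↥(A ⊓ o2 P))
        = (Nat.card A * Nat.card ↥(V ⊓ centralizer (A : Set G))) * (Nat.card V * Nat.card ↥(A ⊓ o2 P)) := by
          rw [c5]
      _ = (Nat.card A * Nat.card ↥(A ⊓ o2 P)) * (Nat.card V * Nat.card ↥(V ⊓ centralizer (A : Set G))) := by ring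
      _ ≤ (Nat.card E * Nat.card E') * (Nat.card ↥(V ⊓ centralizer (E : Set G)) *
          Nat.card ↥(V ⊓ centralizer (E' : Set G))) := by rw [c2]; exact Nat.mul_le_mul_right _ c1
      _ = (Nat.card E * Nat.card ↥(V ⊓ centralizer (E : Set G))) *
          (Nat.card E' * Nat.card ↥(V ⊓ centralizer (E' : Set G))) := by ring
      _ ≤ _ := Nat.mul_le_mul_left _ c4
  -- (7)
  have c7 : Nat.card ↥(V ⊓ centralizer (E : Set G)) * Nat.card ↥(X ⊓ centralizer (A : Set G)) ≤
      Nat.card ↥(X ⊓ centralizer (E : Set G)) * Nat.card ↥(V ⊓ centralizer (A : Set G)) := by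
    have h1 := card_sup_comm (A := V ⊓ centralizer (E : Set G)) (B := X ⊓ centralizer (A : Set G))
      fun a ha b hb => hXc a (hVX ha.1) b hb.1
    have h2 : (V ⊓ centralizer (E : Set G)) ⊓ (X ⊓ centralizer (A : Set G)) = V ⊓ centralizer (A : Set G) := by
      apply le_antisymm
      · rintro x ⟨⟨hx, -⟩, -, hxA⟩
        exact ⟨hx, hxA⟩
      · rintro x ⟨hx, hxA⟩
        exact ⟨⟨hx, centralizer_le hE hxA⟩, hVX hx, hxA⟩
    rw [h2] at h1
    rw [← h1]
    refine Nat.mul_le_mul_right _ (Subgroup.card_le_of_le (sup_le (inf_le_inf_right _ hVX) ?_))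
    exact inf_le_inf_left _ (centralizer_le hE)
  -- (8)
  have hpA : 0 < Nat.card ↥(V ⊓ centralizer (A : Set G)) := Nat.card_pos
  have c8 : Nat.card A * Nat.card ↥(X ⊓ centralizer (A : Set G)) ≤
      Nat.card E * Nat.card ↥(X ⊓ centralizer (E : Set G)) := by
    refine Nat.le_of_mul_le_mul_right ?_ hpA
    calc Nat.card A * Nat.card ↥(X ⊓ centralizer (A : Set G)) * Nat.card ↥(V ⊓ centralizer (A : Set G))
        = (Nat.card A * Nat.card ↥(V ⊓ centralizer (A : Set G))) * Nat.card ↥(X ⊓ centralizer (A : Set G)) := by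
          ring
      _ = (Nat.card V * Nat.card ↥(A ⊓ o2 P)) * Nat.card ↥(X ⊓ centralizer (A : Set G)) := by rw [c5]
      _ ≤ (Nat.card E * Nat.card ↥(V ⊓ centralizer (E : Set G))) * Nat.card ↥(X ⊓ centralizer (A : Set G)) :=
          Nat.mul_le_mul_right _ c6
      _ = Nat.card E * (Nat.card ↥(V ⊓ centralizer (E : Set G)) * Nat.card ↥(X ⊓ centralizer (A : Set G))) := by
          ring
      _ ≤ Nat.card E * (Nat.card ↥(X ⊓ centralizer (E : Set G)) * Nat.card ↥(V ⊓ centralizer (A : Set G))) :=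
          Nat.mul_le_mul_left _ c7
      _ = _ := by ring
  intro F' hF hFE
  refine (h.fam.best A hA F' (le_trans ?_ hF) (hFE.trans hE)).trans c8
  refine le_inf (le_trans ?_ hA0) inf_le_right
  rw [← h.inf_cent hAS]
  exact inf_le_inf_left _ (centralizer_le hVX)

end split

section nat

variable {F : Type} [Field F] [Finite F] [CharP F 2] {k : ℕ}

/-- The parametrised natural modules. -/
noncomputable def natM (h : NO3S.OneLine.Exa S P X L AA)
    (N : NatKM F (S : Subgroup G) P (zl (S : Subgroup G) P) (cv (S : Subgroup G) P) k) (hk : 0 < k) :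
    NatC F (S : Subgroup G) P (zl (S : Subgroup G) P) (cv (S : Subgroup G) P) k :=
  natC_of h.minH' hk N.toNatK

variable (h : NO3S.OneLine.Exa S P X L AA)
  (N : NatKM F (S : Subgroup G) P (zl (S : Subgroup G) P) (cv (S : Subgroup G) P) k) (hk : 0 < k)
include h N hk

theorem natM_nat : (natM h N hk).nat = N.toNatK := rfl

/-- **For every block a best offender which acts exactly as the root group of this block.** -/
theorem exists_one (j : Fin k) : ∃ A : Subgroup G, A ≤ (S : Subgroup G) ∧ ElemM X A ∧ Best X A ∧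
    (∀ a ∈ A, ∃ c : F, (natM h N hk).Acts a (Function.update 1 j (up c))) ∧
    ∀ c : F, ∃ a ∈ A, (natM h N hk).Acts a (Function.update 1 j (up c)) := by
  classical
  set M := natM h N hk with hM
  have hD := h.cv_eq_bot N
  obtain ⟨A, hA, hroot⟩ := h.exists_root N hk j
  have hAS := h.fam.le A hA
  have hAP : A ≤ P := hAS.trans h.SP
  have hupd : ∀ c : F, (Pi.mulSingle j (up c) : Fin k → Matrix.SpecialLinearGroup (Fin 2) F) =
      (Function.update 1 j (up c) : Fin k → Matrix.SpecialLinearGroup (Fin 2) F) := fun c => rfl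
  have hAQ : ¬ A ≤ o2 P := by
    intro hAQ
    obtain ⟨a, ha, hac⟩ := hroot 1
    obtain ⟨v, hv, e⟩ := N.surj (Function.update 0 j ![0, 1])
    have h1 := h.comm_Q a (hAQ ha) v hv
    have h2 := hac.1 v hv j
    have h3 : a * v * a⁻¹ = v := by rw [h1]; group
    rw [h3, Pi.mulSingle_eq_same, e, Function.update_self] at h2
    have h4 := congrFun h2 0
    rw [ap_zero'] at h4
    simp at h4
  obtain ⟨I, h1, h2⟩ := N.offM A hAS (h.offM hA hAQ)
  have hact : ∀ a ∈ A, ∃ b : Fin k → F, (∀ i, i ∉ I → b i = 0) ∧ M.Acts a fun i => up (b i) := fun a ha => by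
    obtain ⟨b, hb0, hb⟩ := h1 a ha
    exact ⟨b, hb0, hb.1⟩
  have hupinj : ∀ b c : F, (up b : Matrix.SpecialLinearGroup (Fin 2) F) = up c → b = c := fun b c hbc => by
    have : ent (up b : Matrix.SpecialLinearGroup (Fin 2) F) 0 1 = ent (up c) 0 1 := by rw [hbc]
    rwa [up_01, up_01] at this
  have hup1 : (Function.update 1 j 1 : Fin k → Matrix.SpecialLinearGroup (Fin 2) F) = 1 := by
    funext i
    by_cases hi : i = j
    · subst hi; rw [Function.update_self]; rfl
    · rw [Function.update_of_ne hi]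
  -- trivial action
  have htriv : ∀ a ∈ A, M.Acts a 1 → a ∈ o2 P := by
    intro a ha ha1
    rw [← IsParS.inf_centralizer S h.char2 h.star]
    refine ⟨hAS ha, mem_centralizer_iff.2 fun v hv => ?_⟩
    have h5 := M.acts_eq hD (hAP ha) (one_mem P) ha1 NatC.acts_one hv
    rw [one_mul, inv_one, mul_one] at h5
    calc v * a = (a * v * a⁻¹) * a := by rw [h5]
      _ = a * v := by group
  have htriv' : ∀ a ∈ A ⊓ o2 P, M.Acts a 1 := by
    intro a ha v hv i
    have h5 : a * v * a⁻¹ = v := by rw [h.comm_Q a ha.2 v hv]; group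
    rw [h5, Pi.one_apply, ap_one]
  let E : Subgroup G :=
    { carrier := {a | a ∈ A ∧ ∃ c : F, M.Acts a (Function.update 1 j (up c))}
      mul_mem' := by
        rintro a b ⟨ha, c, hc⟩ ⟨hb, d, hd⟩
        refine ⟨mul_mem ha hb, c + d, ?_⟩
        have := NatC.acts_mul (hAP hb) hc hd
        rw [← hupd, ← hupd, ← Pi.mulSingle_mul, up_mul, hupd] at this
        exact this
      one_mem' := ⟨one_mem _, 0, by rw [← hupd, up_zero, Pi.mulSingle_one]; exact NatC.acts_one⟩
      inv_mem' := by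
        rintro a ⟨ha, c, hc⟩
        refine ⟨inv_mem ha, -c, ?_⟩
        have := NatC.acts_inv (hAP ha) hc
        rw [← hupd, ← Pi.mulSingle_inv, up_inv, hupd] at this
        exact this }
  let E' : Subgroup G :=
    { carrier := {a | a ∈ A ∧ ∃ b : Fin k → F, b j = 0 ∧ M.Acts a fun i => up (b i)}
      mul_mem' := by
        rintro a b ⟨ha, c, hc0, hc⟩ ⟨hb, d, hd0, hd⟩
        refine ⟨mul_mem ha hb, c + d, by rw [Pi.add_apply, hc0, hd0, add_zero], ?_⟩
        have h5 := NatC.acts_mul (hAP hb) hc hd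
        have h6 : ((fun i => up (c i)) * (fun i => up (d i)) : Fin k → Matrix.SpecialLinearGroup (Fin 2) F) =
            fun i => up ((c + d) i) := funext fun i => up_mul _ _
        rwa [h6] at h5
      one_mem' := by
        refine ⟨one_mem _, 0, rfl, ?_⟩
        have h6 : (fun i => up ((0 : Fin k → F) i) : Fin k → Matrix.SpecialLinearGroup (Fin 2) F) = 1 :=
          funext fun i => up_zero
        rw [h6]
        exact NatC.acts_one
      inv_mem' := by
        rintro a ⟨ha, c, hc0, hc⟩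
        refine ⟨inv_mem ha, -c, by rw [Pi.neg_apply, hc0, neg_zero], ?_⟩
        have h5 := NatC.acts_inv (hAP ha) hc
        have h6 : (fun i => up (c i) : Fin k → Matrix.SpecialLinearGroup (Fin 2) F)⁻¹ =
            fun i => up ((-c) i) := funext fun i => up_inv _
        rwa [h6] at h5 }
  have hEA : E ≤ A := fun a ha => ha.1
  have hE'A : E' ≤ A := fun a ha => ha.1
  have hsingle : ∀ c : F, (Function.update 1 j (up c) : Fin k → Matrix.SpecialLinearGroup (Fin 2) F) =
      (fun i => up ((Function.update 0 j c : Fin k → F) i) : Fin k → Matrix.SpecialLinearGroup (Fin 2) F) := by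
    intro c
    funext i
    by_cases hi : i = j
    · subst hi; rw [Function.update_self, Function.update_self]
    · rw [Function.update_of_ne hi, Function.update_of_ne hi]
      exact up_zero.symm
  refine ⟨E, hEA.trans hAS, elemM_mono (h.fam.elem A hA) le_rfl hEA, ?_, fun a ha => ha.2, fun c => ?_⟩
  · refine best_of_split h hA hEA hE'A ?_ ?_ ?_
    · apply le_antisymm
      · rintro a ⟨⟨ha, c, hc⟩, -, b, hb0, hb⟩
        refine ⟨ha, htriv a ha ?_⟩
        have h5 := NatC.acts_unique hc hb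
        have h6 := congrFun h5 j
        rw [Function.update_self, hb0] at h6
        rw [hupinj _ _ h6, up_zero] at hc
        rwa [hup1] at hc
      · intro a ha
        have h5 := htriv' a ha
        refine ⟨⟨ha.1, 0, ?_⟩, ha.1, 0, rfl, ?_⟩
        · rwa [up_zero, hup1]
        · have h6 : (fun i => up ((0 : Fin k → F) i) : Fin k → Matrix.SpecialLinearGroup (Fin 2) F) = 1 :=
            funext fun i => up_zero
          rwa [h6]
    · intro a ha
      obtain ⟨b, hb0, hb⟩ := hact a ha
      obtain ⟨e, he, hec⟩ := hroot (b j)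
      have he' : M.Acts e (Function.update 1 j (up (b j))) := hec.1
      have he'' : M.Acts e (fun i => up ((Function.update 0 j (b j) : Fin k → F) i)) := by
        rw [← hsingle]; exact he'
      refine ⟨e, ⟨he, _, he'⟩, e⁻¹ * a, ⟨mul_mem (inv_mem he) ha, fun i => b i - (Function.update 0 j (b j) : Fin k → F) i,
        ?_, ?_⟩, by group⟩
      · show b j - (Function.update 0 j (b j) : Fin k → F) j = 0
        rw [Function.update_self, sub_self]
      · have h5 := NatC.acts_mul (hAP ha) (NatC.acts_inv (hAP he) he'') hb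
        have h6 : ((fun i => up ((Function.update 0 j (b j) : Fin k → F) i) :
            Fin k → Matrix.SpecialLinearGroup (Fin 2) F)⁻¹ * (fun i => up (b i)) :
            Fin k → Matrix.SpecialLinearGroup (Fin 2) F) =
            fun i => up (b i - (Function.update 0 j (b j) : Fin k → F) i) := by
          funext i
          rw [Pi.mul_apply, Pi.inv_apply, up_inv, up_mul]
          congr 1
          ring
        rwa [h6] at h5
    · intro v hv
      obtain ⟨w, hw, e⟩ := N.surj (Function.update 0 j (N.e v j))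
      have hwv : v * w⁻¹ ∈ zl (S : Subgroup G) P := mul_mem hv (inv_mem hw)
      have he0 : N.e (v * w⁻¹) j = 0 := by
        rw [show N.e (v * w⁻¹) = N.e v - N.e w from M.map_div hv hw, Pi.sub_apply, e, Function.update_self, sub_self]
      refine ⟨v * w⁻¹, hwv, w, hw, ?_, ?_, by group⟩
      · rintro a ⟨ha, c, hc⟩
        have h5 : a * (v * w⁻¹) * a⁻¹ = v * w⁻¹ := by
          refine M.e_inj hD (M.Vn a (hAP ha) _ hwv) hwv ?_
          funext i
          rw [hc _ hwv i]
          by_cases hi : i = j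
          · subst hi
            rw [show M.nat.e (v * w⁻¹) i = 0 from he0, ap_z]
          · rw [Function.update_of_ne hi, Pi.one_apply, ap_one]
        calc a * (v * w⁻¹) = a * (v * w⁻¹) * a⁻¹ * a := by group
          _ = v * w⁻¹ * a := by rw [h5]
      · rintro a ⟨ha, b, hb0, hb⟩
        have h5 : a * w * a⁻¹ = w := by
          refine M.e_inj hD (M.Vn a (hAP ha) _ hw) hw ?_
          funext i
          rw [hb _ hw i]
          by_cases hi : i = j
          · subst hi
            beta_reduce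
            rw [hb0, up_zero, ap_one]
          · rw [show M.nat.e w i = 0 from by
              change N.e w i = 0
              rw [e, Function.update_of_ne hi]; rfl, ap_z]
        calc a * w = a * w * a⁻¹ * a := by group
          _ = w * a := by rw [h5]
  · obtain ⟨a, ha, hac⟩ := hroot c
    exact ⟨a, ⟨ha, c, hac.1⟩, hac.1⟩

/-- **The hypotheses on `B`, `ZJ`.** -/
theorem hy_of {B ZJ : Subgroup G} (eqB : B = (S : Subgroup G) ⊓ centralizer (ZJ : Set G))
    (hZJ : ∀ v, v ∈ ZJ ↔ v ∈ zl (S : Subgroup G) P ∧ ∀ i, N.e v i 1 = 0) (wc : WeakCl.WC B)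
    (SZJ : (S : Subgroup G) ≤ normalizer (ZJ : Set G)) : Hy (natM h N hk) B ZJ where
  syl := ⟨h.SP, S.isPGroup', fun _ _ hT hST => S.is_maximal' hT hST⟩
  D0 := h.cv_eq_bot N
  eqB := eqB
  mem_ZJ := hZJ
  mem_o2 := fun x => by
    rw [← IsParS.inf_centralizer S h.char2 h.star, mem_inf, mem_centralizer_iff]
    exact and_congr_right fun _ => ⟨fun h1 v hv => (h1 v hv).symm, fun h1 v hv => (h1 v hv).symm⟩
  zc_eq := h.zc_o2_nat N hk
  wn := fun R hR hBR => UniPlus.WC.weakNormal wc R hR hBR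
  sylB := fun R hR hBR hRZ => by
    have h1 := WOneG.syl_B S eqB SZJ
    exact h1.2.2 R hRZ hR hBR

end nat

end Cfsg.Agent.Omega.OM.Lev.Exa
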