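import Cfsg.Agent.Omega.NO3S.OneLine.LevKOf
import Cfsg.Agent.Omega.OM.BlkGen

/-!
# Best offenders of `T` on `X` in a minimal parabolic `H` over `T` (general pair `(T, H)`)

`GE T H X AA` : `T` a Sylow 2-subgroup of the minimal parabolic `H`, `C_T(V) ≤ O₂(H)` for `V = ⟨Ω₁Z(T)^H⟩ ≤ X`, `X` an
elementary abelian normal subgroup of `H`, no over-offender on `V`, `AA` a family of best offenders of `T` on `X`.

* `GE.exact`, `GE.cut` : `C_X(A ∩ Q) = V C_X(A)`;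
* `Y0 H X AA = C_X(⟨A ∈ AA | A ≤ Q⟩)` : `GE.norm_Y0` : normal in `H`; `GE.Y0_le` : `Y0 ≤ V C_X(A)`, `A ∈ AA`;
  `GE.Y0_comm` : `[y, a] = [v, a]`, `v ∈ V`;
* `GE.of_lev` : the instance at a level `K ≤ O₂(H)` of `T`;
* `zc_nxt` : `Ω₁Z(nxt T K) = C_{Ω₁Z(K)}(BO T K)`.
-/

set_option autoImplicit false
set_option linter.unusedSectionVars false

namespace Cfsg.Agent.Omega.OM.GLev

open Subgroup Cfsg Cfsg.Agent.PLocal.ThompsonJ Cfsg.Agent.ZN Cfsg.Agent.ZN.ChoiceBase Cfsg.Agent.ZN.ChoiceSit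
open Cfsg.Agent.PLocal.ElemAbSup
open Cfsg.Agent.Omega.SQ1.Bau (mem_sup_comm card_sup_comm elem_comm elem_sq)
open Cfsg.Agent.Omega.SQ1.FFOne (MinH)
open Cfsg.Agent.MinSimple.MinParabolic (IsMinPar)
open Cfsg.Agent.Omega.NO3S.OneLine (BFam elemM_mono bo bo_fam bo_eq zc_elem)
open Cfsg.Agent.Omega.NO3S.Level (Lev nxt BO)
open Cfsg.Agent.Omega.FFThm (ElemM OffM NoOverM)

universe u

variable {G : Type u} [Group G] [Finite G] {T H X : Subgroup G} {AA : Set (Subgroup G)}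

/-- `T` Sylow in the minimal parabolic `H`, a family of best offenders of `T` on the normal subgroup `X` of `H`. -/
structure GE (T H X : Subgroup G) (AA : Set (Subgroup G)) : Prop where
  hm : MinH H T
  fam : BFam T X (normalizer (X : Set G)) AA
  elem : IsElementaryAbelian 2 X
  norm : H ≤ normalizer (X : Set G)
  VX : zl T H ≤ X
  QC : T ⊓ centralizer (zl T H : Set G) ≤ o2 H
  noOver : NoOverM (zl T H) H

/-- `C_X(⟨A ∈ AA | A ≤ O₂(H)⟩)` -/
def Y0 (H X : Subgroup G) (AA : Set (Subgroup G)) : Subgroup G :=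
  X ⊓ centralizer ((sSup {A | A ∈ AA ∧ A ≤ o2 H} : Subgroup G) : Set G)

theorem mem_Y0 {y : G} : y ∈ Y0 H X AA ↔ y ∈ X ∧ ∀ A ∈ AA, A ≤ o2 H → ∀ a ∈ A, a * y = y * a := by
  rw [Y0, mem_inf, NO3S.OneLine.mem_cent_sSup]
  exact ⟨fun h => ⟨h.1, fun A hA hAQ a ha => h.2 A ⟨hA, hAQ⟩ a ha⟩, fun h => ⟨h.1, fun A hA a ha => h.2 A hA.1 hA.2 a ha⟩⟩

namespace GE

variable (h : GE T H X AA)
include h

theorem Xc : ∀ x ∈ X, ∀ y ∈ X, x * y = y * x := elem_comm h.elem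

theorem TH : T ≤ H := h.hm.syl.1

theorem QT : o2 H ≤ T := o2_le_syl h.hm.syl

theorem comm_Q : ∀ a ∈ o2 H, ∀ v ∈ zl T H, a * v = v * a := SQ1.VOf.MinH.o2_cent h.hm

theorem inf_cent {A : Subgroup G} (hA : A ≤ T) : A ⊓ centralizer (zl T H : Set G) = A ⊓ o2 H := by
  apply le_antisymm
  · exact le_inf inf_le_left (le_trans (inf_le_inf_right _ hA) h.QC)
  · exact inf_le_inf_left _ fun x hx => mem_centralizer_iff.2 fun v hv => (h.comm_Q x hx v hv).symm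

/-- exactness -/
theorem exact {A : Subgroup G} (hA : A ∈ AA) :
    Nat.card A * Nat.card ↥(zl T H ⊓ centralizer (A : Set G)) =
      Nat.card (zl T H) * Nat.card ↥(A ⊓ o2 H) := by
  have hAS := h.fam.le A hA
  have h1 := h.fam.off h.Xc h.VX hA
  have h2 := h.noOver A (hAS.trans h.TH) (elemM_mono (h.fam.elem A hA) h.VX le_rfl)
  rw [h.inf_cent hAS] at h1 h2
  exact le_antisymm h2 h1

/-- `|A ∩ Q| |C_X(A ∩ Q)| = |A| |C_X(A)|` and `C_X(A ∩ Q) = V C_X(A)`. -/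
theorem cut {A : Subgroup G} (hA : A ∈ AA) :
    Nat.card ↥(A ⊓ o2 H) * Nat.card ↥(X ⊓ centralizer ((A ⊓ o2 H : Subgroup G) : Set G)) =
        Nat.card A * Nat.card ↥(X ⊓ centralizer (A : Set G)) ∧
      zl T H ⊔ (X ⊓ centralizer (A : Set G)) =
        X ⊓ centralizer ((A ⊓ o2 H : Subgroup G) : Set G) := by
  have hAS := h.fam.le A hA
  have hc := h.exact hA
  have hle : zl T H ⊔ (X ⊓ centralizer (A : Set G)) ≤
      X ⊓ centralizer ((A ⊓ o2 H : Subgroup G) : Set G) := by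
    refine sup_le (le_inf h.VX fun v hv => mem_centralizer_iff.2 fun a ha => h.comm_Q a ha.2 v hv) ?_
    exact inf_le_inf_left _ (centralizer_le inf_le_left)
  have h1 := card_sup_comm (A := zl T H) (B := X ⊓ centralizer (A : Set G))
    fun v hv x hx => h.Xc v (h.VX hv) x hx.1
  have h2 : zl T H ⊓ (X ⊓ centralizer (A : Set G)) =
      zl T H ⊓ centralizer (A : Set G) := by
    rw [← inf_assoc, inf_eq_left.2 h.VX]
  rw [h2] at h1
  have hp : 0 < Nat.card ↥(zl T H ⊓ centralizer (A : Set G)) := Nat.card_pos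
  have h4 : Nat.card ↥(A ⊓ o2 H) * Nat.card ↥(X ⊓ centralizer ((A ⊓ o2 H : Subgroup G) : Set G)) ≤
      Nat.card A * Nat.card ↥(X ⊓ centralizer (A : Set G)) := by
    refine h.fam.best A hA _ ?_ inf_le_left
    rw [← h.inf_cent hAS]
    exact inf_le_inf_left _ (centralizer_le h.VX)
  have h5 := Nat.mul_le_mul_left (Nat.card ↥(A ⊓ o2 H)) (Subgroup.card_le_of_le hle)
  have h6 : Nat.card ↥(A ⊓ o2 H) * Nat.card ↥(zl T H ⊔ (X ⊓ centralizer (A : Set G))) =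
      Nat.card A * Nat.card ↥(X ⊓ centralizer (A : Set G)) := by
    refine Nat.eq_of_mul_eq_mul_right hp ?_
    calc _ = Nat.card ↥(A ⊓ o2 H) * (Nat.card ↥(zl T H ⊔ (X ⊓ centralizer (A : Set G))) *
          Nat.card ↥(zl T H ⊓ centralizer (A : Set G))) := by ring
      _ = (Nat.card (zl T H) * Nat.card ↥(A ⊓ o2 H)) *
          Nat.card ↥(X ⊓ centralizer (A : Set G)) := by rw [h1]; ring
      _ = _ := by rw [← hc]; ring
  have h7 := le_antisymm h4 (h6 ▸ h5)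
  refine ⟨h7, Subgroup.eq_of_le_of_card_ge hle ?_⟩
  have hp' : 0 < Nat.card ↥(A ⊓ o2 H) := Nat.card_pos
  exact Nat.le_of_mul_le_mul_left (h7.trans h6.symm).le hp'

/-- `Y0` is normal in `H`. -/
theorem norm_Y0 : H ≤ normalizer (Y0 H X AA : Set G) := by
  intro g hg
  refine mem_normalizer_of_cj_le ?_
  rintro _ ⟨y, hy, rfl⟩
  obtain ⟨hyX, hyc⟩ := mem_Y0.1 hy
  refine mem_Y0.2 ⟨(mem_normalizer_iff.1 (h.norm hg) y).1 hyX, fun A hA hAQ a ha => ?_⟩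
  have hQ : cj g⁻¹ A ≤ o2 H := by
    have h1 := cj_mono g⁻¹ hAQ
    rwa [cj_eq_of_mem_normalizer (ChoiceSit.le_normalizer_o2 H (inv_mem hg))] at h1
  have hA' := h.fam.conj A hA g⁻¹ (h.norm (inv_mem hg)) (hQ.trans h.QT)
  have h2 := hyc _ hA' hQ (g⁻¹ * a * g) ⟨a, ha, by simp⟩
  have h3 := congrArg (fun t => g * t * g⁻¹) h2
  simpa [mul_assoc] using h3

/-- `Y0 ≤ V C_X(A)`. -/
theorem Y0_le {A : Subgroup G} (hA : A ∈ AA) : Y0 H X AA ≤ zl T H ⊔ (X ⊓ centralizer (A : Set G)) := by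
  have hAS := h.fam.le A hA
  have hc := h.cut hA
  obtain ⟨B', hB', e⟩ := h.fam.cut A hA (A ⊓ o2 H) (by
    rw [← h.inf_cent hAS]
    exact inf_le_inf_left _ (centralizer_le h.VX)) inf_le_left hc.1
  have hB'V : B' ≤ centralizer (zl T H : Set G) := by
    have h1 : B' ≤ (A ⊓ o2 H) ⊔ centralizer (X : Set G) := by rw [← e]; exact le_sup_left
    refine h1.trans (sup_le ?_ (centralizer_le h.VX))
    exact fun x hx => mem_centralizer_iff.2 fun v hv => (h.comm_Q x hx.2 v hv).symm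
  have hB'Q : B' ≤ o2 H := (le_inf (h.fam.le B' hB') hB'V).trans h.QC
  rw [hc.2]
  intro y hy
  obtain ⟨hyX, hyc⟩ := mem_Y0.1 hy
  refine ⟨hyX, mem_centralizer_iff.2 fun a ha => ?_⟩
  have h1 : B' ⊔ centralizer (X : Set G) ≤ centralizer {y} := by
    refine sup_le (fun b hb => ?_) (fun c hc => ?_)
    · rw [mem_centralizer_singleton_iff]
      exact hyc B' hB' hB'Q b hb
    · rw [mem_centralizer_singleton_iff]
      exact (mem_centralizer_iff.1 hc y hyX).symm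
  rw [e] at h1
  exact mem_centralizer_singleton_iff.1 (h1 (mem_sup_left ha))

/-- `[a, y] = [a, v]`, `v ∈ V`. -/
theorem Y0_comm {A : Subgroup G} (hA : A ∈ AA) {y : G} (hy : y ∈ Y0 H X AA) :
    ∃ v ∈ zl T H, ∀ a ∈ A, a * y * a⁻¹ * y⁻¹ = a * v * a⁻¹ * v⁻¹ := by
  obtain ⟨v, hv, x, hx, rfl⟩ := mem_sup_comm (A := zl T H) (B := X ⊓ centralizer (A : Set G))
    (fun v hv x hx => h.Xc v (h.VX hv) x hx.1) (h.Y0_le hA hy)
  refine ⟨v, hv, fun a ha => ?_⟩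
  have h1 : a * x = x * a := mem_centralizer_iff.1 hx.2 a ha
  calc a * (v * x) * a⁻¹ * (v * x)⁻¹ = a * v * (x * a⁻¹) * x⁻¹ * v⁻¹ := by group
    _ = a * v * (a⁻¹ * (a * x) * a⁻¹) * x⁻¹ * v⁻¹ := by group
    _ = a * v * (a⁻¹ * (x * a) * a⁻¹) * x⁻¹ * v⁻¹ := by rw [h1]
    _ = _ := by group

/-- the centraliser of the family is in `Y0` -/
theorem mem_Y0_of {y : G} (hy : y ∈ X) (hc : ∀ A ∈ AA, ∀ a ∈ A, a * y = y * a) : y ∈ Y0 H X AA :=
  mem_Y0.2 ⟨hy, fun A hA _ a ha => hc A hA a ha⟩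

/-- members of the family outside `O₂(H)` are offenders -/
theorem offM {A : Subgroup G} (hA : A ∈ AA) (hAQ : ¬ A ≤ o2 H) : OffM (zl T H) A :=
  { toElemM := elemM_mono (h.fam.elem A hA) h.VX le_rfl
    ne := fun h1 => hAQ ((le_inf (h.fam.le A hA) h1).trans h.QC)
    le := h.fam.off h.Xc h.VX hA }

end GE

/-- **The instance at a level.** -/
theorem GE.of_lev {K : Subgroup G} (hT : Syl T H) (hP : IsMinPar T H)
    (hc : H ⊓ centralizer (o2 H : Set G) ≤ o2 H) (hZ : ¬ H ≤ centralizer (zc T : Set G)) (hL : Lev T K)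
    (hK : K ≤ o2 H) (hno : NoOverM (zl T H) H) : GE T H (zc K) (BO T K) where
  hm := SQ1.FFOne.minH_of hT hP hc
  fam := by
    rw [bo_eq]
    exact bo_fam T (zc K)
  elem := zc_elem K
  norm := (hL.le_norm_of_o2 hK (o2_le_syl hT)).trans (NO3S.Level.normalizer_le_zc K)
  VX := (MinSimple.VModule.zl_le_zc hT.1 hT.2.1 (syl_not_dvd hT) hc).trans (hL.zc_o2_le hK (o2_le_syl hT))
  QC := BlkGen.inf_cent hT hP hZ
  noOver := hno

/-- `Ω₁Z(nxt T K) = C_{Ω₁Z(K)}(BO T K)` -/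
theorem zc_nxt {K : Subgroup G} (hL : Lev T K) {x : G} : x ∈ zc (nxt T K) ↔ x ∈ zc K ∧ ∀ A ∈ BO T K, ∀ a ∈ A,
    a * x = x * a := by
  have hKn : K ≤ nxt T K := NO3S.Level.le_nxt hL.le
  constructor
  · intro hx
    exact ⟨hL.zc_le_zc hKn (NO3S.Level.nxt_le _ _) hx, fun A hA a ha =>
      (ChoiceBase.mem_zc.1 hx).2.2 a (NO3S.Level.BO.le_nxt hA ha)⟩
  · rintro ⟨hx, hxA⟩
    refine ChoiceBase.mem_zc.2 ⟨hKn (ChoiceBase.mem_zc.1 hx).1, (ChoiceBase.mem_zc.1 hx).2.1, ?_⟩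
    have h1 : nxt T K ≤ centralizer {x} := by
      refine sup_le (fun c hc => ?_) (sSup_le fun A hA c hc => ?_)
      · rw [mem_centralizer_singleton_iff]
        exact (mem_centralizer_iff.1 hc.2 x hx).symm
      · rw [mem_centralizer_singleton_iff]
        exact hxA A hA c hc
    exact fun y hy => mem_centralizer_singleton_iff.1 (h1 hy)

/-- a best offender of `T` on `Ω₁Z(K)` outside `O₂(H)`, if `nxt T K ≰ O₂(H)` -/
theorem GE.exists_BO {K : Subgroup G} (h : GE T H (zc K) (BO T K)) (hn : ¬ nxt T K ≤ o2 H) :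
    ∃ A ∈ BO T K, ¬ A ≤ o2 H := by
  by_contra hcon
  push Not at hcon
  refine hn (sup_le ?_ (sSup_le hcon))
  exact le_trans (inf_le_inf_left _ (centralizer_le h.VX)) h.QC

/-- The hypotheses on the pair `(B, ZJ)` for a family `AA` of `T` on `X`. -/
structure BZ (T X : Subgroup G) (AA : Set (Subgroup G)) (B ZJ : Subgroup G) : Prop where
  mem_ZJ : ∀ z, z ∈ ZJ ↔ z ∈ X ∧ ∀ A ∈ AA, ∀ a ∈ A, a * z = z * a
  eqB : B = T ⊓ centralizer (ZJ : Set G)
  zcB : zc B = ZJ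
  wn : ∀ R : Subgroup G, IsPGroup 2 R → B ≤ R → R ≤ normalizer (B : Set G)
  sylB : ∀ R : Subgroup G, IsPGroup 2 R → B ≤ R → R ≤ centralizer (ZJ : Set G) → R = B

namespace BZ

omit [Finite G] in
theorem BT {B ZJ : Subgroup G} (b : BZ T X AA B ZJ) : B ≤ T := b.eqB.le.trans inf_le_left

omit [Finite G] in
theorem cB {B ZJ : Subgroup G} (b : BZ T X AA B ZJ) {x z : G} (hx : x ∈ B) (hz : z ∈ ZJ) : x * z = z * x :=
  (mem_centralizer_iff.1 (b.eqB.le hx).2 z hz).symm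

omit [Finite G] in
theorem mem_B {B ZJ : Subgroup G} (b : BZ T X AA B ZJ) {x : G} (hx : x ∈ T) (hc : ∀ z ∈ ZJ, x * z = z * x) :
    x ∈ B := by
  rw [b.eqB]
  exact ⟨hx, mem_centralizer_iff.2 fun z hz => (hc z hz).symm⟩

omit [Finite G] in
theorem A_le {B ZJ : Subgroup G} (b : BZ T X AA B ZJ) {A : Subgroup G} (hA : A ∈ AA) (hAT : A ≤ T) : A ≤ B :=
  fun a ha => b.mem_B (hAT ha) fun z hz => ((b.mem_ZJ z).1 hz).2 A hA a ha

end BZ

end Cfsg.Agent.Omega.OM.GLev
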