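import Cfsg.Agent.Omega.OM.Lev.FixXQ
import Cfsg.Agent.Omega.OM.FixLem
import Cfsg.Agent.Omega.NO3S.EThree.FrameGB

/-!
# hU (bb OMEGA #22723 (A), #22160), every `q`, every `k ≥ 2`: the core over `Bg`

* `norm_inf` : `T ∩ N` is normal in the minimal parabolic `R` over `T` if `N ⊴ R`, `R ≠ N T`; `gen_cj` : `R = ⟨T^R⟩`;
* `T_norm` : a 2-group over `B` which centralises all `Z l`, `l ≠ j`, normalises all `Z l`, `W l`;
* `cent_y` : a 2-element of `N_G(B)` which centralises `Z i` centralises `W i / Z i`;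
* `fusV` : **(0.2)** an element of `V` conjugate into `W i` lies in some `W m`;
* `core` : `B ≤ T ≤ R = ⟨T^R⟩`, `R` centralises the `Z l`, `l ≠ j`, and normalises `T ∩ C(W j)`, `(W i)^R ≤ V` for `i ≠ j`:
  then `R` normalises `W i` and centralises `W i / Z i` for `i ≠ j`.
-/

set_option autoImplicit false
set_option linter.unusedSectionVars false

namespace Cfsg.Agent.Omega.OM.HU

open Subgroup Cfsg Cfsg.Agent.ZN.ChoiceBase
open Cfsg.Agent.ZN (jj zj bau zc zl o2)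
open Cfsg.Agent.ZN.ChoiceSit (Syl exists_syl syl_conj syl_not_dvd isPGroup_o2 le_o2 le_normalizer_o2 o2_le_syl o2_le)
open Cfsg.Agent.MinSimple.MinParabolic (IsMinPar)
open Cfsg.Agent.Omega.SQ1.Bau (mem_sup_comm)
open Cfsg.Agent.Omega.OM Cfsg.Agent.Omega.OM.Uni
open Cfsg.Agent.Omega.NO3S.EThree.Frame

universe u

variable {G : Type u} [Group G]

/-! ### Minimal parabolics -/

section par

variable [Finite G] {T R : Subgroup G}

/-- `T ∩ N ⊴ R` if `N ⊴ R` and `R ≰ N T` -/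
theorem norm_inf (hR : IsMinPar T R) (hT : Syl T R) {N : Subgroup G} (hN : R ≤ normalizer (N : Set G))
    (hne : ¬ R ≤ (R ⊓ N) ⊔ T) : R ≤ normalizer ((T ⊓ N : Subgroup G) : Set G) := by
  have : Fact (Nat.Prime 2) := ⟨Nat.prime_two⟩
  have hN' : R ≤ normalizer ((R ⊓ N : Subgroup G) : Set G) := fun r hr => by
    rw [mem_normalizer_iff_cj, cj_inf, cj_eq_of_mem_normalizer (Subgroup.le_normalizer hr),
      cj_eq_of_mem_normalizer (hN hr)]
  rcases hR.sup_eq_or_inf_le hT.2.1 (syl_not_dvd hT) (N := R ⊓ N) inf_le_left hN' with h1 | h1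
  · exact absurd h1.ge hne
  · have h2 : T ⊓ N = o2 R ⊓ N := by
      apply le_antisymm
      · exact le_inf ((le_inf inf_le_left (le_inf (inf_le_left.trans hT.1) inf_le_right)).trans h1) inf_le_right
      · exact inf_le_inf_right _ (o2_le_syl hT)
    rw [h2]
    intro r hr
    rw [mem_normalizer_iff_cj, cj_inf, cj_eq_of_mem_normalizer (le_normalizer_o2 R hr),
      cj_eq_of_mem_normalizer (hN hr)]

/-- `R = ⟨T^R⟩` -/
theorem gen_cj (hR : IsMinPar T R) (hT : Syl T R) : R ≤ ⨆ r : R, cj (r : G) T := by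
  have : Fact (Nat.Prime 2) := ⟨Nat.prime_two⟩
  set N : Subgroup G := ⨆ r : R, cj (r : G) T with hN
  have hTN : T ≤ N := by
    have h1 : cj ((1 : R) : G) T ≤ N := le_iSup (fun r : R => cj (r : G) T) 1
    rwa [Subgroup.coe_one, cj_one] at h1
  have hNR : N ≤ R := iSup_le fun r => by
    rintro _ ⟨t, ht, rfl⟩
    exact mul_mem (mul_mem r.2 (hT.1 ht)) (inv_mem r.2)
  have hn : R ≤ normalizer (N : Set G) := by
    intro x hx
    refine mem_normalizer_of_cj_le ?_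
    show Subgroup.map _ N ≤ N
    rw [hN, Subgroup.map_iSup]
    refine iSup_le fun r => ?_
    show cj x (cj (r : G) T) ≤ _
    rw [cj_cj]
    exact le_iSup (fun r : R => cj (r : G) T) (⟨x, hx⟩ * r)
  rcases hR.sup_eq_or_inf_le hT.2.1 (syl_not_dvd hT) hNR hn with h1 | h1
  · rw [sup_eq_left.2 hTN] at h1
    exact h1.ge
  · rw [inf_eq_left.2 hTN] at h1
    exfalso
    apply hR.not_le
    have h2 : T = o2 R := le_antisymm h1 (o2_le_syl hT)
    rw [h2]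
    exact le_normalizer_o2 R

end par

/-! ### A 2-element fixes a coset -/

/-- a 2-element which normalises `W`, of exponent 2, fixes a coset of `Z` in `W \ Z`. -/
theorem exists_fix_coset {Z W : Subgroup G} (hc : ∀ x ∈ W, ∀ y ∈ W, x * y = y * x) (h2 : ∀ x ∈ W, x * x = 1)
    (hne : ∃ w ∈ W, w ∉ Z) : ∀ (m : ℕ) (t : G), (∀ w ∈ W, t * w * t⁻¹ ∈ W) → t ^ 2 ^ m = 1 →
      ∃ w ∈ W, w ∉ Z ∧ t * w * t⁻¹ * w⁻¹ ∈ Z := by
  intro m
  induction m with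
  | zero =>
    intro t _ ht
    rw [pow_zero, pow_one] at ht
    obtain ⟨w, hw, hwZ⟩ := hne
    refine ⟨w, hw, hwZ, ?_⟩
    rw [ht]
    simp [one_mem]
  | succ m ih =>
    intro t htW ht
    obtain ⟨w, hw, hwZ, h3⟩ := ih (t * t) (fun w hw => by
      have e : t * t * w * (t * t)⁻¹ = t * (t * w * t⁻¹) * t⁻¹ := by group
      rw [e]
      exact htW _ (htW w hw)) (by rw [← pow_two, ← pow_mul, ← pow_succ', ht])
    by_cases h4 : t * w * t⁻¹ * w⁻¹ ∈ Z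
    · exact ⟨w, hw, hwZ, h4⟩
    · refine ⟨t * w * t⁻¹ * w⁻¹, mul_mem (htW w hw) (inv_mem hw), h4, ?_⟩
      have ha := htW w hw
      have haa := h2 _ ha
      have hww := h2 _ hw
      have hb : t * (t * w * t⁻¹) * t⁻¹ ∈ W := htW _ ha
      have ea : (t * w * t⁻¹)⁻¹ = t * w * t⁻¹ := inv_eq_of_mul_eq_one_left haa
      have ew : w⁻¹ = w := inv_eq_of_mul_eq_one_left hww
      have e : t * (t * w * t⁻¹ * w⁻¹) * t⁻¹ * (t * w * t⁻¹ * w⁻¹)⁻¹ = t * t * w * (t * t)⁻¹ * w⁻¹ := by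
        calc t * (t * w * t⁻¹ * w⁻¹) * t⁻¹ * (t * w * t⁻¹ * w⁻¹)⁻¹
            = t * (t * w * t⁻¹) * t⁻¹ * (t * w * t⁻¹)⁻¹ * (w * (t * w * t⁻¹)⁻¹) := by group
          _ = t * (t * w * t⁻¹) * t⁻¹ * (t * w * t⁻¹) * (w * (t * w * t⁻¹)) := by rw [ea]
          _ = t * (t * w * t⁻¹) * t⁻¹ * (t * w * t⁻¹) * ((t * w * t⁻¹) * w) := by rw [hc w hw _ ha]
          _ = t * (t * w * t⁻¹) * t⁻¹ * ((t * w * t⁻¹) * (t * w * t⁻¹)) * w := by group
          _ = t * (t * w * t⁻¹) * t⁻¹ * w := by rw [haa, mul_one]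
          _ = t * (t * w * t⁻¹) * t⁻¹ * w⁻¹ := by rw [ew]
          _ = t * t * w * (t * t)⁻¹ * w⁻¹ := by group
      rw [e]
      exact h3

/-! ### Over `Bg` -/

section bg

variable [Finite G] {S : Sylow 2 G} {P : Subgroup G} {ι : Type} {B ZJ : Subgroup G}
  {L W Z C : ι → Subgroup G} {q : ℕ} (h : Bg S P B ZJ L W Z C q)
include h

/-- a vector of `W i` outside `Z i` -/
theorem exists_W (i : ι) : ∃ w ∈ W i, w ∉ Z i := by
  by_contra hcon
  push Not at hcon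
  have h2 := Subgroup.card_le_of_le (show W i ≤ Z i from hcon)
  rw [(h.fr.blk i).card] at h2
  have h3 := (h.fr.blk i).one
  have h4 : 0 < Nat.card (Z i) := Nat.card_pos
  nlinarith

/-- a 2-group over `B` which centralises the `Z l`, `l ≠ j`, normalises all `Z l` and all `W l` -/
theorem T_norm [Finite ι] {j : ι} {T : Subgroup G} (hT2 : IsPGroup 2 T) (hBT : B ≤ T)
    (hTZ : ∀ l, l ≠ j → T ≤ centralizer (Z l : Set G)) {t : G} (ht : t ∈ T) (l : ι) :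
    cj t (Z l) = Z l ∧ cj t (W l) = W l := by
  have hn := h.le_norm_B hT2 hBT ht
  have h1 : ∀ l, l ≠ j → cj t (Z l) = Z l := fun l hl =>
    mem_normalizer_iff_cj.1 (centralizer_le_normalizer _ (hTZ l hl ht))
  have h2 : cj t (Z l) = Z l := by
    by_cases hl : l = j
    · subst hl
      obtain ⟨m, hm, -⟩ := (h.norm hn).2 l
      by_cases hml : m = l
      · rwa [hml] at hm
      · exfalso
        have h3 := h1 m hml
        rw [← hm] at h3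
        have h4 := congrArg (cj t⁻¹) h3
        rw [cj_inv_cj, cj_inv_cj] at h4
        exact hml (h.Z_inj (hm.symm.trans h4))
    · exact h1 l hl
  exact ⟨h2, h.cj_W hn h2⟩

/-- a 2-element of `N_G(B)` which centralises `Z i` centralises `W i / Z i`. -/
theorem cent_y [Finite ι] {i : ι} {T : Subgroup G} (hT2 : IsPGroup 2 T) (hBT : B ≤ T)
    (hTZ : T ≤ centralizer (Z i : Set G)) {t : G} (ht : t ∈ T) {w : G} (hw : w ∈ W i) :
    t * w * t⁻¹ * w⁻¹ ∈ Z i := by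
  have hb := h.fr.blk i
  have hn := h.le_norm_B hT2 hBT ht
  have hnB : ∀ b ∈ B, t * b * t⁻¹ ∈ B := fun b hb => (mem_normalizer_iff.1 hn b).1 hb
  have hnB' : ∀ b ∈ B, t⁻¹ * b * t ∈ B := fun b hb => (mem_normalizer_iff''.1 hn b).1 hb
  have htz : ∀ z ∈ Z i, t * z = z * t := fun z hz => (mem_centralizer_iff.1 (hTZ ht) z hz).symm
  have htz' : ∀ z ∈ Z i, t * z * t⁻¹ = z := fun z hz => by rw [htz z hz]; group
  have htZ : cj t (Z i) = Z i := mem_normalizer_iff_cj.1 (centralizer_le_normalizer _ (hTZ ht))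
  have htW : cj t (W i) = W i := h.cj_W hn htZ
  have htW' : ∀ w ∈ W i, t * w * t⁻¹ ∈ W i := fun w hw => htW ▸ ⟨w, hw, rfl⟩
  have hWc : ∀ x ∈ W i, ∀ y ∈ W i, x * y = y * x := fun x hx y hy => hb.comm hx hy
  obtain ⟨m, hm⟩ : ∃ m : ℕ, t ^ 2 ^ m = 1 := by
    obtain ⟨m, hm⟩ := hT2 ⟨t, ht⟩
    exact ⟨m, by have := congrArg Subtype.val hm; simpa using this⟩
  obtain ⟨w₀, hw₀, hw₀Z, h0⟩ := exists_fix_coset (Z := Z i) (W := W i) hWc
    (fun x hx => by rw [← pow_two]; exact SQ1.Bau.elem_sq hb.el x hx) (exists_W h i) m t htW' hm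
  -- `t` acts trivially on `B / C_B(W i)`
  have key : ∀ b ∈ B, ∀ u ∈ W i, (t * b * t⁻¹) * u * (t * b * t⁻¹)⁻¹ = b * u * b⁻¹ := by
    intro b hbB u hu
    set b' := t * b * t⁻¹ with hb'
    have hb'B : b' ∈ B := hnB b hbB
    set z := t * w₀ * t⁻¹ * w₀⁻¹ with hz
    have e1 : t * w₀ * t⁻¹ = z * w₀ := by rw [hz]; group
    have h3 : b * w₀ * b⁻¹ * w₀⁻¹ ∈ Z i := hb.com b hbB w₀ hw₀
    have h4 : b' * (t * w₀ * t⁻¹) * b'⁻¹ * (t * w₀ * t⁻¹)⁻¹ = b * w₀ * b⁻¹ * w₀⁻¹ := by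
      calc b' * (t * w₀ * t⁻¹) * b'⁻¹ * (t * w₀ * t⁻¹)⁻¹ = t * (b * w₀ * b⁻¹ * w₀⁻¹) * t⁻¹ := by rw [hb']; group
        _ = _ := htz' _ h3
    have h5 : b' * w₀ * b'⁻¹ * w₀⁻¹ = b * w₀ * b⁻¹ * w₀⁻¹ := by
      rw [← h4, e1]
      have h6 : b' * z = z * b' := hb.cZ b' hb'B z h0
      have h7 := hb.com b' hb'B w₀ hw₀
      have h8 : z * (b' * w₀ * b'⁻¹ * w₀⁻¹) = (b' * w₀ * b'⁻¹ * w₀⁻¹) * z :=
        hb.comm (hb.ZV h0) (hb.ZV h7)
      calc b' * w₀ * b'⁻¹ * w₀⁻¹ = (b' * w₀ * b'⁻¹ * w₀⁻¹) * z * z⁻¹ := by group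
        _ = z * (b' * w₀ * b'⁻¹ * w₀⁻¹) * z⁻¹ := by rw [h8]
        _ = (z * b') * w₀ * b'⁻¹ * w₀⁻¹ * z⁻¹ := by group
        _ = (b' * z) * w₀ * b'⁻¹ * w₀⁻¹ * z⁻¹ := by rw [h6]
        _ = b' * (z * w₀) * b'⁻¹ * (z * w₀)⁻¹ := by group
    have h6 : b' * w₀ * b'⁻¹ = b * w₀ * b⁻¹ := mul_right_cancel h5
    have h7 : (b⁻¹ * b') * w₀ = w₀ * (b⁻¹ * b') := by
      calc (b⁻¹ * b') * w₀ = b⁻¹ * (b' * w₀ * b'⁻¹) * b' := by group
        _ = b⁻¹ * (b * w₀ * b⁻¹) * b' := by rw [h6]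
        _ = w₀ * (b⁻¹ * b') := by group
    have h8 := hb.free (b⁻¹ * b') (mul_mem (inv_mem hbB) hb'B) w₀ hw₀ hw₀Z h7 u hu
    calc b' * u * b'⁻¹ = b * ((b⁻¹ * b') * u) * b'⁻¹ := by group
      _ = b * (u * (b⁻¹ * b')) * b'⁻¹ := by rw [h8]
      _ = b * u * b⁻¹ := by group
  set v := t * w * t⁻¹ with hv
  have hvW : v ∈ W i := htW' w hw
  have h1 : ∀ b ∈ B, b * v * b⁻¹ * v⁻¹ = b * w * b⁻¹ * w⁻¹ := by
    intro b hbB
    set b₁ := t⁻¹ * b * t with hb₁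
    have hb₁B : b₁ ∈ B := hnB' b hbB
    have e1 : t * b₁ * t⁻¹ = b := by rw [hb₁]; group
    have h3 := hb.com b₁ hb₁B w hw
    have h4 := key b₁ hb₁B w hw
    rw [e1] at h4
    calc b * v * b⁻¹ * v⁻¹ = t * (b₁ * w * b₁⁻¹ * w⁻¹) * t⁻¹ := by rw [hv, hb₁]; group
      _ = b₁ * w * b₁⁻¹ * w⁻¹ := htz' _ h3
      _ = b * w * b⁻¹ * w⁻¹ := by rw [h4]
  have h2 := h.eq_mod (h.fr.WV i hvW) (h.fr.WV i hw) h1
  have h3 : w⁻¹ * v ∈ Z i := hb.toMd.mem_Z_iff.2 ⟨mul_mem (inv_mem hw) hvW, ((h.fr.mem_ZJ _).1 h2).2⟩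
  rwa [hWc _ (inv_mem hw) _ hvW] at h3

/-- an element of `V` all whose components lie in the `Z m` lies in `ZJ` -/
theorem mem_ZJ_of {v : G} (hv : v ∈ zl (S : Subgroup G) P)
    (hz : ∀ m, ∃ z ∈ Z m, ∃ c ∈ C m, v = z * c) : v ∈ ZJ := by
  refine (h.fr.mem_ZJ v).2 ⟨hv, fun b hb => ?_⟩
  have hbV : b * v * b⁻¹ ∈ zl (S : Subgroup G) P := (mem_normalizer_iff.1 (h.bau_norm hb) v).1 hv
  have h1 : b * v * b⁻¹ * v⁻¹ = 1 := by
    refine h.fr.C0 _ (mul_mem hbV (inv_mem hv)) fun m => ?_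
    obtain ⟨z, hz, c, hc, e⟩ := hz m
    have hbc := h.fr.BC m b hb c hc
    have hbz := (h.fr.blk m).cZ b hb z hz
    have e2 : z * (b * c * b⁻¹ * c⁻¹) = (b * c * b⁻¹ * c⁻¹) * z :=
      h.fr.Vc (h.fr.ZV m hz) (h.fr.CV m (mul_mem hbc (inv_mem hc)))
    have e3 : b * v * b⁻¹ * v⁻¹ = b * c * b⁻¹ * c⁻¹ := by
      rw [e]
      calc b * (z * c) * b⁻¹ * (z * c)⁻¹ = (b * z) * c * b⁻¹ * c⁻¹ * z⁻¹ := by group
        _ = (z * b) * c * b⁻¹ * c⁻¹ * z⁻¹ := by rw [hbz]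
        _ = z * (b * c * b⁻¹ * c⁻¹) * z⁻¹ := by group
        _ = b * c * b⁻¹ * c⁻¹ := by rw [e2]; group
    rw [e3]
    exact mul_mem hbc (inv_mem hc)
  exact mul_inv_eq_iff_eq_mul.1 (mul_inv_eq_one.1 h1)

/-- every element of `V` is conjugate into `ZJ` by an element of `P` fixing all `W m` -/
theorem exists_ZJ [Finite ι] {v : G} (hv : v ∈ zl (S : Subgroup G) P) :
    ∃ p ∈ P, (∀ m, cj p (W m) = W m) ∧ p * v * p⁻¹ ∈ ZJ := by
  classical
  have : Fintype ι := Fintype.ofFinite ι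
  have hPV : ∀ p ∈ P, ∀ v ∈ zl (S : Subgroup G) P, p * v * p⁻¹ ∈ zl (S : Subgroup G) P := fun p hp v hv =>
    (mem_normalizer_iff.1 (MinSimple.VModule.le_normalizer_zl _ P hp) v).1 hv
  have key : ∀ s : Finset ι, ∃ p ∈ P, (∀ m, cj p (W m) = W m) ∧
      ∀ m ∈ s, ∃ z ∈ Z m, ∃ c ∈ C m, p * v * p⁻¹ = z * c := by
    intro s
    induction s using Finset.induction_on with
    | empty => exact ⟨1, one_mem _, fun m => cj_one _, by simp⟩
    | insert i s hi ih =>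
      obtain ⟨p, hp, hpW, h1⟩ := ih
      obtain ⟨a, ha, c, hc, e⟩ := h.fr.WC i _ (hPV p hp v hv)
      by_cases ha1 : a = 1
      · refine ⟨p, hp, hpW, fun m hm => ?_⟩
        rcases Finset.mem_insert.1 hm with rfl | hm
        · exact ⟨1, one_mem _, c, hc, by rw [e, ha1]⟩
        · exact h1 m hm
      · obtain ⟨l, hl, hlC, z, hz, e1⟩ := h.tr i a ha ha1
        have e2 : l⁻¹ * a * l = z := by rw [← e1]; group
        have hlc : l⁻¹ * c * l = c := by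
          have := mem_centralizer_iff.1 hlC c hc
          calc l⁻¹ * c * l = l⁻¹ * (c * l) := by group
            _ = l⁻¹ * (l * c) := by rw [this]
            _ = c := by group
        have e3 : l⁻¹ * p * v * (l⁻¹ * p)⁻¹ = z * c := by
          calc l⁻¹ * p * v * (l⁻¹ * p)⁻¹ = l⁻¹ * (p * v * p⁻¹) * l := by group
            _ = (l⁻¹ * a * l) * (l⁻¹ * c * l) := by rw [e]; group
            _ = z * c := by rw [e2, hlc]
        refine ⟨l⁻¹ * p, mul_mem (inv_mem hl) hp, fun m => ?_, fun m hm => ?_⟩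
        · rw [← cj_cj, hpW m]
          exact h.fix (inv_mem hl) (inv_mem hlC) m
        · rcases Finset.mem_insert.1 hm with rfl | hm
          · exact ⟨z, hz, c, hc, e3⟩
          · have hmi : m ≠ i := fun e => hi (e ▸ hm)
            obtain ⟨z', hz', c', hc', e'⟩ := h1 m hm
            have hza : z * a⁻¹ ∈ C m := h.fr.WjC m i hmi (mul_mem ((h.fr.blk i).ZV hz) (inv_mem ha))
            refine ⟨z', hz', (z * a⁻¹) * c', mul_mem hza hc', ?_⟩
            have h5 : z' * (z * a⁻¹) = (z * a⁻¹) * z' := h.fr.Vc (h.fr.ZV m hz') (h.fr.CV m hza)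
            rw [e3]
            calc z * c = (z * a⁻¹) * (a * c) := by group
              _ = (z * a⁻¹) * (z' * c') := by rw [← e, e']
              _ = ((z * a⁻¹) * z') * c' := by group
              _ = z' * ((z * a⁻¹) * c') := by rw [← h5]; group
  obtain ⟨p, hp, hpW, h1⟩ := key Finset.univ
  exact ⟨p, hp, hpW, mem_ZJ_of h (hPV p hp v hv) fun m => h1 m (Finset.mem_univ m)⟩

/-- **(0.2)** An element of `V` conjugate into `W i` lies in some `W m`. -/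
theorem fusV [Finite ι] {i : ι} {v g : G} (hv : v ∈ zl (S : Subgroup G) P) (hg : g⁻¹ * v * g ∈ W i) :
    ∃ m, v ∈ W m := by
  by_cases hv1 : v = 1
  · exact ⟨i, by rw [hv1]; exact one_mem _⟩
  obtain ⟨p, hp, hpW, hpJ⟩ := exists_ZJ h hv
  obtain ⟨l, -, -, z, hz, e⟩ := h.tr i _ hg (fun e => hv1 (by
    have : v = g * (g⁻¹ * v * g) * g⁻¹ := by group
    rw [this, e]; group))
  have h1 : (p * (g * l))⁻¹ * (p * v * p⁻¹) * (p * (g * l)) = z := by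
    calc (p * (g * l))⁻¹ * (p * v * p⁻¹) * (p * (g * l)) = l⁻¹ * (g⁻¹ * v * g) * l := by group
      _ = l⁻¹ * (l * z * l⁻¹) * l := by rw [e]
      _ = z := by group
  obtain ⟨m, hm⟩ := h.fus (i := i) hpJ (g := p * (g * l)) (by rw [h1]; exact hz)
  refine ⟨m, ?_⟩
  have h2 : p * v * p⁻¹ ∈ cj p (W m) := by rw [hpW m]; exact (h.fr.blk m).ZV hm
  rw [mem_cj] at h2
  have e2 : p⁻¹ * (p * v * p⁻¹) * p = v := by group
  rwa [e2] at h2

/-- **hU, the core.** -/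
theorem core [Finite ι] {j : ι} {T R : Subgroup G} (hT2 : IsPGroup 2 T) (hBT : B ≤ T) (hTR : T ≤ R)
    (hgen : R ≤ ⨆ r : R, cj (r : G) T) (hRZ : ∀ l, l ≠ j → R ≤ centralizer (Z l : Set G))
    (hT0 : R ≤ normalizer ((T ⊓ centralizer (W j : Set G) : Subgroup G) : Set G)) {i : ι} (hij : i ≠ j)
    (hfix : ∀ r ∈ R, ∀ w ∈ W i, r * w * r⁻¹ ∈ zl (S : Subgroup G) P) :
    ∀ r ∈ R, ∀ w ∈ W i, r * w * r⁻¹ * w⁻¹ ∈ Z i := by
  have hRz : ∀ r ∈ R, ∀ z ∈ Z i, r * z * r⁻¹ = z := fun r hr z hz => by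
    have := mem_centralizer_iff.1 (hRZ i hij hr) z hz
    rw [← this]; group
  have hTy : ∀ t ∈ T, ∀ w ∈ W i, t * w * t⁻¹ * w⁻¹ ∈ Z i := fun t ht w hw =>
    cent_y h hT2 hBT (hTR.trans (hRZ i hij)) ht hw
  -- `W i` is normalised by `R`
  have hW : ∀ r ∈ R, ∀ w ∈ W i, r * w * r⁻¹ ∈ W i := by
    intro r hr w hw
    by_cases hwZ : w ∈ Z i
    · rw [hRz r hr w hwZ]; exact hw
    obtain ⟨m, hm⟩ := fusV h (hfix r hr w hw) (i := i) (g := r) (by
      have : r⁻¹ * (r * w * r⁻¹) * r = w := by group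
      rw [this]; exact hw)
    by_cases hmi : m = i
    · rwa [hmi] at hm
    exfalso
    -- `T₀` centralises `w^r`, so `w`
    have h1 : ∀ t ∈ T ⊓ centralizer (W j : Set G), t * (r * w * r⁻¹) = (r * w * r⁻¹) * t := by
      intro t ht
      have ht' : r⁻¹ * t * r ∈ T ⊓ centralizer (W j : Set G) := (mem_normalizer_iff''.1 (hT0 hr) t).1 ht
      have h2 := hTy _ ht'.1 w hw
      have h3 : t * (r * w * r⁻¹) * t⁻¹ * (r * w * r⁻¹)⁻¹ ∈ Z i := by
        have e : t * (r * w * r⁻¹) * t⁻¹ * (r * w * r⁻¹)⁻¹ =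
            r * (r⁻¹ * t * r * w * (r⁻¹ * t * r)⁻¹ * w⁻¹) * r⁻¹ := by group
        rw [e, hRz r hr _ h2]
        exact h2
      have htm := (T_norm h hT2 hBT (fun l hl => hTR.trans (hRZ l hl)) ht.1 m).2
      have h4 : t * (r * w * r⁻¹) * t⁻¹ * (r * w * r⁻¹)⁻¹ ∈ W m := by
        refine mul_mem ?_ (inv_mem hm)
        rw [← htm]
        exact ⟨_, hm, rfl⟩
      have h5 : t * (r * w * r⁻¹) * t⁻¹ * (r * w * r⁻¹)⁻¹ ∈ W i ⊓ W m := ⟨(h.fr.blk i).ZV h3, h4⟩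
      rw [h.W_disj (Ne.symm hmi), mem_bot] at h5
      exact mul_inv_eq_iff_eq_mul.1 (mul_inv_eq_one.1 h5)
    obtain ⟨z, hz, hz1⟩ : ∃ z ∈ Z i, z ≠ 1 := by
      by_contra hcon
      push Not at hcon
      exact h.Z_ne i ((eq_bot_iff).2 fun z hz => mem_bot.2 (hcon z hz))
    obtain ⟨b, hb, hbC, e⟩ := h.root i w hw hwZ z hz
    have hbT : b ∈ T ⊓ centralizer (W j : Set G) :=
      ⟨hBT hb, centralizer_le (by exact_mod_cast h.fr.WjC i j hij) hbC⟩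
    have hbT' : r * b * r⁻¹ ∈ T ⊓ centralizer (W j : Set G) := (mem_normalizer_iff.1 (hT0 hr) b).1 hbT
    have h6 := h1 _ hbT'
    have h7 : b * w = w * b := by
      have := congrArg (fun x => r⁻¹ * x * r) h6
      simpa [mul_assoc] using this
    apply hz1
    rw [← e, h7]; group
  -- `R` is trivial on `W i / Z i`
  let K : Subgroup G :=
    { carrier := {r | r ∈ R ∧ ∀ w ∈ W i, r * w * r⁻¹ * w⁻¹ ∈ Z i}
      one_mem' := ⟨one_mem _, fun w _ => by simp [one_mem]⟩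
      mul_mem' := by
        rintro a b ⟨ha, ha'⟩ ⟨hb, hb'⟩
        refine ⟨R.mul_mem ha hb, fun w hw => ?_⟩
        have e : a * b * w * (a * b)⁻¹ * w⁻¹ = a * (b * w * b⁻¹) * a⁻¹ * (b * w * b⁻¹)⁻¹ * (b * w * b⁻¹ * w⁻¹) := by
          group
        rw [e]
        exact mul_mem (ha' _ (hW b hb w hw)) (hb' w hw)
      inv_mem' := by
        rintro a ⟨ha, ha'⟩
        refine ⟨R.inv_mem ha, fun w hw => ?_⟩
        have h1 := hW a⁻¹ (inv_mem ha) w hw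
        rw [inv_inv] at h1
        have h2 := inv_mem (ha' _ h1)
        have e : (a * (a⁻¹ * w * a) * a⁻¹ * (a⁻¹ * w * a)⁻¹)⁻¹ = a⁻¹ * w * a⁻¹⁻¹ * w⁻¹ := by group
        rwa [e] at h2 }
  have hle : R ≤ K := by
    refine hgen.trans (iSup_le fun r => ?_)
    rintro _ ⟨t, ht, rfl⟩
    refine ⟨mul_mem (mul_mem r.2 (hTR ht)) (inv_mem r.2), fun w hw => ?_⟩
    have h1 := hW (r : G)⁻¹ (inv_mem r.2) w hw
    rw [inv_inv] at h1
    have h2 := hTy t ht _ h1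
    change (r : G) * t * (r : G)⁻¹ * w * ((r : G) * t * (r : G)⁻¹)⁻¹ * w⁻¹ ∈ Z i
    have e : (r : G) * t * (r : G)⁻¹ * w * ((r : G) * t * (r : G)⁻¹)⁻¹ * w⁻¹ =
        (r : G) * (t * ((r : G)⁻¹ * w * r) * t⁻¹ * ((r : G)⁻¹ * w * r)⁻¹) * (r : G)⁻¹ := by group
    rw [e, hRz r r.2 _ h2]
    exact h2
  exact fun r hr w hw => (hle hr).2 w hw

end bg

end Cfsg.Agent.Omega.OM.HU
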