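import Cfsg.Agent.Omega.OM.Lev.Nat
import Cfsg.Agent.Omega.NO3S.OneLine.LevK
import Cfsg.Agent.Omega.NO3S.OneLine.LevKNat

/-!
# Best offenders for a general pair `(T, H)` at a level

`T` a Sylow 2-subgroup of the minimal parabolic `H`, `X` normal in `H`, `V_H ≤ X`, `AA` a family of best offenders of
`T` on `X`, no over-offender on `V_H`, a member outside `O₂(H)` (no hypothesis on `C_Z(H)`: `C_V(O²(H))` may be
`≠ 1`, and `C_X(AA)` need not lie in `V_H`).

* `GEx.exact`, `GEx.cut`, `GEx.Y_le`, `GEx.comm_eq` : as for `OneLine.Exa`;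
* `GEx.Y0` : `Y₀ = C_X({A ∈ AA | A ≤ O₂(H)})`, invariant under `H`;
* `GEx.split_card` : a factor of a best offender;
* `NatC.cent_N`, `NatC.act1` : copied from `SQ1/FFKNat.lean`; `NatC.kern_le` : `2`-elements acting trivially on `V / D`;
* `GEx.exists_one` : for every summand a member of `AA` which acts exactly as the root group of this summand;
* `GEx.mem_ZJ` : `V ∩ C_X(AA)` is the product of the lines.
-/

set_option autoImplicit false
set_option linter.unusedSectionVars false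
set_option linter.unusedVariables false

namespace Cfsg.Agent.Omega.OM.Lev

open Subgroup Cfsg Cfsg.Agent.PLocal.ThompsonJ Cfsg.Agent.ZN Cfsg.Agent.ZN.ChoiceBase
open Cfsg.Agent.ZN.ChoiceSit
open Cfsg.Agent.Omega.NatPair (ap ap_zero' ap_one' ap_one ap_mul ext2)
open Cfsg.Agent.Lib.SL2Mat
open Cfsg.Agent.PLocal.ElemAbSup
open Cfsg.Agent.Omega.SQ1.FFOne (MinH mem_norm_of conj_mem_of_norm)
open Cfsg.Agent.Omega.SQ1.Bau (elem_comm elem_sq mem_sup_comm card_sup_comm mem_sup_norm)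
open Cfsg.Agent.Omega.FFThm (NatK ActsSL Off OffM NatKM ElemM NoOverM)
open Cfsg.Agent.Omega.FrameFF (cv)
open Cfsg.Agent.Omega.NO3S.OneLine (NatC natC_of BFam elemM_mono mem_cent_sSup single_acts conj_mem)
open scoped Pointwise commutatorElement

universe u

variable {G : Type u} [Group G]

/-! ### `NatC` -/

namespace NatC'

variable {F : Type} [Field F] {T H V D : Subgroup G} {k : ℕ} (M : NatC F T H V D k)

/-- Elements of `H` inducing `A ∈ SL₂(F)^k`, `A i = 1`, centralise the preimage of the `i`-th summand. -/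
theorem cent_N [Finite G] [CharP F 2] (hm : MinH H T) {h : G} (hh : h ∈ H)
    {A : Fin k → Matrix.SpecialLinearGroup (Fin 2) F} (hA : M.Acts h A)
    (hD : ∀ d ∈ D, h * d = d * h) {i : Fin k} (hi : A i = 1) {n : G} (hn : n ∈ V)
    (hn0 : ∀ j, j ≠ i → M.nat.e n j = 0) : h * n = n * h := by
  classical
  have hneg : (-1 : F) = 1 := CharTwo.neg_eq 1
  set B0 : Matrix.SpecialLinearGroup (Fin 2) F :=
    Cfsg.Agent.Lib.SL2Mat.mk 0 1 1 1 (by rw [zero_mul, one_mul, zero_sub]; exact hneg) with hB0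
  set U : Fin k → Matrix.SpecialLinearGroup (Fin 2) F := Function.update 1 i B0 with hU
  obtain ⟨g, hg, hgA, hgD⟩ := M.nat.lift U
  have hgA' : M.Acts g U := hgA
  -- the commutator centralises `V`
  set x := g * h * g⁻¹ * h⁻¹ with hx
  have hxs : x ∈ M.stab := by
    refine ⟨mul_mem (mul_mem (mul_mem hg hh) (inv_mem hg)) (inv_mem hh), ?_, fun d hd => ?_⟩
    · have h1 := NatC.acts_mul (inv_mem hh) (NatC.acts_mul (inv_mem hg) (NatC.acts_mul hh hgA' hA)
        (NatC.acts_inv hg hgA')) (NatC.acts_inv hh hA)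
      have e : U * A * U⁻¹ * A⁻¹ = 1 := by
        funext j
        show U j * A j * (U j)⁻¹ * (A j)⁻¹ = 1
        by_cases hj : j = i
        · rw [hj, hi]
          group
        · have : U j = 1 := by rw [hU, Function.update_of_ne hj]; rfl
          rw [this]
          group
      rwa [e] at h1
    · have e1 : Commute g d := hgD d hd
      have e2 : Commute h d := hD d hd
      exact (((e1.mul_left e2).mul_left e1.inv_left).mul_left e2.inv_left).eq
  have hxc : ∀ v ∈ V, x * v = v * x := fun v hv => M.cent_of_stab hm hxs hv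
  -- choose `v`
  set y : Fin k → Fin 2 → F := Function.update 0 i ![M.nat.e n i 1, M.nat.e n i 0 + M.nat.e n i 1]
    with hy
  obtain ⟨v, hv, hev⟩ := M.nat.surj y
  have hgv := M.Vn g hg v hv
  have hhv := M.Vn h hh v hv
  -- `δ(v)`
  set δ := h * v * h⁻¹ * v⁻¹ with hδ
  have hδD : δ ∈ D := by
    rw [← M.nat.ker _ (mul_mem hhv (inv_mem hv)), M.map_div hhv hv]
    funext j
    rw [Pi.sub_apply, hA v hv j, hev]
    by_cases hj : j = i
    · subst hj
      rw [hi, ap_one, sub_self]; rfl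
    · have : y j = 0 := by rw [hy, Function.update_of_ne hj]; rfl
      rw [this]
      have e0 : ap (A j) 0 = 0 := by apply ext2 <;> simp [ap_zero', ap_one']
      rw [e0, sub_self]; rfl
  have e1 : h * (g * v * g⁻¹) * h⁻¹ = δ * (g * v * g⁻¹) := by
    have e2 : h * (g * v * g⁻¹) * h⁻¹ = x⁻¹ * (g * (h * v * h⁻¹) * g⁻¹) * x := by
      rw [hx]; group
    have e3 : h * v * h⁻¹ = δ * v := by rw [hδ]; group
    have h4 : g * (h * v * h⁻¹) * g⁻¹ ∈ V := M.Vn g hg _ hhv
    have e5 : x⁻¹ * (g * (h * v * h⁻¹) * g⁻¹) * x = g * (h * v * h⁻¹) * g⁻¹ := by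
      rw [mul_assoc, ← hxc _ h4, inv_mul_cancel_left]
    rw [e2, e5, e3]
    have e6 : g * (δ * v) * g⁻¹ = (g * δ * g⁻¹) * (g * v * g⁻¹) := by group
    rw [e6, hgD δ hδD, mul_inv_cancel_right]
  -- `h` commutes with `g v g⁻¹ v⁻¹`
  set c := g * v * g⁻¹ * v⁻¹ with hc
  have hcV : c ∈ V := mul_mem hgv (inv_mem hv)
  have h6 : h * c * h⁻¹ = c := by
    have e7 : h * c * h⁻¹ = (h * (g * v * g⁻¹) * h⁻¹) * (h * v * h⁻¹)⁻¹ := by rw [hc]; group
    have e3 : h * v * h⁻¹ = δ * v := by rw [hδ]; group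
    rw [e7, e1, e3, mul_inv_rev]
    have e8 : δ * (g * v * g⁻¹) * (v⁻¹ * δ⁻¹) = δ * c * δ⁻¹ := by rw [hc]; group
    rw [e8, M.Vcomm (M.DV hδD) hcV, mul_inv_cancel_right]
  -- `n = c d`
  have hd : c⁻¹ * n ∈ D := by
    rw [← M.nat.ker _ (mul_mem (inv_mem hcV) hn), M.nat.mul _ (inv_mem hcV) n hn, M.map_inv hcV, hc,
      M.map_div hgv hv]
    funext j
    rw [Pi.add_apply, Pi.neg_apply, Pi.sub_apply, hgA' v hv j, hev]
    by_cases hj : j = i
    · subst hj
      rw [hU, Function.update_self]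
      have hyj : y j = ![M.nat.e n j 1, M.nat.e n j 0 + M.nat.e n j 1] := by
        rw [hy, Function.update_self]
      have hB : ∀ z : Fin 2 → F, ap B0 z = ![z 1, z 0 + z 1] := by
        intro z
        apply ext2
        · rw [ap_zero', hB0, mk_00, mk_01, zero_mul, one_mul, zero_add]; rfl
        · rw [ap_one', hB0, mk_10, mk_11, one_mul, one_mul]; rfl
      rw [hyj, hB]
      apply ext2
      · show -((M.nat.e n j 0 + M.nat.e n j 1) - M.nat.e n j 1) + M.nat.e n j 0 = 0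
        ring
      · show -((M.nat.e n j 1 + (M.nat.e n j 0 + M.nat.e n j 1)) -
          (M.nat.e n j 0 + M.nat.e n j 1)) + M.nat.e n j 1 = 0
        ring
    · rw [hU, Function.update_of_ne hj]
      have : y j = 0 := by rw [hy, Function.update_of_ne hj]; rfl
      rw [this, hn0 j hj, Pi.one_apply, ap_one]
      simp
  have e9 : n = c * (c⁻¹ * n) := by group
  have h7 : Commute h c := by
    show h * c = c * h
    calc h * c = h * c * h⁻¹ * h := by group
      _ = c * h := by rw [h6]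
  have h8 : Commute h (c⁻¹ * n) := hD _ hd
  rw [e9]
  exact (h7.mul_right h8).eq

/-- Elements of `H` inducing `A` with `A j = 1` for all `j ∈ s` centralise the elements supported on `s`. -/
theorem cent_supp [Finite G] [CharP F 2] (hm : MinH H T) {h : G} (hh : h ∈ H)
    {A : Fin k → Matrix.SpecialLinearGroup (Fin 2) F} (hA : M.Acts h A)
    (hD : ∀ d ∈ D, h * d = d * h) {s : Finset (Fin k)} (hs : ∀ j ∈ s, A j = 1) {v : G} (hv : v ∈ V)
    (h0 : ∀ j, j ∉ s → M.nat.e v j = 0) : h * v = v * h := by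
  classical
  induction s using Finset.induction_on generalizing v with
  | empty =>
    refine hD v ((M.nat.ker v hv).1 ?_)
    funext j
    exact h0 j (by simp)
  | insert j s hj ih =>
    obtain ⟨n, hn, en⟩ := M.nat.surj (Function.update 0 j (M.nat.e v j))
    have h3 : Commute h n := cent_N M hm hh hA hD (hs j (by simp)) hn
      fun l hl => by rw [en, Function.update_of_ne hl]; rfl
    have h4 : Commute h (n⁻¹ * v) := by
      refine ih (fun l hl => hs l (by simp [hl])) (mul_mem (inv_mem hn) hv) fun l hl => ?_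
      rw [M.nat.mul _ (inv_mem hn) v hv, M.map_inv hn, en, Pi.add_apply, Pi.neg_apply]
      by_cases hlj : l = j
      · subst hlj
        rw [Function.update_self, neg_add_cancel]
      · rw [Function.update_of_ne hlj, h0 l (by simp [hlj, hl])]
        simp
    have e : v = n * (n⁻¹ * v) := by group
    rw [e]
    exact (h3.mul_right h4).eq

/-- the kernel of `H` on `V / D` -/
def kern (M : NatC F T H V D k) : Subgroup G where
  carrier := {x | x ∈ H ∧ M.Acts x 1}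
  mul_mem' := by
    rintro a b ⟨ha, ha'⟩ ⟨hb, hb'⟩
    refine ⟨mul_mem ha hb, ?_⟩
    have := NatC.acts_mul hb ha' hb'
    rwa [mul_one] at this
  one_mem' := ⟨one_mem H, NatC.acts_one⟩
  inv_mem' := by
    rintro a ⟨ha, ha'⟩
    refine ⟨inv_mem ha, ?_⟩
    have := NatC.acts_inv ha ha'
    rwa [inv_one] at this

theorem kern_norm : ∀ g ∈ H, ∀ x ∈ kern M, g * x * g⁻¹ ∈ kern M := by
  rintro g hg x ⟨hx, hx1⟩
  refine ⟨mul_mem (mul_mem hg hx) (inv_mem hg), fun v hv i => ?_⟩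
  have hv' : g⁻¹ * v * g ∈ V := by
    have := M.Vn g⁻¹ (inv_mem hg) v hv
    rwa [inv_inv] at this
  set w := g⁻¹ * v * g with hw
  have hxw := M.Vn x hx w hv'
  have h1 : x * w * x⁻¹ * w⁻¹ ∈ D := by
    rw [← M.nat.ker _ (mul_mem hxw (inv_mem hv')), M.map_div hxw hv']
    funext j
    rw [Pi.sub_apply, hx1 w hv' j, Pi.one_apply, ap_one, sub_self]
    rfl
  have h2 := (M.nat.ker _ (M.DV (M.Dn g hg _ h1))).2 (M.Dn g hg _ h1)
  have e1 : g * (x * w * x⁻¹ * w⁻¹) * g⁻¹ = (g * x * g⁻¹ * v * (g * x * g⁻¹)⁻¹) * v⁻¹ := by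
    rw [hw]; group
  have h3 : g * x * g⁻¹ * v * (g * x * g⁻¹)⁻¹ ∈ V :=
    M.Vn _ (mul_mem (mul_mem hg hx) (inv_mem hg)) v hv
  rw [e1, M.map_div h3 hv, sub_eq_zero] at h2
  rw [h2, Pi.one_apply, ap_one]

theorem kern_sup_ne [CharP F 2] (hT : Syl T H) : kern M ⊔ T ≠ H := by
  intro e
  have hneg : (-1 : F) = 1 := CharTwo.neg_eq 1
  set A : Matrix.SpecialLinearGroup (Fin 2) F :=
    Cfsg.Agent.Lib.SL2Mat.mk 0 1 1 1 (by rw [zero_mul, one_mul, zero_sub]; exact hneg) with hA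
  have hA3 : A ^ 3 = 1 := by
    have h1 : (1 : F) + 1 = 0 := CharTwo.add_self_eq_zero 1
    rw [pow_succ, pow_two]
    apply ext_ent
    · rw [ent_mul, ent_mul, ent_mul]; simp [hA, h1]
    · rw [ent_mul, ent_mul, ent_mul]; simp [hA, h1]
    · rw [ent_mul, ent_mul, ent_mul]; simp [hA, h1]
    · rw [ent_mul, ent_mul, ent_mul]; simp [hA, h1]
  have hA1 : A ≠ 1 := by
    intro h
    have h2 : ent A 0 0 = ent (1 : Matrix.SpecialLinearGroup (Fin 2) F) 0 0 := by rw [h]
    rw [ent_one_00, hA, mk_00] at h2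
    exact zero_ne_one h2
  obtain ⟨g, hg, hgA, -⟩ := M.nat.lift fun _ => A
  have hg' : g ∈ kern M ⊔ T := by rw [e]; exact hg
  obtain ⟨t, ht, x, hx, rfl⟩ : ∃ t ∈ T, ∃ x ∈ kern M, g = t * x := by
    refine mem_sup_norm (fun t ht => ?_) (by rwa [sup_comm] at hg')
    rw [mem_normalizer_iff]
    refine fun x => ⟨kern_norm M t (hT.1 ht) x, fun hx => ?_⟩
    have := kern_norm M t⁻¹ (inv_mem (hT.1 ht)) _ hx
    have e : t⁻¹ * (t * x * t⁻¹) * t⁻¹⁻¹ = x := by group
    rwa [e] at this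
  have htH := hT.1 ht
  have htA : M.Acts t fun _ => A := by
    have h1 := NatC.acts_mul (inv_mem hx.1) (show M.Acts (t * x) (fun _ => A) from hgA)
      (NatC.acts_inv hx.1 hx.2)
    rwa [mul_inv_cancel_right, inv_one, mul_one] at h1
  obtain ⟨n, hn⟩ := hT.2.1 ⟨t, ht⟩
  have hn' : t ^ 2 ^ n = 1 := by simpa using congrArg Subtype.val hn
  have hpow : ∀ m : ℕ, M.Acts (t ^ m) ((fun _ => A) ^ m) := by
    intro m
    induction m with
    | zero => rw [pow_zero, pow_zero]; exact NatC.acts_one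
    | succ m ih => rw [pow_succ, pow_succ]; exact NatC.acts_mul htH ih htA
  have h2 := hpow (2 ^ n)
  rw [hn'] at h2
  have h3 := congrFun (NatC.acts_unique h2 NatC.acts_one) ⟨0, M.pos⟩
  rw [Pi.pow_apply, Pi.one_apply] at h3
  have h4 : orderOf A ∣ 2 ^ n := orderOf_dvd_of_pow_eq_one h3
  have h5 : orderOf A ∣ 3 := orderOf_dvd_of_pow_eq_one hA3
  have h6 : Nat.Coprime (2 ^ n) 3 := Nat.Coprime.pow_left _ (by norm_num)
  have h7 : orderOf A = 1 := Nat.eq_one_of_dvd_coprimes h6 h4 h5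
  exact hA1 (orderOf_eq_one_iff.1 h7)

theorem inf_kern_le [Finite G] [CharP F 2] (hm : MinH H T) : T ⊓ kern M ≤ o2 H :=
  hm.inf_le (fun _ h => h.1) (kern_norm M) (kern_sup_ne M hm.syl)

/-- A 2-element of the kernel of `H` on `V / D` is in `O₂(H)`. -/
theorem kern_two [Finite G] [CharP F 2] (hm : MinH H T) {S : Subgroup G} (hS : S ≤ H) (h2 : IsPGroup 2 S)
    {x : G} (hx : x ∈ S) (hk : M.Acts x 1) : x ∈ o2 H := by
  obtain ⟨R, hR, hSR⟩ := exists_syl h2 hS
  obtain ⟨g, hg, e⟩ := syl_conj hR hm.syl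
  have h1 : g * x * g⁻¹ ∈ T := by
    rw [← e]; exact ⟨x, hSR hx, rfl⟩
  have h3 := inf_kern_le M hm ⟨h1, kern_norm M g hg x ⟨hS hx, hk⟩⟩
  have h4 := conj_mem_of_norm (Cfsg.Agent.ZN.ChoiceSit.le_normalizer_o2 H (inv_mem hg)) h3
  have e2 : g⁻¹ * (g * x * g⁻¹) * g⁻¹⁻¹ = x := by group
  rwa [e2] at h4

/-- `T ∩ C(V) ≤ O₂(H)` -/
theorem inf_cent_le [Finite G] [CharP F 2] (hm : MinH H T) (M : NatC F T H V D k) :
    T ⊓ centralizer (V : Set G) ≤ o2 H := by
  refine le_trans ?_ (inf_kern_le M hm)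
  rintro x ⟨hx, hxc⟩
  refine ⟨hx, hm.syl.1 hx, fun v hv i => ?_⟩
  rw [Pi.one_apply, ap_one, ← mem_centralizer_iff.1 hxc v hv, mul_inv_cancel_right]

end NatC'


/-! ### Best offenders -/

/-- The hypotheses for a general pair `(T, H)`. -/
structure GEx (T H X L : Subgroup G) (AA : Set (Subgroup G)) : Prop where
  min : MinH H T
  fam : BFam T X L AA
  elem : IsElementaryAbelian 2 X
  norm : H ≤ normalizer (X : Set G)
  HL : H ≤ L
  XT : X ≤ T
  VX : zl T H ≤ X
  noOver : NoOverM (zl T H) H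
  ex : ∃ A ∈ AA, ¬ A ≤ o2 H
  infV : T ⊓ centralizer (zl T H : Set G) ≤ o2 H
  mem_X : ∀ x ∈ T, x ^ 2 = 1 → (∀ y ∈ T, y ∈ centralizer (X : Set G) → y * x = x * y) → x ∈ X

namespace GEx

variable {T H X L : Subgroup G} {AA : Set (Subgroup G)}

section basic

variable [Finite G] (h : GEx T H X L AA)
include h

theorem Xc : ∀ x ∈ X, ∀ y ∈ X, x * y = y * x := elem_comm h.elem

theorem TH : T ≤ H := h.min.syl.1

theorem HV : H ≤ normalizer (zl T H : Set G) := MinSimple.VModule.le_normalizer_zl _ _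

theorem QT : o2 H ≤ T := o2_le_syl h.min.syl

theorem comm_Q : ∀ a ∈ o2 H, ∀ v ∈ zl T H, a * v = v * a := fun a ha v hv =>
  SQ1.VOf.MinH.o2_cent h.min a ha v hv

theorem inf_cent {A : Subgroup G} (hA : A ≤ T) : A ⊓ centralizer (zl T H : Set G) = A ⊓ o2 H := by
  apply le_antisymm
  · rintro a ⟨ha, hac⟩
    exact ⟨ha, h.infV ⟨hA ha, hac⟩⟩
  · rintro a ⟨ha, haQ⟩
    exact ⟨ha, mem_centralizer_iff.2 fun v hv => (h.comm_Q a haQ v hv).symm⟩

/-- exactness -/
theorem exact {A : Subgroup G} (hA : A ∈ AA) :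
    Nat.card A * Nat.card ↥(zl T H ⊓ centralizer (A : Set G)) = Nat.card (zl T H) * Nat.card ↥(A ⊓ o2 H) := by
  have hAS := h.fam.le A hA
  have h1 := h.fam.off h.Xc h.VX hA
  have h2 := h.noOver A (hAS.trans h.TH) (elemM_mono (h.fam.elem A hA) h.VX le_rfl)
  rw [h.inf_cent hAS] at h1 h2
  exact le_antisymm h2 h1

/-- `|A ∩ Q| |C_X(A ∩ Q)| = |A| |C_X(A)|` and `C_X(A ∩ Q) = V C_X(A)`. -/
theorem cut {A : Subgroup G} (hA : A ∈ AA) :
    Nat.card ↥(A ⊓ o2 H) * Nat.card ↥(X ⊓ centralizer ((A ⊓ o2 H : Subgroup G) : Set G)) =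
        Nat.card A * Nat.card ↥(X ⊓ centralizer (A : Set G)) ∧
      zl T H ⊔ (X ⊓ centralizer (A : Set G)) = X ⊓ centralizer ((A ⊓ o2 H : Subgroup G) : Set G) := by
  have hAS := h.fam.le A hA
  have hc := h.exact hA
  have hle : zl T H ⊔ (X ⊓ centralizer (A : Set G)) ≤
      X ⊓ centralizer ((A ⊓ o2 H : Subgroup G) : Set G) := by
    refine sup_le (le_inf h.VX fun v hv => mem_centralizer_iff.2 fun a ha => h.comm_Q a ha.2 v hv) ?_
    exact inf_le_inf_left _ (centralizer_le inf_le_left)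
  have h1 := card_sup_comm (A := zl T H) (B := X ⊓ centralizer (A : Set G))
    fun v hv x hx => h.Xc v (h.VX hv) x hx.1
  have h2 : zl T H ⊓ (X ⊓ centralizer (A : Set G)) = zl T H ⊓ centralizer (A : Set G) := by
    rw [← inf_assoc, inf_eq_left.2 h.VX]
  rw [h2] at h1
  have hp : 0 < Nat.card ↥(zl T H ⊓ centralizer (A : Set G)) := Nat.card_pos
  have h4 : Nat.card ↥(A ⊓ o2 H) * Nat.card ↥(X ⊓ centralizer ((A ⊓ o2 H : Subgroup G) : Set G)) ≤
      Nat.card A * Nat.card ↥(X ⊓ centralizer (A : Set G)) := by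
    refine h.fam.best A hA _ ?_ inf_le_left
    rw [← h.inf_cent hAS]
    exact inf_le_inf_left _ (centralizer_le h.VX)
  have h5 := Nat.mul_le_mul_left (Nat.card ↥(A ⊓ o2 H)) (Subgroup.card_le_of_le hle)
  have h6 : Nat.card ↥(A ⊓ o2 H) * Nat.card ↥(zl T H ⊔ (X ⊓ centralizer (A : Set G))) =
      Nat.card A * Nat.card ↥(X ⊓ centralizer (A : Set G)) := by
    refine Nat.eq_of_mul_eq_mul_right hp ?_
    calc _ = Nat.card ↥(A ⊓ o2 H) * (Nat.card ↥(zl T H ⊔ (X ⊓ centralizer (A : Set G))) *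
          Nat.card ↥(zl T H ⊓ centralizer (A : Set G))) := by ring
      _ = (Nat.card (zl T H) * Nat.card ↥(A ⊓ o2 H)) *
          Nat.card ↥(X ⊓ centralizer (A : Set G)) := by rw [h1]; ring
      _ = _ := by rw [← hc]; ring
  have h7 := le_antisymm h4 (h6 ▸ h5)
  refine ⟨h7, Subgroup.eq_of_le_of_card_ge hle ?_⟩
  have hp' : 0 < Nat.card ↥(A ⊓ o2 H) := Nat.card_pos
  exact Nat.le_of_mul_le_mul_left (h7.trans h6.symm).le hp'

/-- a member `B' ≤ T` of the family with `B' C(X) = E C(X)` -/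
theorem mem_of_sup {E B' : Subgroup G} (hE : E ≤ T) (hB : B' ≤ T)
    (h3 : B' ⊔ centralizer (X : Set G) = E ⊔ centralizer (X : Set G)) {b : G} (hb : b ∈ B') :
    ∃ a ∈ E, ∃ c ∈ T, c ∈ centralizer (X : Set G) ∧ b = a * c := by
  have h4 : b ∈ E ⊔ centralizer (X : Set G) := h3 ▸ mem_sup_left hb
  have h5 : E ≤ normalizer (centralizer (X : Set G) : Set G) := by
    intro a ha
    apply mem_normalizer_of_cj_le
    rw [cj_centralizer, cj_eq_of_mem_normalizer (h.norm (h.TH (hE ha)))]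
  obtain ⟨a, ha, c, hc, rfl⟩ := mem_sup_norm h5 h4
  refine ⟨a, ha, c, ?_, hc, rfl⟩
  have := mul_mem (inv_mem (hE ha)) (hB hb)
  rwa [inv_mul_cancel_left] at this

/-- a member `B ≤ Q` of the family with `B C(X) = (A ∩ Q) C(X)` -/
theorem exists_cut {A : Subgroup G} (hA : A ∈ AA) :
    ∃ B ∈ AA, B ≤ o2 H ∧ B ⊔ centralizer (X : Set G) = (A ⊓ o2 H) ⊔ centralizer (X : Set G) := by
  obtain ⟨h1, -⟩ := h.cut hA
  have hAS := h.fam.le A hA
  obtain ⟨B', hB', h3⟩ := h.fam.cut A hA (A ⊓ o2 H) (by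
    rw [← h.inf_cent hAS]
    exact inf_le_inf_left _ (centralizer_le h.VX)) inf_le_left h1
  refine ⟨B', hB', fun b hb => ?_, h3⟩
  obtain ⟨a, ha, c, hcT, hc, rfl⟩ := h.mem_of_sup (inf_le_left.trans hAS) (h.fam.le B' hB') h3 hb
  exact mul_mem ha.2 (h.infV ⟨hcT, centralizer_le h.VX hc⟩)

/-- `Y₀ = C_X({B ∈ AA, B ≤ Q})` is contained in `V C_X(A)`. -/
theorem Y_le {A : Subgroup G} (hA : A ∈ AA) {x : G} (hx : x ∈ X)
    (hxB : ∀ B ∈ AA, B ≤ o2 H → ∀ b ∈ B, b * x = x * b) :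
    x ∈ zl T H ⊔ (X ⊓ centralizer (A : Set G)) := by
  obtain ⟨B', hB', hB'Q, h3⟩ := h.exists_cut hA
  rw [(h.cut hA).2]
  refine ⟨hx, mem_centralizer_iff.2 fun a ha => ?_⟩
  have h4 : a ∈ B' ⊔ centralizer (X : Set G) := by rw [h3]; exact mem_sup_left ha
  have h5 : B' ⊔ centralizer (X : Set G) ≤ centralizer {x} := by
    refine sup_le (fun b hb => ?_) (fun c hc => ?_)
    · rw [mem_centralizer_singleton_iff]
      exact hxB B' hB' hB'Q b hb
    · rw [mem_centralizer_singleton_iff]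
      exact (mem_centralizer_iff.1 hc x hx).symm
  exact mem_centralizer_singleton_iff.1 (h5 h4)

/-- `[x, a] = [v, a]` for some `v ∈ V` -/
theorem comm_eq {A : Subgroup G} (hA : A ∈ AA) {x : G} (hx : x ∈ X)
    (hxB : ∀ B ∈ AA, B ≤ o2 H → ∀ b ∈ B, b * x = x * b) {a : G} (ha : a ∈ A) :
    ∃ v ∈ zl T H, a * x * a⁻¹ * x⁻¹ = a * v * a⁻¹ * v⁻¹ := by
  obtain ⟨v, hv, w, hw, rfl⟩ := mem_sup_comm (A := zl T H) (B := X ⊓ centralizer (A : Set G))
    (fun v hv a ha => h.Xc v (h.VX hv) a ha.1) (h.Y_le hA hx hxB)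
  refine ⟨v, hv, ?_⟩
  have e1 : a * w = w * a := mem_centralizer_iff.1 hw.2 a ha
  have e3 : a * (v * w) * a⁻¹ * (v * w)⁻¹ = a * v * (w * a⁻¹ * w⁻¹) * v⁻¹ := by group
  have e4 : w * a⁻¹ * w⁻¹ = a⁻¹ := by
    have : w * a⁻¹ = a⁻¹ * w := by
      calc w * a⁻¹ = a⁻¹ * (a * w) * a⁻¹ := by group
        _ = a⁻¹ * w := by rw [e1]; group
    rw [this]; group
  rw [e3, e4]

/-- conjugates of the elements of `X` which centralise the members `B ≤ Q` of the family -/
theorem Y_norm {x : G} (hx : x ∈ X) (hxB : ∀ B ∈ AA, B ≤ o2 H → ∀ b ∈ B, b * x = x * b) {p : G} (hp : p ∈ H) :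
    p * x * p⁻¹ ∈ X ∧ ∀ B ∈ AA, B ≤ o2 H → ∀ b ∈ B, b * (p * x * p⁻¹) = (p * x * p⁻¹) * b := by
  refine ⟨conj_mem h.norm hp hx, fun B hB hBQ b hb => ?_⟩
  have h0 : cj p⁻¹ B ≤ o2 H := by
    have h2 := cj_mono p⁻¹ hBQ
    rwa [cj_eq_of_mem_normalizer (Cfsg.Agent.ZN.ChoiceSit.le_normalizer_o2 H (inv_mem hp))] at h2
  have h2 := h.fam.conj B hB p⁻¹ (h.HL (inv_mem hp)) (h0.trans h.QT)
  have h3 := hxB _ h2 h0 (p⁻¹ * b * p) (by
    rw [mem_cj]
    have e : p⁻¹⁻¹ * (p⁻¹ * b * p) * p⁻¹ = b := by group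
    rwa [e])
  calc b * (p * x * p⁻¹) = p * ((p⁻¹ * b * p) * x) * p⁻¹ := by group
    _ = p * (x * (p⁻¹ * b * p)) * p⁻¹ := by rw [h3]
    _ = (p * x * p⁻¹) * b := by group

/-- A factor of a best offender. -/
theorem split_card {A : Subgroup G} (hA : A ∈ AA) {E E' : Subgroup G} (hE : E ≤ A) (hE' : E' ≤ A)
    (h0 : E ⊓ E' = A ⊓ o2 H) (hEE : ∀ a ∈ A, ∃ e ∈ E, ∃ e' ∈ E', a = e * e')
    (hV : ∀ v ∈ zl T H, ∃ u ∈ zl T H, ∃ w ∈ zl T H,
      (∀ e ∈ E, e * u = u * e) ∧ (∀ e ∈ E', e * w = w * e) ∧ v = u * w) :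
    ∃ B ∈ AA, B ⊔ centralizer (X : Set G) = E ⊔ centralizer (X : Set G) := by
  set V := zl T H with hVd
  have hAS := h.fam.le A hA
  have hA0 : A ⊓ o2 H ≤ E := h0.ge.trans inf_le_left
  have hA0' : A ⊓ o2 H ≤ E' := h0.ge.trans inf_le_right
  have hXc := h.Xc
  have hVX := h.VX
  -- (1)
  have c1 : Nat.card A * Nat.card ↥(A ⊓ o2 H) ≤ Nat.card E * Nat.card E' := by
    choose! f hf g hg hfg using hEE
    rw [← Nat.card_prod, ← Nat.card_prod]
    refine Nat.card_le_card_of_injective (fun p : A × (A ⊓ o2 H : Subgroup G) =>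
      ((⟨f p.1 * p.2, mul_mem (hf _ p.1.2) (hA0 p.2.2)⟩, ⟨(p.2 : G)⁻¹ * g p.1, mul_mem (inv_mem (hA0' p.2.2))
        (hg _ p.1.2)⟩) : E × E')) ?_
    rintro ⟨⟨a, ha⟩, ⟨x, hx⟩⟩ ⟨⟨b, hb⟩, ⟨y, hy⟩⟩ hab
    simp only [Prod.mk.injEq, Subtype.mk.injEq] at hab
    obtain ⟨h1, h2⟩ := hab
    have h3 : a = b := by
      rw [hfg a ha, hfg b hb]
      calc f a * g a = (f a * x) * (x⁻¹ * g a) := by group
        _ = (f b * y) * (y⁻¹ * g b) := by rw [h1, h2]
        _ = f b * g b := by group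
    subst h3
    have h4 : x = y := mul_left_cancel h1
    subst h4
    rfl
  -- (2)
  have hVc : ∀ x ∈ V, ∀ y ∈ V, x * y = y * x := fun x hx y hy => hXc x (hVX hx) y (hVX hy)
  have c2 : Nat.card V * Nat.card ↥(V ⊓ centralizer (A : Set G)) =
      Nat.card ↥(V ⊓ centralizer (E : Set G)) * Nat.card ↥(V ⊓ centralizer (E' : Set G)) := by
    have h1 := card_sup_comm (A := V ⊓ centralizer (E : Set G)) (B := V ⊓ centralizer (E' : Set G))
      fun a ha b hb => hVc a ha.1 b hb.1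
    have h2 : (V ⊓ centralizer (E : Set G)) ⊔ (V ⊓ centralizer (E' : Set G)) = V := by
      refine le_antisymm (sup_le inf_le_left inf_le_left) fun v hv => ?_
      obtain ⟨u, hu, w, hw, h3, h4, rfl⟩ := hV v hv
      exact mul_mem (mem_sup_left ⟨hu, mem_centralizer_iff.2 h3⟩) (mem_sup_right ⟨hw, mem_centralizer_iff.2 h4⟩)
    have h3 : (V ⊓ centralizer (E : Set G)) ⊓ (V ⊓ centralizer (E' : Set G)) = V ⊓ centralizer (A : Set G) := by
      apply le_antisymm
      · rintro x ⟨⟨hx, hxE⟩, ⟨-, hxE'⟩⟩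
        refine ⟨hx, mem_centralizer_iff.2 fun a ha => ?_⟩
        obtain ⟨e, he, e', he', rfl⟩ := hEE a ha
        have d1 : Commute e x := mem_centralizer_iff.1 hxE e he
        have d2 : Commute e' x := mem_centralizer_iff.1 hxE' e' he'
        exact (d1.mul_left d2).eq
      · exact le_inf (inf_le_inf_left _ (centralizer_le hE)) (inf_le_inf_left _ (centralizer_le hE'))
    rwa [h2, h3] at h1
  -- (3), (4)
  have key : ∀ E₀ : Subgroup G, E₀ ≤ A → A ⊓ o2 H ≤ E₀ →
      Nat.card E₀ * Nat.card ↥(V ⊓ centralizer (E₀ : Set G)) ≤ Nat.card V * Nat.card ↥(A ⊓ o2 H) := by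
    intro E₀ h1 h2
    have h3 := h.noOver E₀ ((h1.trans hAS).trans h.TH) (elemM_mono (h.fam.elem A hA) hVX h1)
    rw [h.inf_cent (h1.trans hAS)] at h3
    have h4 : E₀ ⊓ o2 H = A ⊓ o2 H :=
      le_antisymm (inf_le_inf_right _ h1) (le_inf h2 inf_le_right)
    rwa [h4] at h3
  have c3 := key E hE hA0
  have c4 := key E' hE' hA0'
  have c5 := h.exact hA
  rw [← hVd] at c5
  have hp0 : 0 < Nat.card ↥(A ⊓ o2 H) := Nat.card_pos
  have hpV : 0 < Nat.card V := Nat.card_pos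
  have hp : 0 < Nat.card V * Nat.card ↥(A ⊓ o2 H) := Nat.mul_pos hpV hp0
  have c6 : Nat.card V * Nat.card ↥(A ⊓ o2 H) ≤
      Nat.card E * Nat.card ↥(V ⊓ centralizer (E : Set G)) := by
    refine Nat.le_of_mul_le_mul_right ?_ hp
    calc (Nat.card V * Nat.card ↥(A ⊓ o2 H)) * (Nat.card V * Nat.card ↥(A ⊓ o2 H))
        = (Nat.card A * Nat.card ↥(V ⊓ centralizer (A : Set G))) * (Nat.card V * Nat.card ↥(A ⊓ o2 H)) := by
          rw [c5]
      _ = (Nat.card A * Nat.card ↥(A ⊓ o2 H)) * (Nat.card V * Nat.card ↥(V ⊓ centralizer (A : Set G))) := by ring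
      _ ≤ (Nat.card E * Nat.card E') * (Nat.card ↥(V ⊓ centralizer (E : Set G)) *
          Nat.card ↥(V ⊓ centralizer (E' : Set G))) := by rw [c2]; exact Nat.mul_le_mul_right _ c1
      _ = (Nat.card E * Nat.card ↥(V ⊓ centralizer (E : Set G))) *
          (Nat.card E' * Nat.card ↥(V ⊓ centralizer (E' : Set G))) := by ring
      _ ≤ _ := Nat.mul_le_mul_left _ c4
  -- (7)
  have c7 : Nat.card ↥(V ⊓ centralizer (E : Set G)) * Nat.card ↥(X ⊓ centralizer (A : Set G)) ≤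
      Nat.card ↥(X ⊓ centralizer (E : Set G)) * Nat.card ↥(V ⊓ centralizer (A : Set G)) := by
    have h1 := card_sup_comm (A := V ⊓ centralizer (E : Set G)) (B := X ⊓ centralizer (A : Set G))
      fun a ha b hb => hXc a (hVX ha.1) b hb.1
    have h2 : (V ⊓ centralizer (E : Set G)) ⊓ (X ⊓ centralizer (A : Set G)) = V ⊓ centralizer (A : Set G) := by
      apply le_antisymm
      · rintro x ⟨⟨hx, -⟩, -, hxA⟩
        exact ⟨hx, hxA⟩
      · rintro x ⟨hx, hxA⟩
        exact ⟨⟨hx, centralizer_le hE hxA⟩, hVX hx, hxA⟩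
    rw [h2] at h1
    rw [← h1]
    refine Nat.mul_le_mul_right _ (Subgroup.card_le_of_le (sup_le (inf_le_inf_right _ hVX) ?_))
    exact inf_le_inf_left _ (centralizer_le hE)
  -- (8)
  have hpA : 0 < Nat.card ↥(V ⊓ centralizer (A : Set G)) := Nat.card_pos
  have c8 : Nat.card A * Nat.card ↥(X ⊓ centralizer (A : Set G)) ≤
      Nat.card E * Nat.card ↥(X ⊓ centralizer (E : Set G)) := by
    refine Nat.le_of_mul_le_mul_right ?_ hpA
    calc Nat.card A * Nat.card ↥(X ⊓ centralizer (A : Set G)) * Nat.card ↥(V ⊓ centralizer (A : Set G))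
        = (Nat.card A * Nat.card ↥(V ⊓ centralizer (A : Set G))) * Nat.card ↥(X ⊓ centralizer (A : Set G)) := by
          ring
      _ = (Nat.card V * Nat.card ↥(A ⊓ o2 H)) * Nat.card ↥(X ⊓ centralizer (A : Set G)) := by rw [c5]
      _ ≤ (Nat.card E * Nat.card ↥(V ⊓ centralizer (E : Set G))) * Nat.card ↥(X ⊓ centralizer (A : Set G)) :=
          Nat.mul_le_mul_right _ c6
      _ = Nat.card E * (Nat.card ↥(V ⊓ centralizer (E : Set G)) * Nat.card ↥(X ⊓ centralizer (A : Set G))) := by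
          ring
      _ ≤ Nat.card E * (Nat.card ↥(X ⊓ centralizer (E : Set G)) * Nat.card ↥(V ⊓ centralizer (A : Set G))) :=
          Nat.mul_le_mul_left _ c7
      _ = _ := by ring
  have hAE : A ⊓ centralizer (X : Set G) ≤ E := by
    refine le_trans ?_ hA0
    rw [← h.inf_cent hAS]
    exact inf_le_inf_left _ (centralizer_le hVX)
  exact h.fam.cut A hA E hAE hE (le_antisymm (h.fam.best A hA E hAE hE) c8)

end basic

/-! ### Natural modules -/

section nat

variable [Finite G] {F : Type} [Field F] [Finite F] [CharP F 2] {k : ℕ} (h : GEx T H X L AA)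
include h

/-- members of the family outside `O₂(P)` are offenders -/
theorem offM {A : Subgroup G} (hA : A ∈ AA) (hAQ : ¬ A ≤ o2 H) : OffM (zl T H) A :=
  h.fam.offM h.Xc h.VX hA fun h1 => hAQ fun a ha => h.infV ⟨h.fam.le A hA ha, h1 ha⟩

/-- for every `j` some `A ∈ AA` contains the full root group `j` -/
theorem exists_root (N : NatKM F T H (zl T H) (cv T H) k) (hk : 0 < k) (j : Fin k) : ∃ A ∈ AA, ∀ b : F, ∃ a ∈ A,
      ActsSL N.e (zl T H) (cv T H) a (Pi.mulSingle j (up b)) := by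
  classical
  have hm := h.min
  set M := natC_of hm hk N.toNatK with hM
  obtain ⟨A, hA, hAQ⟩ := h.ex
  obtain ⟨I, h1, h2⟩ := N.offM A (h.fam.le A hA) (h.offM hA hAQ)
  obtain ⟨i, hi⟩ : I.Nonempty := by
    by_contra hcon
    rw [Set.not_nonempty_iff_eq_empty] at hcon
    apply (h.offM hA hAQ).ne
    intro a ha
    obtain ⟨b, hb0, hb⟩ := h1 a ha
    have hb1 : b = 0 := by
      funext l
      exact hb0 l (by rw [hcon]; simp)
    subst hb1
    have hs : a ∈ M.stab := by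
      refine ⟨h.TH (h.fam.le A hA ha), fun w hw l => ?_, hb.2⟩
      have h5 : N.e (a * w * a⁻¹) l = ap (up ((0 : Fin k → F) l)) (N.e w l) := hb.1 w hw l
      rw [Pi.zero_apply, up_zero] at h5
      exact h5
    exact mem_centralizer_iff.2 fun w hw => (M.cent_of_stab hm hs hw).symm
  obtain ⟨t, ht, htr⟩ := N.trans i j
  have hcj : cj t A ≤ T := by
    have h3 := cj_mono t (h.fam.le A hA)
    rwa [cj_eq_of_mem_normalizer (le_normalizer ht : t ∈ normalizer (T : Set G))] at h3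
  have hA' := h.fam.conj A hA t (h.HL (h.TH ht)) hcj
  have hAQ' : ¬ cj t A ≤ o2 H := by
    intro h3
    apply hAQ
    have h4 := cj_mono t⁻¹ h3
    rw [cj_inv_cj, cj_eq_of_mem_normalizer (Cfsg.Agent.ZN.ChoiceSit.le_normalizer_o2 H (h.TH (inv_mem ht)))] at h4
    exact h4
  obtain ⟨I', h1', h2'⟩ := N.offM (cj t A) hcj (h.offM hA' hAQ')
  have hj : j ∈ I' := by
    by_contra hj
    obtain ⟨a, ha, hac⟩ := h2 (Pi.single i 1) fun l hl => by
      rw [Pi.single_eq_of_ne]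
      rintro rfl
      exact hl hi
    rw [single_acts] at hac
    obtain ⟨v, hv, hev⟩ := N.surj (Pi.single i ![0, 1])
    have haP := h.TH (h.fam.le A hA ha)
    have hav := conj_mem h.HV haP hv
    have htP := h.TH ht
    have hu : a * v * a⁻¹ * v⁻¹ ∈ zl T H := mul_mem hav (inv_mem hv)
    have htv := conj_mem h.HV htP hv
    have ha' : t * a * t⁻¹ ∈ cj t A := ⟨a, ha, rfl⟩
    obtain ⟨b', hb0, hb'⟩ := h1' _ ha'
    have h3 : N.e (t * (a * v * a⁻¹ * v⁻¹) * t⁻¹) j = 0 := by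
      have e1 : t * (a * v * a⁻¹ * v⁻¹) * t⁻¹ =
          (t * a * t⁻¹) * (t * v * t⁻¹) * (t * a * t⁻¹)⁻¹ * (t * v * t⁻¹)⁻¹ := by group
      have h4 : (t * a * t⁻¹) * (t * v * t⁻¹) * (t * a * t⁻¹)⁻¹ ∈ zl T H :=
        conj_mem h.HV (h.TH (hcj ha')) htv
      have h5 : N.e ((t * a * t⁻¹) * (t * v * t⁻¹) * (t * a * t⁻¹)⁻¹) j =
          ap (up (b' j)) (N.e (t * v * t⁻¹) j) := hb'.1 _ htv j
      have hd : N.e ((t * a * t⁻¹) * (t * v * t⁻¹) * (t * a * t⁻¹)⁻¹ * (t * v * t⁻¹)⁻¹) =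
          N.e ((t * a * t⁻¹) * (t * v * t⁻¹) * (t * a * t⁻¹)⁻¹) - N.e (t * v * t⁻¹) := M.map_div h4 htv
      rw [e1, hd, Pi.sub_apply, h5, hb0 j hj, up_zero, ap_one, sub_self]
    have h6 := (htr _ hu).1 h3
    rw [show N.e (a * v * a⁻¹ * v⁻¹) = N.e (a * v * a⁻¹) - N.e v from M.map_div hav hv] at h6
    have h7 : N.e (a * v * a⁻¹) i = ap ((Pi.mulSingle i (up 1) : Fin k → _) i) (N.e v i) := hac.1 v hv i
    rw [Pi.sub_apply, h7, Pi.mulSingle_eq_same, hev, Pi.single_eq_same] at h6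
    have h8 := congrFun h6 0
    rw [Pi.sub_apply, ap_zero', up_00, up_01] at h8
    simp at h8
  refine ⟨cj t A, hA', fun b => ?_⟩
  obtain ⟨a, ha, hac⟩ := h2' (Pi.single j b) fun l hl => by
    rw [Pi.single_eq_of_ne]
    rintro rfl
    exact hl hj
  rw [single_acts] at hac
  exact ⟨a, ha, hac⟩

/-- an element of `C(X)` does not change the action on `V` -/
theorem acts_congr {N : NatKM F T H (zl T H) (cv T H) k} {a c : G} (hc : c ∈ centralizer (X : Set G))
    {A : Fin k → Matrix.SpecialLinearGroup (Fin 2) F} (ha : ActsSL N.e (zl T H) (cv T H) a A) :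
    ActsSL N.e (zl T H) (cv T H) (a * c) A := by
  have hcv : ∀ v ∈ zl T H, c * v = v * c := fun v hv => (mem_centralizer_iff.1 hc v (h.VX hv)).symm
  refine ⟨fun v hv i => ?_, fun d hd => ?_⟩
  · have e : a * c * v * (a * c)⁻¹ = a * (c * v * c⁻¹) * a⁻¹ := by group
    rw [e, hcv v hv, mul_inv_cancel_right]
    exact ha.1 v hv i
  · have hd' : d ∈ zl T H := (inf_le_left : cv T H ≤ zl T H) hd
    have c1 : Commute a d := ha.2 d hd
    have c2 : Commute c d := hcv d hd'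
    exact (c1.mul_left c2).eq

/-- **For every block a member of the family which acts exactly as the root group of this block.** -/
theorem exists_one (N : NatKM F T H (zl T H) (cv T H) k) (hk : 0 < k) (j : Fin k) : ∃ A ∈ AA,
    (∀ a ∈ A, ∃ c : F, ActsSL N.e (zl T H) (cv T H) a (Pi.mulSingle j (up c))) ∧
    ∀ c : F, ∃ a ∈ A, ActsSL N.e (zl T H) (cv T H) a (Pi.mulSingle j (up c)) := by
  classical
  have hm := h.min
  set M := natC_of hm hk N.toNatK with hM
  obtain ⟨A, hA, hroot⟩ := h.exists_root N hk j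
  have hAS := h.fam.le A hA
  have hAP : A ≤ H := hAS.trans h.TH
  have hAQ : ¬ A ≤ o2 H := by
    intro hAQ
    obtain ⟨a, ha, hac⟩ := hroot 1
    obtain ⟨v, hv, e⟩ := N.surj (Pi.single j ![0, 1])
    have h1 := h.comm_Q a (hAQ ha) v hv
    have h2 := hac.1 v hv j
    have h3 : a * v * a⁻¹ = v := by rw [h1]; group
    rw [h3, Pi.mulSingle_eq_same, e, Pi.single_eq_same] at h2
    have h4 := congrFun h2 0
    rw [ap_zero'] at h4
    simp at h4
  obtain ⟨I, h1, h2⟩ := N.offM A hAS (h.offM hA hAQ)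
  have hupinj : ∀ b c : F, (up b : Matrix.SpecialLinearGroup (Fin 2) F) = up c → b = c := fun b c hbc => by
    have : ent (up b : Matrix.SpecialLinearGroup (Fin 2) F) 0 1 = ent (up c) 0 1 := by rw [hbc]
    rwa [up_01, up_01] at this
  have hmul : ∀ {a b : G} {A B : Fin k → Matrix.SpecialLinearGroup (Fin 2) F}, b ∈ H →
      ActsSL N.e (zl T H) (cv T H) a A → ActsSL N.e (zl T H) (cv T H) b B →
        ActsSL N.e (zl T H) (cv T H) (a * b) (A * B) := by
    intro a b A B hb hA hB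
    refine ⟨NatC.acts_mul (M := M) hb hA.1 hB.1, fun d hd => ?_⟩
    have c1 : Commute a d := hA.2 d hd
    have c2 : Commute b d := hB.2 d hd
    exact (c1.mul_left c2).eq
  have hinv : ∀ {a : G} {A : Fin k → Matrix.SpecialLinearGroup (Fin 2) F}, a ∈ H →
      ActsSL N.e (zl T H) (cv T H) a A → ActsSL N.e (zl T H) (cv T H) a⁻¹ A⁻¹ := by
    intro a A ha hA
    refine ⟨NatC.acts_inv (M := M) ha hA.1, fun d hd => ?_⟩
    have c1 : Commute a d := hA.2 d hd
    exact c1.inv_left.eq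
  have hone : ActsSL N.e (zl T H) (cv T H) 1 1 := ⟨NatC.acts_one (M := M), fun d _ => by simp⟩
  -- trivial action
  have htriv : ∀ a ∈ A, ActsSL N.e (zl T H) (cv T H) a 1 → a ∈ o2 H := by
    intro a ha ha1
    refine h.infV ⟨hAS ha, mem_centralizer_iff.2 fun v hv => ?_⟩
    exact (M.cent_of_stab hm ⟨hAP ha, ha1.1, ha1.2⟩ hv).symm
  have htriv' : ∀ a ∈ A ⊓ o2 H, ActsSL N.e (zl T H) (cv T H) a 1 := by
    intro a ha
    refine ⟨fun v hv i => ?_, fun d hd => h.comm_Q a ha.2 d ((inf_le_left : cv T H ≤ zl T H) hd)⟩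
    have h5 : a * v * a⁻¹ = v := by rw [h.comm_Q a ha.2 v hv]; group
    rw [h5, Pi.one_apply, ap_one]
  let E : Subgroup G :=
    { carrier := {a | a ∈ A ∧ ∃ c : F, ActsSL N.e (zl T H) (cv T H) a (Pi.mulSingle j (up c))}
      mul_mem' := by
        rintro a b ⟨ha, c, hc⟩ ⟨hb, d, hd⟩
        refine ⟨mul_mem ha hb, c + d, ?_⟩
        have := hmul (hAP hb) hc hd
        rwa [← Pi.mulSingle_mul, up_mul] at this
      one_mem' := ⟨one_mem _, 0, by rw [up_zero, Pi.mulSingle_one]; exact hone⟩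
      inv_mem' := by
        rintro a ⟨ha, c, hc⟩
        refine ⟨inv_mem ha, -c, ?_⟩
        have := hinv (hAP ha) hc
        rwa [← Pi.mulSingle_inv, up_inv] at this }
  let E' : Subgroup G :=
    { carrier := {a | a ∈ A ∧ ∃ b : Fin k → F, b j = 0 ∧ ActsSL N.e (zl T H) (cv T H) a fun i => up (b i)}
      mul_mem' := by
        rintro a b ⟨ha, c, hc0, hc⟩ ⟨hb, d, hd0, hd⟩
        refine ⟨mul_mem ha hb, c + d, by rw [Pi.add_apply, hc0, hd0, add_zero], ?_⟩
        have h5 := hmul (hAP hb) hc hd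
        have h6 : ((fun i => up (c i)) * (fun i => up (d i)) : Fin k → Matrix.SpecialLinearGroup (Fin 2) F) =
            fun i => up ((c + d) i) := funext fun i => up_mul _ _
        rwa [h6] at h5
      one_mem' := by
        refine ⟨one_mem _, 0, rfl, ?_⟩
        have h6 : (fun i => up ((0 : Fin k → F) i) : Fin k → Matrix.SpecialLinearGroup (Fin 2) F) = 1 :=
          funext fun i => up_zero
        rw [h6]
        exact hone
      inv_mem' := by
        rintro a ⟨ha, c, hc0, hc⟩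
        refine ⟨inv_mem ha, -c, by rw [Pi.neg_apply, hc0, neg_zero], ?_⟩
        have h5 := hinv (hAP ha) hc
        have h6 : (fun i => up (c i) : Fin k → Matrix.SpecialLinearGroup (Fin 2) F)⁻¹ =
            fun i => up ((-c) i) := funext fun i => up_inv _
        rwa [h6] at h5 }
  have hEA : E ≤ A := fun a ha => ha.1
  have hE'A : E' ≤ A := fun a ha => ha.1
  obtain ⟨B', hB', h3⟩ : ∃ B ∈ AA, B ⊔ centralizer (X : Set G) = E ⊔ centralizer (X : Set G) := by
    refine h.split_card hA hEA hE'A ?_ ?_ ?_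
    · apply le_antisymm
      · rintro a ⟨⟨ha, c, hc⟩, -, b, hb0, hb⟩
        refine ⟨ha, htriv a ha ?_⟩
        have h5 := NatC.acts_unique (M := M) hc.1 hb.1
        have h6 := congrFun h5 j
        rw [Pi.mulSingle_eq_same, hb0] at h6
        rw [hupinj _ _ h6, up_zero, Pi.mulSingle_one] at hc
        exact hc
      · intro a ha
        have h5 := htriv' a ha
        refine ⟨⟨ha.1, 0, ?_⟩, ha.1, 0, rfl, ?_⟩
        · rwa [up_zero, Pi.mulSingle_one]
        · have h6 : (fun i => up ((0 : Fin k → F) i) : Fin k → Matrix.SpecialLinearGroup (Fin 2) F) = 1 :=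
            funext fun i => up_zero
          rwa [h6]
    · intro a ha
      obtain ⟨b, hb0, hb⟩ := h1 a ha
      obtain ⟨e, he, hec⟩ := hroot (b j)
      have he'' : ActsSL N.e (zl T H) (cv T H) e (fun i => up ((Pi.single j (b j) : Fin k → F) i)) := by
        rw [single_acts]; exact hec
      refine ⟨e, ⟨he, _, hec⟩, e⁻¹ * a, ⟨mul_mem (inv_mem he) ha, fun i => b i - (Pi.single j (b j) : Fin k → F) i,
        ?_, ?_⟩, by group⟩
      · show b j - (Pi.single j (b j) : Fin k → F) j = 0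
        rw [Pi.single_eq_same, sub_self]
      · have h5 := hmul (hAP ha) (hinv (hAP he) he'') hb
        have h6 : ((fun i => up ((Pi.single j (b j) : Fin k → F) i) :
            Fin k → Matrix.SpecialLinearGroup (Fin 2) F)⁻¹ * (fun i => up (b i)) :
            Fin k → Matrix.SpecialLinearGroup (Fin 2) F) =
            fun i => up (b i - (Pi.single j (b j) : Fin k → F) i) := by
          funext i
          rw [Pi.mul_apply, Pi.inv_apply, up_inv, up_mul]
          congr 1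
          ring
        rwa [h6] at h5
    · intro v hv
      obtain ⟨w, hw, e⟩ := N.surj (Pi.single j (N.e v j))
      have hwv : v * w⁻¹ ∈ zl T H := mul_mem hv (inv_mem hw)
      have he0 : N.e (v * w⁻¹) j = 0 := by
        rw [show N.e (v * w⁻¹) = N.e v - N.e w from M.map_div hv hw, Pi.sub_apply, e, Pi.single_eq_same, sub_self]
      refine ⟨v * w⁻¹, hwv, w, hw, ?_, ?_, by group⟩
      · rintro a ⟨ha, c, hc⟩
        refine NatC'.cent_supp M hm (hAP ha) hc.1 hc.2 (s := Finset.univ.erase j) (fun i hi => ?_) hwv fun i hi => ?_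
        · rw [Pi.mulSingle_eq_of_ne (Finset.ne_of_mem_erase hi)]
        · have hij : i = j := by
            by_contra hne
            exact hi (Finset.mem_erase.2 ⟨hne, Finset.mem_univ i⟩)
          rw [hij]
          exact he0
      · rintro a ⟨ha, b, hb0, hb⟩
        refine NatC'.cent_N M hm (hAP ha) hb.1 hb.2 (i := j) (by rw [hb0, up_zero]) hw fun i hi => ?_
        show N.e w i = 0
        rw [e, Pi.single_eq_of_ne hi]
  refine ⟨B', hB', fun b hb => ?_, fun c => ?_⟩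
  · obtain ⟨a, ha, c, hcT, hc, rfl⟩ := h.mem_of_sup (hEA.trans hAS) (h.fam.le B' hB') h3 hb
    obtain ⟨-, d, hd⟩ := ha
    exact ⟨d, h.acts_congr hc hd⟩
  · obtain ⟨a, ha, hac⟩ := hroot c
    obtain ⟨b, hb, c', hcT, hc, e⟩ := h.mem_of_sup (h.fam.le B' hB') (hEA.trans hAS) h3.symm
      (show a ∈ E from ⟨ha, c, hac⟩)
    refine ⟨b, hb, ?_⟩
    have e' : b = a * c'⁻¹ := by rw [e]; group
    rw [e']
    exact h.acts_congr (inv_mem hc) hac

/-- members of the family centralise the product of the lines -/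
theorem cent_line (N : NatKM F T H (zl T H) (cv T H) k) (hk : 0 < k) {A : Subgroup G} (hA : A ∈ AA) {v : G}
    (hv : v ∈ zl T H) (hl : ∀ i, N.e v i 1 = 0) {a : G} (ha : a ∈ A) : a * v = v * a := by
  by_cases hAQ : A ≤ o2 H
  · exact h.comm_Q a (hAQ ha) v hv
  set M := natC_of h.min hk N.toNatK with hM
  obtain ⟨I, h1, h2⟩ := N.offM A (h.fam.le A hA) (h.offM hA hAQ)
  exact M.cent_line h.min (h.fam.le A hA) (h.fam.off h.Xc h.VX hA) h1 h2 hv hl ha

/-- **`V ∩ C_X(AA)` is the product of the lines.** -/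
theorem mem_ZJ (N : NatKM F T H (zl T H) (cv T H) k) (hk : 0 < k) {v : G} (hv : v ∈ zl T H) :
    v ∈ X ⊓ centralizer ((sSup AA : Subgroup G) : Set G) ↔ ∀ i, N.e v i 1 = 0 := by
  constructor
  · rintro ⟨-, hvc⟩ i
    obtain ⟨A, hA, -, hroot⟩ := h.exists_one N hk i
    obtain ⟨a, ha, hac⟩ := hroot 1
    have h1 := mem_cent_sSup.1 hvc A hA a ha
    have h2 := hac.1 v hv i
    rw [h1, mul_inv_cancel_right, Pi.mulSingle_eq_same] at h2
    have h3 := congrFun h2 0
    rw [ap_zero', up_00, up_01, one_mul, one_mul] at h3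
    exact left_eq_add.1 h3
  · intro hl
    exact ⟨h.VX hv, mem_cent_sSup.2 fun A hA a ha => h.cent_line N hk hA hv hl ha⟩

end nat

end GEx

end Cfsg.Agent.Omega.OM.Lev
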