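import Cfsg.Agent.Omega.OM.PB
import Cfsg.Agent.Omega.SQ1.FFKNat

/-!
# Natural blocks modulo a central part, from coordinates

`NP F B X N N0`: the group `X ≥ B` acts on `N ≤ B`, `N / N0` is a natural `SL₂(F)`-module, `B` acts as the group of
upper unitriangular matrices, `[Ω₁Z(B), X] ≤ N`.

* `NP.exists_pb` : a minimal `L`, `B ≤ L ≤ X`, inducing `SL₂(F)` on `N / N0` satisfies
  `PB B L N M.N1 N0 |F|`.
-/

set_option autoImplicit false
set_option linter.unusedSectionVars false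

namespace Cfsg.Agent.Omega.OM.Lev

open Subgroup Cfsg Cfsg.Agent.PLocal.ThompsonJ Cfsg.Agent.ZN.ChoiceBase
open Cfsg.Agent.ZN hiding mem_zc
open Cfsg.Agent.ZN.ChoiceSit
open Cfsg.Agent.PLocal.ElemAbSup
open Cfsg.Agent.Omega.SQ1.Bau (mem_sup_comm card_sup_comm elem_comm elem_sq Mv not_mv_iff mv_inv)
open Cfsg.Agent.Omega.SQ1.BauK (Pl)
open Cfsg.Agent.Omega.NatPair Cfsg.Agent.Lib.SL2Mat
open Cfsg.Agent.Omega.SQ1.FFOne (syl_inf mem_norm_of card_of_map)
open Cfsg.Agent.Omega.LemmaK (WeakNormal)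
open scoped Pointwise commutatorElement

universe u

variable {G : Type u} [Group G]

/-- `⟨up c, A⟩ = SL₂(F)` for every `A` with `A₁₀ ≠ 0`, `char F = 2` -/
theorem sl_top {F : Type*} [Field F] (K : Subgroup (Matrix.SpecialLinearGroup (Fin 2) F))
    (hup : ∀ c : F, up c ∈ K) {A0 : Matrix.SpecialLinearGroup (Fin 2) F} (hA0K : A0 ∈ K) (hne : ent A0 1 0 ≠ 0)
    (A : Matrix.SpecialLinearGroup (Fin 2) F) : A ∈ K := by
  set c0 := ent A0 1 0 with hc0
  have hlo0 : lo c0 ∈ K := by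
    obtain ⟨a, d, h1⟩ : ∃ a d, A0 = up a * lo c0 * up d := ⟨_, _, eq_up_lo_up A0 hne⟩
    have h2 := K.mul_mem (K.mul_mem (K.inv_mem (hup a)) hA0K) (K.inv_mem (hup d))
    have h3 : (up a)⁻¹ * A0 * (up d)⁻¹ = lo c0 := by
      calc (up a)⁻¹ * A0 * (up d)⁻¹ = (up a)⁻¹ * (up a * lo c0 * up d) * (up d)⁻¹ := by rw [← h1]
        _ = lo c0 := by group
    rwa [h3] at h2
  have hb0 : -c0⁻¹ ≠ 0 := neg_ne_zero.2 (inv_ne_zero hne)
  have hw : wm (-c0⁻¹) hb0 ∈ K := by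
    rw [wm_eq]
    have e : -(-c0⁻¹)⁻¹ = c0 := by rw [inv_neg, neg_neg, inv_inv]
    rw [e]
    exact K.mul_mem (K.mul_mem hlo0 (hup _)) hlo0
  have hlo : ∀ s : F, lo s ∈ K := by
    intro s
    have h1 := wm_up (-c0⁻¹) (-(s * (-c0⁻¹) ^ 2)) hb0
    have h2 : -(-(s * (-c0⁻¹) ^ 2) / (-c0⁻¹) ^ 2) = s := by
      rw [neg_div, neg_neg, mul_div_assoc, div_self (pow_ne_zero 2 hb0), mul_one]
    rw [h2] at h1
    have h3 : lo s = wm (-c0⁻¹) hb0 * up (-(s * (-c0⁻¹) ^ 2)) * (wm (-c0⁻¹) hb0)⁻¹ := by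
      rw [h1, mul_inv_cancel_right]
    rw [h3]
    exact K.mul_mem (K.mul_mem hw (hup _)) (K.inv_mem hw)
  obtain ⟨a, b, c, d, rfl⟩ := exists_up_lo A
  exact K.mul_mem (K.mul_mem (K.mul_mem (hup a) (hlo b)) (hup c)) (hlo d)

/-- `X ≥ B` acts on `N / N0` as `SL₂(F)`, `B` as the group of upper unitriangular matrices. -/
structure NP (F : Type*) [Field F] (B X N N0 : Subgroup G) where
  π : G → Fin 2 → F
  mul : ∀ v ∈ N, ∀ w ∈ N, π (v * w) = π v + π w
  N0N : N0 ≤ N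
  ker : ∀ v ∈ N, π v = 0 ↔ v ∈ N0
  surj : ∀ x, ∃ v ∈ N, π v = x
  el : IsElementaryAbelian 2 N
  NB : N ≤ B
  B2 : IsPGroup 2 B
  BX : B ≤ X
  nN : ∀ l ∈ X, ∀ v ∈ N, l * v * l⁻¹ ∈ N
  acts : ∀ l ∈ X, ∃ A : Matrix.SpecialLinearGroup (Fin 2) F, ∀ v ∈ N, π (l * v * l⁻¹) = ap A (π v)
  cov : ∀ A : Matrix.SpecialLinearGroup (Fin 2) F, ∃ l ∈ X, ∀ v ∈ N, π (l * v * l⁻¹) = ap A (π v)
  up : ∀ b ∈ B, ∃ c : F, ∀ v ∈ N, π (b * v * b⁻¹) = ap (up c) (π v)
  upc : ∀ c : F, ∃ b ∈ B, ∀ v ∈ N, π (b * v * b⁻¹) = ap (Lib.SL2Mat.up c) (π v)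
  cN1 : ∀ b ∈ B, ∀ v ∈ N, π v 1 = 0 → b * v = v * b
  cN : ∀ b ∈ B, (∀ v ∈ N, π (b * v * b⁻¹) = π v) → ∀ v ∈ N, b * v = v * b
  act : ∀ l ∈ X, ∀ z ∈ zc B, l * z * l⁻¹ * z⁻¹ ∈ N
  wn : WeakNormal 2 B
  sylB : ∀ R : Subgroup G, IsPGroup 2 R → B ≤ R → R ≤ centralizer (zc B : Set G) → R = B
  two : ∀ R : Subgroup G, IsPGroup 2 R → B ≤ R → R ≤ X → ∀ r ∈ R, (∀ v ∈ N, π (r * v * r⁻¹) = π v) →
    ∀ v ∈ N, π v 1 = 0 → r * v = v * r

namespace NP

variable {F : Type*} [Field F] {B X N N0 : Subgroup G} (M : NP F B X N N0)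

/-- `g` acts as `A`. -/
def Acts (g : G) (A : Matrix.SpecialLinearGroup (Fin 2) F) : Prop := ∀ v ∈ N, M.π (g * v * g⁻¹) = ap A (M.π v)

theorem map_one : M.π 1 = 0 := by
  have := M.mul 1 (one_mem N) 1 (one_mem N)
  rw [one_mul] at this
  exact left_eq_add.1 this

theorem map_inv {v : G} (hv : v ∈ N) : M.π v⁻¹ = - M.π v := by
  have := M.mul v hv v⁻¹ (inv_mem hv)
  rw [mul_inv_cancel, M.map_one] at this
  exact (neg_eq_of_add_eq_zero_right this.symm).symm

theorem map_div {v w : G} (hv : v ∈ N) (hw : w ∈ N) : M.π (v * w⁻¹) = M.π v - M.π w := by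
  rw [M.mul v hv _ (inv_mem hw), M.map_inv hw, sub_eq_add_neg]

variable {M}

theorem Acts.mul {g h : G} (hh : h ∈ X) {A A' : Matrix.SpecialLinearGroup (Fin 2) F} (hA : M.Acts g A)
    (hB : M.Acts h A') : M.Acts (g * h) (A * A') := by
  intro v hv
  have e : g * h * v * (g * h)⁻¹ = g * (h * v * h⁻¹) * g⁻¹ := by group
  rw [e, hA _ (M.nN h hh v hv), hB v hv, ap_mul]

theorem Acts.inv {g : G} (hg : g ∈ X) {A : Matrix.SpecialLinearGroup (Fin 2) F} (hA : M.Acts g A) :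
    M.Acts g⁻¹ A⁻¹ := by
  intro v hv
  have h1 := hA _ (M.nN g⁻¹ (inv_mem hg) v hv)
  have e : g * (g⁻¹ * v * g⁻¹⁻¹) * g⁻¹ = v := by group
  rw [e] at h1
  rw [h1, ap_inv_ap]

theorem acts_one : M.Acts 1 1 := by
  intro v _
  rw [one_mul, inv_one, mul_one, ap_one]

theorem acts_unique {g : G} {A A' : Matrix.SpecialLinearGroup (Fin 2) F} (hA : M.Acts g A) (hB : M.Acts g A') :
    A = A' := by
  apply ap_inj
  intro x
  obtain ⟨v, hv, e⟩ := M.surj x
  have h1 := hA v hv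
  rw [hB v hv, e] at h1
  exact h1.symm

theorem acts_of_cent {g : G} (h : ∀ v ∈ N, g * v = v * g) : M.Acts g 1 := by
  intro v hv
  rw [h v hv, mul_inv_cancel_right, ap_one]

variable (M)

/-- `N1 = {w ∈ N | π w 1 = 0}`. -/
def N1 : Subgroup G where
  carrier := {v | v ∈ N ∧ M.π v 1 = 0}
  mul_mem' := by
    rintro a b ⟨ha, ha'⟩ ⟨hb, hb'⟩
    exact ⟨mul_mem ha hb, by rw [M.mul a ha b hb, Pi.add_apply, ha', hb', add_zero]⟩
  one_mem' := ⟨one_mem _, by rw [M.map_one]; rfl⟩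
  inv_mem' := by
    rintro a ⟨ha, ha'⟩
    exact ⟨inv_mem ha, by rw [M.map_inv ha, Pi.neg_apply, ha', neg_zero]⟩

theorem mem_N1 {v : G} : v ∈ M.N1 ↔ v ∈ N ∧ M.π v 1 = 0 := Iff.rfl

theorem N01 : N0 ≤ M.N1 := fun v hv => ⟨M.N0N hv, by rw [(M.ker v (M.N0N hv)).2 hv]; rfl⟩

theorem card_N [Finite G] : Nat.card N = Nat.card M.N1 * Nat.card F := by
  refine card_of_map (fun v => M.π v 1) (fun v hv w hw => by
    show M.π (v * w) 1 = _; rw [M.mul v hv w hw]; rfl) (fun v hv => hv.1)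
    (fun v hv => ⟨fun h => ⟨hv, h⟩, fun h => h.2⟩) fun c => ?_
  obtain ⟨v, hv, e⟩ := M.surj ![0, c]
  exact ⟨v, hv, by show M.π v 1 = c; rw [e]; rfl⟩

theorem card_N1 [Finite G] : Nat.card M.N1 = Nat.card N0 * Nat.card F := by
  refine card_of_map (fun v => M.π v 0) (fun v hv w hw => by
    show M.π (v * w) 0 = _; rw [M.mul v hv.1 w hw.1]; rfl) M.N01
    (fun v hv => ⟨fun h => (M.ker v hv.1).1 (ext2 h hv.2), fun h => ?_⟩) fun c => ?_
  · show M.π v 0 = 0
    rw [(M.ker v hv.1).2 h]; rfl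
  · obtain ⟨v, hv, e⟩ := M.surj ![c, 0]
    exact ⟨v, ⟨hv, by rw [e]; rfl⟩, by show M.π v 0 = c; rw [e]; rfl⟩

include M in
theorem card_B [Finite G] : Nat.card B = Nat.card ↥(B ⊓ centralizer (N : Set G)) * Nat.card F := by
  classical
  let f : G → F := fun b => if h : ∃ c, M.Acts b (Lib.SL2Mat.up c) then h.choose else 0
  have hupinj : ∀ b c : F, (Lib.SL2Mat.up b : Matrix.SpecialLinearGroup (Fin 2) F) = Lib.SL2Mat.up c → b = c :=
    fun b c hbc => by
      have : ent (Lib.SL2Mat.up b : Matrix.SpecialLinearGroup (Fin 2) F) 0 1 = ent (Lib.SL2Mat.up c) 0 1 := by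
        rw [hbc]
      rwa [up_01, up_01] at this
  have hf : ∀ b c, M.Acts b (Lib.SL2Mat.up c) → f b = c := by
    intro b c hc
    have h : ∃ c, M.Acts b (Lib.SL2Mat.up c) := ⟨c, hc⟩
    have e : f b = h.choose := dif_pos h
    rw [e]
    exact hupinj _ _ (acts_unique h.choose_spec hc)
  refine card_of_map f ?_ inf_le_left ?_ ?_
  · intro v hv w hw
    obtain ⟨c, hc⟩ := M.up v hv
    obtain ⟨d, hd⟩ := M.up w hw
    have h1 := Acts.mul (M := M) (M.BX hw) hc hd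
    rw [up_mul] at h1
    rw [hf v c hc, hf w d hd, hf _ _ h1]
  · intro b hb
    obtain ⟨c, hc⟩ := M.up b hb
    rw [hf b c hc]
    constructor
    · rintro rfl
      refine ⟨hb, mem_centralizer_iff.2 fun v hv => (M.cN b hb (fun w hw => ?_) v hv).symm⟩
      rw [hc w hw, up_zero, ap_one]
    · rintro ⟨-, hbc⟩
      have h1 := acts_of_cent (M := M) fun v hv => (mem_centralizer_iff.1 hbc v hv).symm
      rw [← up_zero] at h1
      exact hupinj _ _ (acts_unique hc h1)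
  · intro c
    obtain ⟨b, hb, hc⟩ := M.upc c
    exact ⟨b, hb, hf b c hc⟩

/-- the line is moved iff the entry `1 0` is not zero -/
theorem mv_iff [Finite G] {l : G} (hl : l ∈ X) {A : Matrix.SpecialLinearGroup (Fin 2) F} (hA : M.Acts l A) :
    Mv M.N1 l ↔ ent A 1 0 ≠ 0 := by
  constructor
  · rintro ⟨v, hv, hlv⟩ h0
    refine hlv ⟨M.nN l hl v hv.1, ?_⟩
    rw [hA v hv.1, ap_one', h0, hv.2]; simp
  · intro h0
    obtain ⟨v, hv, e⟩ := M.surj ![1, 0]
    refine ⟨v, ⟨hv, by rw [e]; rfl⟩, fun h1 => h0 ?_⟩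
    have h2 := h1.2
    rw [hA v hv, ap_one', e] at h2
    simpa using h2

theorem N1_le_zc : M.N1 ≤ zc B := fun v hv =>
  mem_zc.2 ⟨M.NB hv.1, elem_sq M.el v hv.1, fun b hb => M.cN1 b hb v hv.1 hv.2⟩

theorem zc_inf : zc B ⊓ N = M.N1 := by
  apply le_antisymm
  · rintro v ⟨hv, hvN⟩
    refine ⟨hvN, ?_⟩
    obtain ⟨b, hb, hbc⟩ := M.upc 1
    have h1 := hbc v hvN
    rw [(mem_zc.1 hv).2.2 b hb, mul_inv_cancel_right] at h1
    have h2 := congrFun h1 0
    rw [ap_zero', up_00, up_01, one_mul, one_mul] at h2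
    exact left_eq_add.1 h2
  · exact fun v hv => ⟨M.N1_le_zc hv, hv.1⟩

/-- **Minimal blocks.** -/
theorem exists_pb [Finite G] [Finite F] [CharP F 2] :
    ∃ L, B ≤ L ∧ L ≤ X ∧ PB B L N M.N1 N0 (Nat.card F) ∧ (∀ A, ∃ l ∈ L, M.Acts l A) := by
  classical
  set S : Set (Subgroup G) := {Y | B ≤ Y ∧ Y ≤ X ∧ ∀ A, ∃ l ∈ Y, M.Acts l A} with hS
  have hXS : X ∈ S := ⟨M.BX, le_rfl, M.cov⟩
  obtain ⟨L, hL⟩ : ∃ L, Minimal (· ∈ S) L := by
    obtain ⟨L, -, h⟩ := (Set.toFinite S).exists_le_minimal hXS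
    exact ⟨L, h⟩
  obtain ⟨hBL, hLX, hcov⟩ := hL.prop
  have hmin : ∀ Y : Subgroup G, B ≤ Y → Y ≤ L → (∀ A, ∃ l ∈ Y, M.Acts l A) → Y = L := fun Y h1 h2 h3 =>
    le_antisymm h2 (hL.le_of_le ⟨h1, h2.trans hLX, h3⟩ h2)
  -- a subgroup over `B` which moves the line
  have hmin' : ∀ Y : Subgroup G, B ≤ Y → Y ≤ L → ∀ y ∈ Y, ∀ A0, M.Acts y A0 → ent A0 1 0 ≠ 0 → Y = L := by
    intro Y hBY hYL y hy A0 hA0 hne
    refine hmin Y hBY hYL fun A => ?_
    let K : Subgroup (Matrix.SpecialLinearGroup (Fin 2) F) :=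
      { carrier := {A | ∃ l ∈ Y, M.Acts l A}
        mul_mem' := by
          rintro A B ⟨a, ha, hA⟩ ⟨b, hb, hB⟩
          exact ⟨a * b, mul_mem ha hb, Acts.mul (hLX (hYL hb)) hA hB⟩
        one_mem' := ⟨1, one_mem _, acts_one⟩
        inv_mem' := by
          rintro A ⟨a, ha, hA⟩
          exact ⟨a⁻¹, inv_mem ha, Acts.inv (hLX (hYL ha)) hA⟩ }
    exact sl_top K (fun c => by
      obtain ⟨b, hb, hbc⟩ := M.upc c
      exact ⟨b, hBY hb, hbc⟩) (A0 := A0) ⟨y, hy, hA0⟩ hne A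
  -- `gen`
  have hgen : ∀ l ∈ L, Mv M.N1 l → ∀ Y : Subgroup G, B ≤ Y → (∀ b ∈ B, l * b * l⁻¹ ∈ Y) → L ≤ Y := by
    intro l hl hm Y hBY hY
    obtain ⟨A, hA⟩ := M.acts l (hLX hl)
    have hne := (M.mv_iff (hLX hl) hA).1 hm
    obtain ⟨b, hb, hbc⟩ := M.upc 1
    have h1 := Acts.mul (M := M) (inv_mem (hLX hl)) (Acts.mul (M := M) (M.BX hb) hA hbc)
      (Acts.inv (M := M) (hLX hl) hA)
    have h2 : ent (A * Lib.SL2Mat.up 1 * A⁻¹) 1 0 ≠ 0 := by
      have h3 : ent (A * Lib.SL2Mat.up 1 * A⁻¹) 1 0 = -(ent A 1 0) ^ 2 := by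
        rw [ent_mul, ent_mul, ent_mul, ent_inv]
        simp only [up_00, up_01, up_10, up_11, mk_00, mk_10]
        ring
      rw [h3]
      exact neg_ne_zero.2 (pow_ne_zero 2 hne)
    have h4 := hmin' (Y ⊓ L) (le_inf hBY hBL) inf_le_right _
      (mem_inf.2 ⟨hY b hb, mul_mem (mul_mem hl (hBL hb)) (inv_mem hl)⟩) _ h1 h2
    rw [← h4]
    exact inf_le_left
  obtain ⟨l0, hl0, hl0A⟩ := hcov (lo 1)
  have hl0m : Mv M.N1 l0 := (M.mv_iff (hLX hl0) hl0A).2 (by rw [lo_10]; exact one_ne_zero)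
  -- planes
  have hpl : Pl L N M.N1 N0 (Nat.card F) :=
    { Wn := fun l hl v hv => M.nN l (hLX hl) v hv
      Wc := fun v hv w hw => elem_comm M.el v hv w hw
      W1W := fun v hv => hv.1
      W01 := M.N01
      W0n := fun l hl v hv => by
        have h1 := M.nN l (hLX hl) v (M.N0N hv)
        rw [← M.ker _ h1]
        obtain ⟨A, hA⟩ := M.acts l (hLX hl)
        rw [hA v (M.N0N hv), (M.ker v (M.N0N hv)).2 hv]
        apply ext2 <;> simp [ap_zero', ap_one']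
      card := M.card_N
      card1 := M.card_N1
      opp := fun l hl hm v hv hv' => by
        obtain ⟨A, hA⟩ := M.acts l (hLX hl)
        have hne := (M.mv_iff (hLX hl) hA).1 hm
        have h1 := hv'.2
        rw [hA v hv.1, ap_one', hv.2, mul_zero, add_zero] at h1
        have h2 := (mul_eq_zero.1 h1).resolve_left hne
        rw [← M.ker _ hv'.1, hA v hv.1]
        apply ext2
        · rw [ap_zero', h2, hv.2]; simp
        · rw [ap_one', h2, hv.2]; simp }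
  have hactL : ∀ l ∈ L, ∀ z ∈ zc B, l * z * l⁻¹ * z⁻¹ ∈ N := fun l hl z hz => M.act l (hLX hl) z hz
  have hN1c : ∀ b ∈ B, ∀ v ∈ M.N1, b * v = v * b := fun b hb v hv => M.cN1 b hb v hv.1 hv.2
  -- `L` centralises `N0`
  have hN0c : ∀ l ∈ L, ∀ v ∈ N0, l * v = v * l := by
    intro l hl v hv
    have hLc : L ≤ centralizer (N0 : Set G) := by
      refine hgen l0 hl0 hl0m _ (fun b hb => mem_centralizer_iff.2 fun w hw => (hN1c b hb w (M.N01 hw)).symm)
        fun b hb => ?_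
      refine mem_centralizer_iff.2 fun w hw => ?_
      have hw' : l0⁻¹ * w * l0 ∈ N0 := by
        have := hpl.W0n l0⁻¹ (inv_mem hl0) w hw
        rwa [inv_inv] at this
      have h1 := hN1c b hb _ (M.N01 hw')
      calc w * (l0 * b * l0⁻¹) = l0 * ((l0⁻¹ * w * l0) * b) * l0⁻¹ := by group
        _ = l0 * (b * (l0⁻¹ * w * l0)) * l0⁻¹ := by rw [h1]
        _ = _ := by group
    exact (mem_centralizer_iff.1 (hLc hl) v hv).symm
  -- `syl`
  have hsyl : ∀ T : Subgroup G, B ≤ T → T ≤ L → IsPGroup 2 T → T = B := by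
    intro T hBT hTL h2
    refine M.sylB T h2 hBT fun t ht => ?_
    have htX := hLX (hTL ht)
    have htn : t ∈ normalizer (B : Set G) := M.wn T h2 hBT ht
    have htz : t ∈ normalizer (zc B : Set G) :=
      normalizer_le_of_cj (F := zc) (fun g B => LemmaK.Main.zc_cj g B) B htn
    obtain ⟨A, hA⟩ := M.acts t htX
    have h10 : ent A 1 0 = 0 := by
      by_contra hne
      obtain ⟨v, hv, hv'⟩ := (M.mv_iff htX hA).2 hne
      apply hv'
      rw [← M.zc_inf] at hv ⊢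
      exact ⟨(mem_normalizer_iff.1 htz v).1 hv.1, M.nN t htX v hv.2⟩
    obtain ⟨d, rfl⟩ : ∃ d : F, A = Lib.SL2Mat.up d := by
      obtain ⟨n, hn⟩ := h2 ⟨t, ht⟩
      have hn' : t ^ 2 ^ n = 1 := by simpa using congrArg Subtype.val hn
      have hpow : ∀ m : ℕ, M.Acts (t ^ m) (A ^ m) := by
        intro m
        induction m with
        | zero => rw [pow_zero, pow_zero]; exact acts_one
        | succ m ih => rw [pow_succ, pow_succ]; exact Acts.mul htX ih hA
      have h3 := hpow (2 ^ n)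
      rw [hn'] at h3
      have h4 := acts_unique h3 acts_one
      have h5 : ∀ m : ℕ, ent (A ^ m) 1 0 = 0 ∧ ent (A ^ m) 0 0 = ent A 0 0 ^ m := by
        intro m
        induction m with
        | zero => simp
        | succ m ih =>
          rw [pow_succ, ent_mul, ent_mul, h10, ih.1, ih.2, pow_succ]
          simp
      have h6 : ent A 0 0 ^ 2 ^ n = 1 := by rw [← (h5 (2 ^ n)).2, h4]; simp
      have h7 : ent A 0 0 = 1 := SQ1.FFOne.FF.eq_one_of_pow' h6
      have h8 := det_eq A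
      rw [h7, h10, mul_zero, sub_zero, one_mul] at h8
      exact ⟨ent A 0 1, ext_ent (by simp [h7]) (by simp) (by simp [h10]) (by simp [h8])⟩
    obtain ⟨b, hb, hbd⟩ := M.upc d
    have htN1 : ∀ v ∈ M.N1, t * v = v * t := by
      intro v hv
      have h3 : t * b⁻¹ ∈ T := mul_mem ht (inv_mem (hBT hb))
      have h4 : M.Acts (t * b⁻¹) 1 := by
        have := Acts.mul (M := M) (inv_mem (M.BX hb)) hA (Acts.inv (M := M) (M.BX hb) hbd)
        rwa [mul_inv_cancel] at this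
      have h5 := M.two T h2 hBT (hTL.trans hLX) _ h3 (fun w hw => by rw [h4 w hw, ap_one]) v hv.1 hv.2
      have c1 : Commute (t * b⁻¹) v := h5
      have c2 : Commute b v := hN1c b hb v hv
      have e : t = t * b⁻¹ * b := by group
      rw [e]
      exact (c1.mul_left c2).eq
    refine mem_centralizer_iff.2 fun z hz => ?_
    obtain ⟨c, -, hc, n, hn, e⟩ := Z_split_aux hpl hl0 hl0m (hgen l0 hl0 hl0m) M.NB M.el hN1c hactL hz
    have c1 : Commute t c := hc t (hTL ht)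
    have c2 : Commute t n := htN1 n hn
    rw [e]
    exact (c1.mul_right c2).eq.symm
  have hsylL : Syl B L := ⟨hBL, M.B2, fun T hT h2 hBT => hsyl T hBT hT h2⟩
  -- the kernel
  set K : Subgroup G := L ⊓ centralizer (N : Set G) with hK
  have hKn : ∀ l ∈ L, ∀ n ∈ K, l * n * l⁻¹ ∈ K := by
    intro l hl n hn
    obtain ⟨hn1, hn2⟩ := mem_inf.1 hn
    refine mem_inf.2 ⟨mul_mem (mul_mem hl hn1) (inv_mem hl), mem_centralizer_iff.2 fun v hv => ?_⟩
    have hv' : l⁻¹ * v * l ∈ N := by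
      have := M.nN l⁻¹ (inv_mem (hLX hl)) v hv
      rwa [inv_inv] at this
    have h1 := mem_centralizer_iff.1 hn2 _ hv'
    have h2 := congrArg (fun t => l * t * l⁻¹) h1
    simpa [mul_assoc] using h2
  have hKact : ∀ k ∈ K, M.Acts k 1 := fun k hk => acts_of_cent fun v hv =>
    (mem_centralizer_iff.1 (mem_inf.1 hk).2 v hv).symm
  -- `cor`
  have hcor : ∀ l ∈ L, ∀ x ∈ B, (∀ v ∈ N, x * v = v * x) → l * x * l⁻¹ ∈ B := by
    have hD := syl_inf hsylL (inf_le_left : K ≤ L) hKn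
    have h1 : L ⊓ normalizer ((B ⊓ K : Subgroup G) : Set G) = L := by
      refine hmin _ (le_inf hBL fun b hb => ?_) inf_le_left fun A => ?_
      · refine mem_norm_of fun k hk => ?_
        obtain ⟨hk1, hk2⟩ := mem_inf.1 hk
        exact mem_inf.2 ⟨mul_mem (mul_mem hb hk1) (inv_mem hb), hKn b (hBL hb) k hk2⟩
      · obtain ⟨l, hl, hlA⟩ := hcov A
        have h2 : Syl (cj l (B ⊓ K)) K := by
          refine ⟨?_, isPGroup_cj l hD.2.1, fun R hR h2 hle => ?_⟩
          · rintro _ ⟨x, hx, rfl⟩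
            exact hKn l hl x (mem_inf.1 hx).2
          · have h3 : cj l⁻¹ R ≤ K := by
              rintro _ ⟨r, hr, rfl⟩
              exact hKn l⁻¹ (inv_mem hl) r (hR hr)
            have h4 := hD.2.2 _ h3 (isPGroup_cj _ h2) (cj_le_iff.1 hle)
            rw [← h4, cj_cj_inv]
        obtain ⟨k, hk, e⟩ := syl_conj h2 hD
        rw [cj_cj] at e
        refine ⟨k * l, mem_inf.2 ⟨mul_mem (mem_inf.1 hk).1 hl, mem_normalizer_iff_cj.2 e⟩, ?_⟩
        have h3 := Acts.mul (M := M) (hLX hl) (hKact k hk) hlA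
        rwa [one_mul] at h3
    intro l hl x hx hxc
    have h2 : l ∈ L ⊓ normalizer ((B ⊓ K : Subgroup G) : Set G) := by rw [h1]; exact hl
    have h3 : x ∈ B ⊓ K := mem_inf.2 ⟨hx, mem_inf.2 ⟨hBL hx, mem_centralizer_iff.2 fun v hv => (hxc v hv).symm⟩⟩
    exact (mem_inf.1 ((mem_normalizer_iff.1 (mem_inf.1 h2).2 x).1 h3)).1
  refine ⟨L, hBL, hLX, ?_, hcov⟩
  exact
    { Bp := M.B2
      BL := hBL
      el := M.el
      NB := M.NB
      Nn := hpl.Wn
      N1N := hpl.W1W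
      N1c := hN1c
      N01 := hpl.W01
      N0c := hN0c
      card := hpl.card
      card1 := hpl.card1
      opp := hpl.opp
      quad := fun b hb v hv => by
        obtain ⟨c, hc⟩ := M.up b hb
        have h1 := M.nN b (M.BX hb) v hv
        refine ⟨mul_mem h1 (inv_mem hv), ?_⟩
        rw [M.map_div h1 hv, hc v hv, Pi.sub_apply, ap_one']
        simp
      cent := fun b hb hne v hv h0 => by
        obtain ⟨c, hc⟩ := M.up b hb
        have hc0 : c ≠ 0 := by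
          rintro rfl
          obtain ⟨w, hw, hw'⟩ := hne
          exact hw' (M.cN b hb (fun u hu => by rw [hc u hu, up_zero, ap_one]) w hw)
        have h1 := M.nN b (M.BX hb) v hv
        have h2 := (M.ker _ (mul_mem h1 (inv_mem hv))).2 h0
        rw [M.map_div h1 hv, hc v hv] at h2
        have h3 := congrFun h2 0
        rw [Pi.sub_apply, ap_zero', up_00, up_01] at h3
        refine ⟨hv, (mul_eq_zero.1 ?_).resolve_left hc0⟩
        have h4 : 1 * M.π v 0 + c * M.π v 1 - M.π v 0 = c * M.π v 1 := by ring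
        rw [← h4]; exact h3
      cardB := M.card_B
      one := Finite.one_lt_card
      mv := ⟨l0, hl0, hl0m⟩
      gen := hgen
      act := hactL
      cor := hcor
      syl := hsyl
      tor := by
        intro z hz hz0 z' hz' hz0'
        have hne : ∀ {y}, y ∈ M.N1 → y ∉ N0 → M.π y 0 ≠ 0 := by
          intro y hy hyc h0
          exact hyc ((M.ker y hy.1).1 (ext2 h0 hy.2))
        have h0 := hne hz hz0
        have h0' := hne hz' hz0'
        set t : F := M.π z' 0 / M.π z 0 with ht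
        have ht0 : t ≠ 0 := div_ne_zero h0' h0
        obtain ⟨l, hl, hlA⟩ := hcov (dg t ht0)
        let R : Subgroup G :=
          { carrier := {x | x ∈ L ∧ ∃ c : F, M.Acts x (Lib.SL2Mat.up c)}
            mul_mem' := by
              rintro a b ⟨ha, c, hc⟩ ⟨hb, d, hd⟩
              refine ⟨mul_mem ha hb, c + d, ?_⟩
              rw [← up_mul]
              exact Acts.mul (hLX hb) hc hd
            one_mem' := ⟨one_mem _, 0, by rw [up_zero]; exact acts_one⟩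
            inv_mem' := by
              rintro a ⟨ha, c, hc⟩
              refine ⟨inv_mem ha, -c, ?_⟩
              rw [← up_inv]
              exact Acts.inv (hLX ha) hc }
        have hRL : R ≤ L := fun x hx => hx.1
        have hBR : B ≤ R := fun b hb => ⟨hBL hb, M.up b hb⟩
        have hS1 : Syl B R := ⟨hBR, M.B2, fun S hS h2 hBS => hsyl S hBS (hS.trans hRL) h2⟩
        have hS2 : Syl (cj l B) R := by
          refine ⟨?_, isPGroup_cj l M.B2, fun S hS h2 hle => ?_⟩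
          · rintro _ ⟨b, hb, rfl⟩
            obtain ⟨hbL, c, hc⟩ := hBR hb
            refine ⟨mul_mem (mul_mem hl hbL) (inv_mem hl), t ^ 2 * c, ?_⟩
            have h2 := Acts.mul (M := M) (inv_mem (hLX hl)) (Acts.mul (M := M) (M.BX hb) hlA hc)
              (Acts.inv (M := M) (hLX hl) hlA)
            rw [dg_up, mul_inv_cancel_right] at h2
            exact h2
          · have h3 : cj l⁻¹ S ≤ L := by
              rintro _ ⟨r, hr, rfl⟩
              exact mul_mem (mul_mem (inv_mem hl) (hRL (hS hr))) (inv_mem (inv_mem hl))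
            have h4 := hsyl _ (cj_le_iff.1 hle) h3 (isPGroup_cj _ h2)
            rw [← h4, cj_cj_inv]
        obtain ⟨x, ⟨hxL, c, hc⟩, e⟩ := syl_conj hS2 hS1
        rw [cj_cj] at e
        refine ⟨x * l, mul_mem hxL hl, mem_normalizer_iff_cj.2 e, ?_⟩
        have h1 := Acts.mul (M := M) (hLX hl) hc hlA
        have h2 := M.nN _ (hLX (mul_mem hxL hl)) z hz.1
        rw [← M.ker _ (mul_mem h2 (inv_mem hz'.1)), M.map_div h2 hz'.1, h1 z hz.1, sub_eq_zero]
        apply ext2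
        · rw [ap_zero', hz.2]
          simp [ent_mul, ht, div_mul_cancel₀ _ h0]
        · rw [ap_one', hz.2, hz'.2]
          simp [ent_mul] }

end NP

end Cfsg.Agent.Omega.OM.Lev
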