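import Cfsg.Agent.Omega.SQ1.BauSMin

/-!
# The `q = 2` Baumann argument at levels: `V` with the transvections `t i` and the elements `r i` of order three

`SQ1/BauS.lean`, with a subgroup `J` in place of `J(T)`, a `T`-invariant elementary abelian group `Z` in place of
`Ω₁(Z(J(T)))` and `B = C_T(Z)`:

* `In0` : the input without `Z`; `In0.mem_N`, `In0.r_d'`, `In0.t_N'` : the action of `t i`, `r i` on `N j`;
  `In0.EE_good` : the elements acting as products of the `t i`; `In0.max'` : `⟨T, r i t i (r i)⁻¹⟩ = H`;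
* `In` : `C_V(J) ≤ Z`, `[Z, J V] = 1`, `Z V` is normal in `H`; `In.bau_EE`, `In.mem_star_iff`, `In.star_norm`;
* `ZJ V J = C_V(J)`, `In.of_ZJ` : the case `Z = C_V(J)`.
-/

set_option autoImplicit false

namespace Cfsg.Agent.Omega.OM.Lev.SIn

open Subgroup Cfsg Cfsg.Agent.PLocal.ThompsonJ Cfsg.Agent.ZN Cfsg.Agent.ZN.ChoiceBase
open Cfsg.Agent.PLocal.ElemAbSup
open Cfsg.Agent.Omega.SQ1.Bau (elem_comm elem_sq mem_sup_comm card_sup_comm mem_sup_norm)
open Cfsg.Agent.Omega.SQ1.BauS (Sim)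
open scoped Pointwise

universe u w

variable {G : Type u} [Group G]

/-- Input of the Baumann argument for `q = 2`, with `J` in place of `J(T)`. -/
structure In0 (H T Q V J : Subgroup G) {ι : Type w} (N : ι → Subgroup G) (d t r : ι → G) : Prop where
  TH : T ≤ H
  QT : Q ≤ T
  VQ : V ≤ Q
  Tp : IsPGroup 2 T
  Qn : ∀ h ∈ H, ∀ x ∈ Q, h * x * h⁻¹ ∈ Q
  Vn : ∀ h ∈ H, ∀ x ∈ V, h * x * h⁻¹ ∈ V
  Vsq : ∀ v ∈ V, v ^ 2 = 1
  VcQ : ∀ x ∈ Q, ∀ v ∈ V, x * v = v * x
  two : ∀ x ∈ H, (∀ v ∈ V, x * v = v * x) → (∃ n : ℕ, x ^ 2 ^ n = 1) → x ∈ Q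
  JT : J ≤ T
  tJ : ∀ i, t i ∈ J
  rH : ∀ i, r i ∈ H
  Jt : J ≤ closure (Set.range t) ⊔ Q
  tsq : ∀ i, Sim V (t i * t i) 1
  tt : ∀ i j, Sim V (t i * t j) (t j * t i)
  tr : ∀ i, Sim V (t i * r i) ((r i)⁻¹ * t i)
  tr' : ∀ i j, i ≠ j → Sim V (t j * r i) (r i * t j)
  r3 : ∀ i, Sim V (r i * r i * r i) 1
  dN : ∀ i, d i ∈ N i
  d1 : ∀ i, d i ≠ 1
  NV : ∀ i, N i ≤ V
  cardN : ∀ i, Nat.card (N i) = 4
  t_comm : ∀ i, ∀ v ∈ V, t i * v * (t i)⁻¹ = v ∨ t i * v * (t i)⁻¹ = d i * v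
  r_comm : ∀ i, ∀ v ∈ V, r i * v * (r i)⁻¹ * v⁻¹ ∈ N i
  r_fix : ∀ i, ∀ v ∈ N i, r i * v * (r i)⁻¹ = v → v = 1
  perm : ∀ x ∈ T, ∀ i, ∃ j, x * d i * x⁻¹ = d j ∧ ∀ v ∈ N i, x * v * x⁻¹ ∈ N j
  field : ∀ x ∈ T, (∀ v ∈ V, (∀ y ∈ J, y * v = v * y) → x * v = v * x) →
    x ∈ closure (Set.range t) ⊔ Q
  max : ∀ X : Subgroup G, T ≤ X → X ≤ H → ∀ i, (∃ x ∈ X, Sim V x (r i)) → H ≤ X

namespace In0

variable {H T Q V J : Subgroup G} {ι : Type w} {N : ι → Subgroup G} {d t r : ι → G}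

theorem Vcomm (h : In0 H T Q V J N d t r) : ∀ v ∈ V, ∀ w ∈ V, v * w = w * v :=
  fun v hv w hw => h.VcQ v (h.VQ hv) w hw

theorem Velem (h : In0 H T Q V J N d t r) : IsElementaryAbelian 2 V :=
  isElementaryAbelian_iff.2 ⟨h.Vcomm, h.Vsq⟩

theorem H_norm_Q (h : In0 H T Q V J N d t r) [Finite G] : H ≤ normalizer (Q : Set G) := fun g hg =>
  mem_normalizer_of_cj_le (by
    intro x hx
    rw [mem_cj] at hx
    have := h.Qn g hg _ hx
    have e : g * (g⁻¹ * x * g) * g⁻¹ = x := by group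
    rwa [e] at this)

theorem Vn' (h : In0 H T Q V J N d t r) {g : G} (hg : g ∈ H) : ∀ v ∈ V, g⁻¹ * v * g ∈ V := by
  intro v hv
  have := h.Vn g⁻¹ (inv_mem hg) v hv
  rwa [inv_inv] at this

theorem mulself (h : In0 H T Q V J N d t r) {v : G} (hv : v ∈ V) : v * v = 1 := by
  rw [← pow_two]; exact h.Vsq v hv

theorem inv_eq (h : In0 H T Q V J N d t r) {v : G} (hv : v ∈ V) : v⁻¹ = v :=
  inv_eq_of_mul_eq_one_left (h.mulself hv)

theorem dV (h : In0 H T Q V J N d t r) (i : ι) : d i ∈ V := h.NV i (h.dN i)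

theorem tT (h : In0 H T Q V J N d t r) (i : ι) : t i ∈ T := h.JT (h.tJ i)

theorem tH (h : In0 H T Q V J N d t r) (i : ι) : t i ∈ H := h.TH (h.tT i)

theorem cT (h : In0 H T Q V J N d t r) {x : G} (hx : x ∈ T) (hc : ∀ v ∈ V, x * v = v * x) :
    x ∈ Q := by
  obtain ⟨n, hn⟩ := h.Tp ⟨x, hx⟩
  exact h.two x (h.TH hx) hc ⟨n, by simpa using congrArg Subtype.val hn⟩

/-! ### The action of `t i`, `r i` on `N j` -/

theorem r_N (h : In0 H T Q V J N d t r) (i : ι) {v : G} (hv : v ∈ N i) : r i * v * (r i)⁻¹ ∈ N i := by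
  have h1 := mul_mem (h.r_comm i v (h.NV i hv)) hv
  have e : r i * v * (r i)⁻¹ * v⁻¹ * v = r i * v * (r i)⁻¹ := by group
  rwa [e] at h1

theorem t_d (h : In0 H T Q V J N d t r) (i : ι) : t i * d i * (t i)⁻¹ = d i := by
  rcases h.t_comm i (d i) (h.dV i) with h1 | h1
  · exact h1
  · exfalso
    rw [h.mulself (h.dV i)] at h1
    apply h.d1 i
    have : d i = (t i)⁻¹ * (t i * d i * (t i)⁻¹) * t i := by group
    rw [this, h1]; group

/-- the third element -/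
theorem r_d_ne (h : In0 H T Q V J N d t r) (i : ι) : r i * d i * (r i)⁻¹ ≠ d i :=
  fun h1 => h.d1 i (h.r_fix i _ (h.dN i) h1)

theorem r_d_ne_one (h : In0 H T Q V J N d t r) (i : ι) : r i * d i * (r i)⁻¹ ≠ 1 := fun h1 => by
  apply h.d1 i
  have : d i = (r i)⁻¹ * (r i * d i * (r i)⁻¹) * r i := by group
  rw [this, h1]; group

theorem r3' (h : In0 H T Q V J N d t r) (i : ι) {v : G} (hv : v ∈ V) :
    r i * (r i * (r i * v * (r i)⁻¹) * (r i)⁻¹) * (r i)⁻¹ = v := by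
  have h1 := h.r3 i v hv
  have e : r i * (r i * (r i * v * (r i)⁻¹) * (r i)⁻¹) * (r i)⁻¹ =
    r i * r i * r i * v * (r i * r i * r i)⁻¹ := by group
  rw [e, h1]; group

/-- `v v^r v^{r^2} = 1` for `v ∈ N i`. -/
theorem r_prod (h : In0 H T Q V J N d t r) (i : ι) {v : G} (hv : v ∈ N i) :
    v * (r i * v * (r i)⁻¹) * (r i * (r i * v * (r i)⁻¹) * (r i)⁻¹) = 1 := by
  have h1 := h.r_N i hv
  have h2 := h.r_N i h1
  refine h.r_fix i _ (mul_mem (mul_mem hv h1) h2) ?_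
  have e : r i * (v * (r i * v * (r i)⁻¹) * (r i * (r i * v * (r i)⁻¹) * (r i)⁻¹)) * (r i)⁻¹ =
    (r i * v * (r i)⁻¹) * (r i * (r i * v * (r i)⁻¹) * (r i)⁻¹) *
      (r i * (r i * (r i * v * (r i)⁻¹) * (r i)⁻¹) * (r i)⁻¹) := by group
  rw [e, h.r3' i (h.NV i hv)]
  rw [h.Vcomm _ (mul_mem (h.NV i h1) (h.NV i h2)) _ (h.NV i hv)]
  group

/-- The elements of `N i`. -/
theorem mem_N (h : In0 H T Q V J N d t r) [Finite G] (i : ι) {v : G} (hv : v ∈ N i) :
    v = 1 ∨ v = d i ∨ v = r i * d i * (r i)⁻¹ ∨ v = d i * (r i * d i * (r i)⁻¹) := by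
  classical
  by_contra hc
  push Not at hc
  obtain ⟨h1, h2, h3, h4⟩ := hc
  set m := r i * d i * (r i)⁻¹ with hm
  have hmN : m ∈ N i := h.r_N i (h.dN i)
  have hmV := h.NV i hmN
  have hm1 : m ≠ 1 := h.r_d_ne_one i
  have hmd : m ≠ d i := h.r_d_ne i
  let f : Fin 5 → N i := ![1, ⟨d i, h.dN i⟩, ⟨m, hmN⟩, ⟨d i * m, mul_mem (h.dN i) hmN⟩, ⟨v, hv⟩]
  have hdm1 : d i * m ≠ 1 := fun e => hmd (by
    rw [← h.inv_eq (h.dV i)]; exact (eq_inv_of_mul_eq_one_right e))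
  have hf : Function.Injective f := by
    intro a b hab
    have hab' : ((f a : N i) : G) = f b := congrArg Subtype.val hab
    fin_cases a <;> fin_cases b <;> simp [f] at hab' ⊢
    · exact h.d1 i hab'.symm
    · exact hm1 hab'.symm
    · exact hdm1 hab'.symm
    · exact h1 hab'.symm
    · exact h.d1 i hab'
    · exact hmd hab'.symm
    · exact hm1 hab'
    · exact h2 hab'.symm
    · exact hm1 hab'
    · exact hmd hab'
    · exact h.d1 i hab'
    · exact h3 hab'.symm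
    · exact hdm1 hab'
    · exact hm1 hab'
    · exact h.d1 i hab'
    · exact h4 hab'.symm
    · exact h1 hab'
    · exact h2 hab'
    · exact h3 hab'
    · exact h4 hab'
  have h5 := Nat.card_le_card_of_injective f hf
  rw [h.cardN, Nat.card_fin] at h5
  omega

/-- `t i` moves the elements of `N i` outside `⟨d i⟩`. -/
theorem t_m (h : In0 H T Q V J N d t r) (i : ι) :
    t i * (r i * d i * (r i)⁻¹) * (t i)⁻¹ = d i * (r i * d i * (r i)⁻¹) := by
  set m := r i * d i * (r i)⁻¹ with hm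
  have hmV : m ∈ V := h.NV i (h.r_N i (h.dN i))
  rcases h.t_comm i m hmV with h1 | h1
  · exfalso
    have h2 := h.tr i (d i) (h.dV i)
    have e1 : t i * r i * d i * (t i * r i)⁻¹ = t i * m * (t i)⁻¹ := by rw [hm]; group
    have e2 : (r i)⁻¹ * t i * d i * ((r i)⁻¹ * t i)⁻¹ = (r i)⁻¹ * (t i * d i * (t i)⁻¹) * r i := by
      group
    rw [e1, e2, h1, h.t_d] at h2
    -- `m = r⁻¹ d r`
    have h3 : r i * m * (r i)⁻¹ = d i := by rw [h2]; group
    have h4 := h.r3' i (h.dV i)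
    rw [← hm, h3, ← hm] at h4
    exact h.r_d_ne i h4
  · exact h1

theorem t_ne (h : In0 H T Q V J N d t r) [Finite G] (i : ι) {v : G} (hv : v ∈ N i)
    (hfix : t i * v * (t i)⁻¹ = v) : v = 1 ∨ v = d i := by
  have hd0 := h.d1 i
  have hm := h.t_m i
  rcases h.mem_N i hv with h1 | h1 | h1 | h1
  · exact Or.inl h1
  · exact Or.inr h1
  · exfalso
    rw [h1, hm] at hfix
    exact hd0 (by simpa using hfix)
  · exfalso
    rw [h1] at hfix
    have e : t i * (d i * (r i * d i * (r i)⁻¹)) * (t i)⁻¹ =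
      (t i * d i * (t i)⁻¹) * (t i * (r i * d i * (r i)⁻¹) * (t i)⁻¹) := by group
    rw [e, hm, h.t_d] at hfix
    exact hd0 (by simpa using hfix)

theorem t_N (h : In0 H T Q V J N d t r) (i : ι) {v : G} (hv : v ∈ N i) : t i * v * (t i)⁻¹ ∈ N i := by
  rcases h.t_comm i v (h.NV i hv) with h1 | h1
  · rw [h1]; exact hv
  · rw [h1]; exact mul_mem (h.dN i) hv

/-- `r i` centralises `d j` for `j ≠ i`. -/
theorem r_d' (h : In0 H T Q V J N d t r) {i j : ι} (hij : i ≠ j) : r i * d j * (r i)⁻¹ = d j := by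
  set m := r j * d j * (r j)⁻¹ with hm
  have hmV : m ∈ V := h.NV j (h.r_N j (h.dN j))
  have h1 := h.tr' i j hij m hmV
  have e1 : r i * t j * m * (r i * t j)⁻¹ = r i * (t j * m * (t j)⁻¹) * (r i)⁻¹ := by group
  have e2 : t j * r i * m * (t j * r i)⁻¹ = t j * (r i * m * (r i)⁻¹) * (t j)⁻¹ := by group
  rw [e1, e2, h.t_m j, ← hm] at h1
  have e3 : r i * (d j * m) * (r i)⁻¹ = (r i * d j * (r i)⁻¹) * (r i * m * (r i)⁻¹) := by group
  rw [e3] at h1
  rcases h.t_comm j _ (h.Vn _ (h.rH i) m hmV) with h2 | h2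
  · exfalso
    rw [h2] at h1
    have h3 : r i * d j * (r i)⁻¹ = 1 := by simpa using h1.symm
    apply h.d1 j
    have : d j = (r i)⁻¹ * (r i * d j * (r i)⁻¹) * r i := by group
    rw [this, h3]; group
  · rw [h2] at h1
    exact (mul_right_cancel h1).symm

/-- `t j` centralises `N i` for `j ≠ i`. -/
theorem t_N' (h : In0 H T Q V J N d t r) {i j : ι} (hij : i ≠ j) {v : G} (hv : v ∈ N i) :
    t j * v * (t j)⁻¹ = v := by
  have hvV := h.NV i hv
  have h1 := h.r_N i hv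
  have h2 := h.r_N i h1
  have step : ∀ w ∈ N i, t j * w * (t j)⁻¹ = d j * w →
      t j * (r i * w * (r i)⁻¹) * (t j)⁻¹ = d j * (r i * w * (r i)⁻¹) := by
    intro w hw hw'
    have h3 := h.tr' i j hij w (h.NV i hw)
    have e1 : r i * t j * w * (r i * t j)⁻¹ = r i * (t j * w * (t j)⁻¹) * (r i)⁻¹ := by group
    have e2 : t j * r i * w * (t j * r i)⁻¹ = t j * (r i * w * (r i)⁻¹) * (t j)⁻¹ := by group
    rw [e1, e2, hw'] at h3
    rw [h3]
    have e3 : r i * (d j * w) * (r i)⁻¹ = (r i * d j * (r i)⁻¹) * (r i * w * (r i)⁻¹) := by group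
    rw [e3, h.r_d' hij]
  rcases h.t_comm j v hvV with h3 | h3
  · exact h3
  · exfalso
    have h4 := step v hv h3
    have h5 := step _ h1 h4
    have h6 := h.r_prod i hv
    have h7 : t j * (v * (r i * v * (r i)⁻¹) * (r i * (r i * v * (r i)⁻¹) * (r i)⁻¹)) * (t j)⁻¹ =
        1 := by rw [h6]; group
    have e : t j * (v * (r i * v * (r i)⁻¹) * (r i * (r i * v * (r i)⁻¹) * (r i)⁻¹)) * (t j)⁻¹ =
      (t j * v * (t j)⁻¹) * (t j * (r i * v * (r i)⁻¹) * (t j)⁻¹) *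
        (t j * (r i * (r i * v * (r i)⁻¹) * (r i)⁻¹) * (t j)⁻¹) := by group
    rw [e, h3, h4, h5] at h7
    have hd := h.dV j
    have c1 := h.Vcomm v hvV _ hd
    have c2 := h.Vcomm _ (h.NV i h1) _ hd
    set a := r i * v * (r i)⁻¹
    set b := r i * a * (r i)⁻¹
    have e2 : d j * v * (d j * a) * (d j * b) = (d j * d j) * (v * a * b) * d j := by
      have c3 := h.Vcomm _ (h.NV i h2) _ hd
      calc d j * v * (d j * a) * (d j * b) = d j * (v * d j) * (a * d j) * b := by group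
        _ = d j * (d j * v) * (d j * a) * b := by rw [c1, c2]
        _ = d j * d j * (v * d j) * a * b := by group
        _ = d j * d j * (d j * v) * a * b := by rw [c1]
        _ = d j * d j * (d j * (v * a * b)) := by group
        _ = d j * d j * ((v * a * b) * d j) := by
          rw [h.Vcomm _ hd _ (mul_mem (mul_mem hvV (h.NV i h1)) (h.NV i h2))]
        _ = _ := by group
    rw [e2, h6, h.mulself hd] at h7
    exact h.d1 j (by simpa using h7)

theorem t_d' (h : In0 H T Q V J N d t r) (i j : ι) : t j * d i * (t j)⁻¹ = d i := by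
  by_cases hij : i = j
  · subst hij; exact h.t_d i
  · exact h.t_N' hij (h.dN i)

theorem d_inj (h : In0 H T Q V J N d t r) {i j : ι} (hij : d i = d j) : i = j := by
  by_contra hne
  have h1 := h.r_d' hne
  rw [← hij] at h1
  exact h.r_d_ne i h1

/-! ### Elements acting as products of the `t i` -/

/-- `x` centralises all `d j`, normalises every `N j` and acts on it like `t j` or trivially, has
commutators in `⟨d j⟩`, its square centralises `V`, and it centralises or inverts every `r j`. -/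
structure Good (V : Subgroup G) (N : ι → Subgroup G) (d t r : ι → G) (x : G) : Prop where
  fixd : ∀ j, x * d j * x⁻¹ = d j
  actN : ∀ j, (∀ v ∈ N j, x * v * x⁻¹ = v) ∨ ∀ v ∈ N j, x * v * x⁻¹ = t j * v * (t j)⁻¹
  comm : ∀ v ∈ V, x * v * x⁻¹ * v⁻¹ ∈ Subgroup.closure (Set.range d)
  actr : ∀ j, Sim V (x * r j) (r j * x) ∨ Sim V (x * r j) ((r j)⁻¹ * x)

theorem D_le_V (h : In0 H T Q V J N d t r) : closure (Set.range d) ≤ V := by
  rw [closure_le]
  rintro _ ⟨j, rfl⟩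
  exact h.dV j

/-- The subgroup of elements acting as products of the `t i`. -/
def EE (t : ι → G) (Q : Subgroup G) : Subgroup G := closure (Set.range t) ⊔ Q

theorem t_EE (i : ι) : t i ∈ EE t Q := mem_sup_left (subset_closure ⟨i, rfl⟩)

theorem EE_le_T (h : In0 H T Q V J N d t r) : EE t Q ≤ T :=
  sup_le (by rw [closure_le]; rintro _ ⟨i, rfl⟩; exact h.tT i) h.QT

theorem EE_le_H (h : In0 H T Q V J N d t r) : EE t Q ≤ H := h.EE_le_T.trans h.TH

theorem Q_sim (h : In0 H T Q V J N d t r) {x : G} (hx : x ∈ Q) : Sim V x 1 := fun v hv => by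
  rw [h.VcQ x hx v hv]; group

/-- The action of an element of `EE` on `V`, as a product of `t i`. -/
theorem EE_induction (h : In0 H T Q V J N d t r) {P : G → Prop} (h1 : P 1)
    (ht : ∀ i x, x ∈ EE t Q → P x → P (t i * x))
    (hs : ∀ x y, x ∈ EE t Q → y ∈ EE t Q → Sim V x y → P x → P y) {x : G} (hx : x ∈ EE t Q) :
    P x := by
  obtain ⟨a, ha, b, hb, rfl⟩ := mem_sup_norm (B := Q) (A := closure (Set.range t)) (by
    intro y hy
    have hyH : y ∈ H := h.EE_le_H (mem_sup_left hy)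
    rw [mem_normalizer_iff]
    intro z
    refine ⟨fun hz => h.Qn y hyH z hz, fun hz => ?_⟩
    have := h.Qn y⁻¹ (inv_mem hyH) _ hz
    have e : y⁻¹ * (y * z * y⁻¹) * y⁻¹⁻¹ = z := by group
    rwa [e] at this) hx
  have hQV : Sim V (a * b) a := by
    have h2 := (h.Q_sim hb).mul_left a
    rwa [mul_one] at h2
  have haE : a ∈ EE t Q := mem_sup_left ha
  refine hs a _ haE hx hQV.symm ?_
  clear hQV hx
  induction ha using closure_induction_left with
  | one => exact h1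
  | mul_left x hx y hy ih =>
    obtain ⟨i, rfl⟩ := hx
    exact ht i y (mem_sup_left hy) (ih (mem_sup_left hy))
  | inv_mul_cancel x hx y hy ih =>
    obtain ⟨i, rfl⟩ := hx
    have hyE : y ∈ EE t Q := mem_sup_left hy
    have h3 : Sim V (t i * y) ((t i)⁻¹ * y) := by
      have h4 : Sim V (t i * t i * y) (1 * y) :=
        (h.tsq i).mul_right (h.Vn y (h.EE_le_H hyE))
      have h5 := h4.mul_left (t i)⁻¹
      have e1 : (t i)⁻¹ * (t i * t i * y) = t i * y := by group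
      rwa [e1, one_mul] at h5
    exact hs _ _ (mul_mem (t_EE i) hyE) (mul_mem (inv_mem (t_EE i)) hyE) h3 (ht i y hyE (ih hyE))

theorem EE_good (h : In0 H T Q V J N d t r) {x : G} (hx : x ∈ EE t Q) : Good V N d t r x := by
  refine h.EE_induction (P := Good V N d t r) ?_ ?_ ?_ hx
  · exact ⟨fun j => by group, fun j => Or.inl fun v _ => by group, fun v _ => by
      have e : (1 : G) * v * 1⁻¹ * v⁻¹ = 1 := by group
      rw [e]; exact one_mem _, fun j => Or.inl (by rw [one_mul, mul_one]; exact Sim.rfl')⟩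
  · intro i x hxE hx
    have hxH := h.EE_le_H hxE
    refine ⟨fun j => ?_, fun j => ?_, fun v hv => ?_, fun j => ?_⟩
    · have e : t i * x * d j * (t i * x)⁻¹ = t i * (x * d j * x⁻¹) * (t i)⁻¹ := by group
      rw [e, hx.fixd j, h.t_d' j i]
    · by_cases hij : j = i
      · subst hij
        rcases hx.actN j with h1 | h1
        · refine Or.inr fun v hv => ?_
          have e : t j * x * v * (t j * x)⁻¹ = t j * (x * v * x⁻¹) * (t j)⁻¹ := by group
          rw [e, h1 v hv]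
        · refine Or.inl fun v hv => ?_
          have e : t j * x * v * (t j * x)⁻¹ = t j * (x * v * x⁻¹) * (t j)⁻¹ := by group
          rw [e, h1 v hv]
          have e2 : t j * (t j * v * (t j)⁻¹) * (t j)⁻¹ = t j * t j * v * (t j * t j)⁻¹ := by group
          rw [e2, h.tsq j v (h.NV j hv)]; group
      · rcases hx.actN j with h1 | h1
        · refine Or.inl fun v hv => ?_
          have e : t i * x * v * (t i * x)⁻¹ = t i * (x * v * x⁻¹) * (t i)⁻¹ := by group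
          rw [e, h1 v hv, h.t_N' hij hv]
        · refine Or.inr fun v hv => ?_
          have e : t i * x * v * (t i * x)⁻¹ = t i * (x * v * x⁻¹) * (t i)⁻¹ := by group
          rw [e, h1 v hv, h.t_N' hij (h.t_N j hv)]
    · have h1 := hx.comm v hv
      have hw : x * v * x⁻¹ ∈ V := h.Vn x hxH v hv
      have e : t i * x * v * (t i * x)⁻¹ * v⁻¹ =
        (t i * (x * v * x⁻¹) * (t i)⁻¹ * (x * v * x⁻¹)⁻¹) * (x * v * x⁻¹ * v⁻¹) := by group
      rw [e]
      refine mul_mem ?_ h1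
      rcases h.t_comm i _ hw with h2 | h2
      · rw [h2, mul_inv_cancel]; exact one_mem _
      · rw [h2, mul_inv_cancel_right]; exact subset_closure ⟨i, rfl⟩
    · have hrN := h.Vn _ (h.rH j)
      -- `t i * (x * r j)`
      rcases hx.actr j with h1 | h1
      · have h2 : Sim V (t i * x * r j) (t i * r j * x) := by
          have := h1.mul_left (t i)
          rwa [← mul_assoc, ← mul_assoc] at this
        by_cases hij : j = i
        · subst hij
          refine Or.inr (h2.trans ?_)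
          have := (h.tr j).mul_right (h.Vn x hxH)
          rwa [mul_assoc ((r j)⁻¹)] at this
        · refine Or.inl (h2.trans ?_)
          have := (h.tr' j i hij).mul_right (h.Vn x hxH)
          rwa [mul_assoc (r j)] at this
      · have h2 : Sim V (t i * x * r j) (t i * (r j)⁻¹ * x) := by
          have := h1.mul_left (t i)
          rwa [← mul_assoc, ← mul_assoc] at this
        have hriV := h.Vn _ (inv_mem (h.rH j))
        by_cases hij : j = i
        · subst hij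
          refine Or.inl (h2.trans ?_)
          -- `t r⁻¹ ~ r t`
          have h3 : Sim V (t j * (r j)⁻¹) (r j * t j) := by
            have h4 := ((h.tr j).mul_left (r j)).mul_right hriV
            have e1 : r j * (t j * r j) * (r j)⁻¹ = r j * t j := by group
            have e2 : r j * ((r j)⁻¹ * t j) * (r j)⁻¹ = t j * (r j)⁻¹ := by group
            rw [e1, e2] at h4
            exact h4.symm
          have := h3.mul_right (h.Vn x hxH)
          rwa [mul_assoc (r j)] at this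
        · refine Or.inr (h2.trans ?_)
          have h3 : Sim V (t i * (r j)⁻¹) ((r j)⁻¹ * t i) := by
            have h4 := ((h.tr' j i hij).mul_left (r j)⁻¹).mul_right hriV
            have e1 : (r j)⁻¹ * (t i * r j) * (r j)⁻¹ = (r j)⁻¹ * t i := by group
            have e2 : (r j)⁻¹ * (r j * t i) * (r j)⁻¹ = t i * (r j)⁻¹ := by group
            rw [e1, e2] at h4
            exact h4.symm
          have := h3.mul_right (h.Vn x hxH)
          rwa [mul_assoc ((r j)⁻¹)] at this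
  · intro x y hxE hyE hxy hx
    have hxH := h.EE_le_H hxE
    refine ⟨fun j => ?_, fun j => ?_, fun v hv => ?_, fun j => ?_⟩
    · rw [← hxy _ (h.dV j), hx.fixd j]
    · rcases hx.actN j with h1 | h1
      · exact Or.inl fun v hv => by rw [← hxy _ (h.NV j hv), h1 v hv]
      · exact Or.inr fun v hv => by rw [← hxy _ (h.NV j hv), h1 v hv]
    · rw [← hxy v hv]; exact hx.comm v hv
    · have hrN := h.Vn _ (h.rH j)
      rcases hx.actr j with h1 | h1
      · exact Or.inl (((hxy.mul_right hrN).symm.trans h1).trans (hxy.mul_left _))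
      · exact Or.inr (((hxy.mul_right hrN).symm.trans h1).trans (hxy.mul_left _))

theorem EE_sq (h : In0 H T Q V J N d t r) {x : G} (hx : x ∈ EE t Q) {v : G} (hv : v ∈ V) :
    x * x * v * (x * x)⁻¹ = v := by
  have hg := h.EE_good hx
  have h1 := hg.comm v hv
  have h2 : ∀ y ∈ closure (Set.range d), x * y * x⁻¹ = y := by
    intro y hy
    induction hy using closure_induction with
    | mem y hy => obtain ⟨j, rfl⟩ := hy; exact hg.fixd j
    | one => group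
    | mul a b _ _ ha hb =>
      have e : x * (a * b) * x⁻¹ = (x * a * x⁻¹) * (x * b * x⁻¹) := by group
      rw [e, ha, hb]
    | inv a _ ha =>
      have e : x * a⁻¹ * x⁻¹ = (x * a * x⁻¹)⁻¹ := by group
      rw [e, ha]
  have h3 := h2 _ h1
  have hcV : x * v * x⁻¹ * v⁻¹ ∈ V := h.D_le_V h1
  have e1 : x * x * v * (x * x)⁻¹ = x * (x * v * x⁻¹ * v⁻¹) * x⁻¹ * (x * v * x⁻¹ * v⁻¹) * v := by
    group
  rw [e1, h3, h.mulself hcV, one_mul]

/-- A conjugate of `J(T)` and `T` generate `H`. -/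
theorem max' (h : In0 H T Q V J N d t r) (i : ι) {X : Subgroup G} (hT : T ≤ X) (hX : X ≤ H)
    (hx : r i * t i * (r i)⁻¹ ∈ X) : H ≤ X := by
  refine h.max X hT hX i ⟨(r i * t i * (r i)⁻¹ * (t i)⁻¹) * (r i * t i * (r i)⁻¹ * (t i)⁻¹),
    mul_mem (mul_mem hx (inv_mem (hT (h.tT i)))) (mul_mem hx (inv_mem (hT (h.tT i)))), ?_⟩
  have hrV := h.Vn _ (h.rH i)
  have hriV := h.Vn _ (inv_mem (h.rH i))
  have htV := h.Vn _ (h.tH i)
  have htiV := h.Vn _ (inv_mem (h.tH i))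
  -- `t r⁻¹ ~ r t`
  have h3 : Sim V (t i * (r i)⁻¹) (r i * t i) := by
    have h4 := ((h.tr i).mul_left (r i)).mul_right hriV
    have e1 : r i * (t i * r i) * (r i)⁻¹ = r i * t i := by group
    have e2 : r i * ((r i)⁻¹ * t i) * (r i)⁻¹ = t i * (r i)⁻¹ := by group
    rw [e1, e2] at h4
    exact h4.symm
  have h4 : Sim V (r i * t i * (r i)⁻¹ * (t i)⁻¹) (r i * r i) := by
    have h5 := (h3.mul_left (r i)).mul_right htiV
    have e1 : r i * (t i * (r i)⁻¹) * (t i)⁻¹ = r i * t i * (r i)⁻¹ * (t i)⁻¹ := by group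
    have e2 : r i * (r i * t i) * (t i)⁻¹ = r i * r i := by group
    rwa [e1, e2] at h5
  have h5 : Sim V ((r i * t i * (r i)⁻¹ * (t i)⁻¹) * (r i * t i * (r i)⁻¹ * (t i)⁻¹))
      (r i * r i * (r i * r i)) := h4.mul (fun v hv => h.Vn _ (mul_mem (mul_mem (mul_mem (h.rH i)
        (h.tH i)) (inv_mem (h.rH i))) (inv_mem (h.tH i))) v hv) h4
  refine h5.trans ?_
  have h6 := (h.r3 i).mul_right hrV
  rw [one_mul] at h6
  have e : r i * r i * (r i * r i) = r i * r i * r i * r i := by group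
  rwa [e]

theorem d_J (h : In0 H T Q V J N d t r) (i : ι) : ∀ y ∈ J, y * d i = d i * y := fun y hy => by
  have h1 := (h.EE_good (h.Jt hy)).fixd i
  calc y * d i = (y * d i * y⁻¹) * y := by group
    _ = _ := by rw [h1]

end In0

/-! ### `Z` and `B` -/

/-- `B = C_T(Z)` -/
def BB (T Z : Subgroup G) : Subgroup G := T ⊓ centralizer (Z : Set G)

/-- `Y = Z V` -/
def YY (Z V : Subgroup G) : Subgroup G := Z ⊔ V

theorem mem_BB {T Z : Subgroup G} {x : G} : x ∈ BB T Z ↔ x ∈ T ∧ ∀ z ∈ Z, z * x = x * z := by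
  rw [BB, mem_inf, mem_centralizer_iff]; rfl

theorem BB_le (T Z : Subgroup G) : BB T Z ≤ T := inf_le_left

theorem Z_le_Y (Z V : Subgroup G) : Z ≤ YY Z V := le_sup_left

theorem V_le_Y (Z V : Subgroup G) : V ≤ YY Z V := le_sup_right

/-- Input of the Baumann argument for `q = 2`, with `J`, `Z` in place of `J(T)`, `Ω₁(Z(J(T)))`. -/
structure In (H T Q V J Z : Subgroup G) {ι : Type w} (N : ι → Subgroup G) (d t r : ι → G) : Prop
    extends In0 H T Q V J N d t r where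
  ZT : Z ≤ T
  Zcomm : ∀ x ∈ Z, ∀ y ∈ Z, x * y = y * x
  Zsq : ∀ x ∈ Z, x ^ 2 = 1
  JZ : ∀ z ∈ Z, ∀ j ∈ J, j * z = z * j
  Zn : ∀ x ∈ T, ∀ z ∈ Z, x * z * x⁻¹ ∈ Z
  ZcV : ∀ z ∈ Z, ∀ v ∈ V, z * v = v * z
  V1Z : ∀ v ∈ V, (∀ j ∈ J, j * v = v * j) → v ∈ Z
  Y_norm : ∀ g ∈ H, ∀ y ∈ YY Z V, g * y * g⁻¹ ∈ YY Z V

namespace In

variable {H T Q V J Z : Subgroup G} {ι : Type w} {N : ι → Subgroup G} {d t r : ι → G}

theorem le_BB (h : In H T Q V J Z N d t r) : J ≤ BB T Z := fun x hx =>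
  mem_BB.2 ⟨h.JT hx, fun z hz => (h.JZ z hz x hx).symm⟩

theorem Zel (h : In H T Q V J Z N d t r) : IsElementaryAbelian 2 Z := isElementaryAbelian_iff.2 ⟨h.Zcomm, h.Zsq⟩

theorem Z_le_Q (h : In H T Q V J Z N d t r) : Z ≤ Q := fun z hz => h.cT (h.ZT hz) fun v hv => h.ZcV z hz v hv

theorem mem_Y (h : In H T Q V J Z N d t r) {y : G} (hy : y ∈ YY Z V) :
    ∃ z ∈ Z, ∃ v ∈ V, y = z * v := mem_sup_comm h.ZcV hy

theorem Y_le_Q (h : In H T Q V J Z N d t r) : YY Z V ≤ Q := sup_le h.Z_le_Q h.VQ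

theorem Y_elem (h : In H T Q V J Z N d t r) : IsElementaryAbelian 2 (YY Z V) :=
  isElementaryAbelian_sup h.Zel h.Velem
    fun v hv => mem_centralizer_iff.2 fun z hz => h.ZcV z hz v hv

theorem d_mem_Z (h : In H T Q V J Z N d t r) (i : ι) : d i ∈ Z := h.V1Z _ (h.dV i) (h.d_J i)

theorem D_le_Z (h : In H T Q V J Z N d t r) : closure (Set.range d) ≤ Z := by
  rw [closure_le]
  rintro _ ⟨j, rfl⟩
  exact h.d_mem_Z j

theorem t_bau (h : In H T Q V J Z N d t r) (i : ι) : t i ∈ BB T Z := h.le_BB (h.tJ i)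

theorem bau_EE (h : In H T Q V J Z N d t r) : BB T Z ≤ In0.EE t Q := fun b hb =>
  h.field b (BB_le T Z hb) fun v hv hc => ((mem_BB.1 hb).2 v (h.V1Z v hv hc)).symm

theorem bau_H (h : In H T Q V J Z N d t r) : BB T Z ≤ H := (BB_le T Z).trans h.TH

theorem T_bau (h : In H T Q V J Z N d t r) {x b : G} (hx : x ∈ T) (hb : b ∈ BB T Z) : x * b * x⁻¹ ∈ BB T Z := by
  refine mem_BB.2 ⟨mul_mem (mul_mem hx (BB_le T Z hb)) (inv_mem hx), fun z hz => ?_⟩
  have hz' : x⁻¹ * z * x ∈ Z := by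
    have := h.Zn x⁻¹ (inv_mem hx) z hz
    rwa [inv_inv] at this
  have h1 := (mem_BB.1 hb).2 _ hz'
  calc z * (x * b * x⁻¹) = x * ((x⁻¹ * z * x) * b) * x⁻¹ := by group
    _ = x * (b * (x⁻¹ * z * x)) * x⁻¹ := by rw [h1]
    _ = _ := by group

/-- `Q* = B ∩ Q = C_T(Y)`. -/
theorem mem_star_iff (h : In H T Q V J Z N d t r) {x : G} :
    x ∈ BB T Z ⊓ Q ↔ x ∈ T ∧ ∀ y ∈ YY Z V, x * y = y * x := by
  constructor
  · rintro ⟨h1, h2⟩
    refine ⟨BB_le T Z h1, fun y hy => ?_⟩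
    obtain ⟨z, hz, v, hv, rfl⟩ := h.mem_Y hy
    have e1 : z * x = x * z := (mem_BB.1 h1).2 z hz
    have e2 : x * v = v * x := h.VcQ x h2 v hv
    calc x * (z * v) = (x * z) * v := by group
      _ = z * (x * v) := by rw [← e1]; group
      _ = z * v * x := by rw [e2]; group
  · rintro ⟨h1, h2⟩
    exact ⟨mem_BB.2 ⟨h1, fun z hz => (h2 z (Z_le_Y Z V hz)).symm⟩,
      h.cT h1 fun v hv => h2 v (V_le_Y Z V hv)⟩

/-- `Q* = B ∩ Q` is normal in `H`. -/
theorem star_norm (h : In H T Q V J Z N d t r) :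
    ∀ g ∈ H, ∀ x ∈ BB T Z ⊓ Q, g * x * g⁻¹ ∈ BB T Z ⊓ Q := by
  intro g hg x hx
  have h1 := h.mem_star_iff.1 hx
  refine h.mem_star_iff.2 ⟨h.QT (h.Qn g hg x hx.2), fun y hy => ?_⟩
  have hy' : g⁻¹ * y * g ∈ YY Z V := by
    have := h.Y_norm g⁻¹ (inv_mem hg) y hy
    rwa [inv_inv] at this
  have h2 := h1.2 _ hy'
  calc g * x * g⁻¹ * y = g * (x * (g⁻¹ * y * g)) * g⁻¹ := by group
    _ = g * ((g⁻¹ * y * g) * x) * g⁻¹ := by rw [h2]
    _ = y * (g * x * g⁻¹) := by group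

/-- `Q ≤ B` if `Z ≤ V` -/
theorem Q_le_B (h : In H T Q V J Z N d t r) (hZV : Z ≤ V) : Q ≤ BB T Z := fun x hx =>
  mem_BB.2 ⟨h.QT hx, fun z hz => (h.VcQ x hx z (hZV hz)).symm⟩

theorem VB (h : In H T Q V J Z N d t r) : V ≤ BB T Z := fun v hv =>
  mem_BB.2 ⟨h.QT (h.VQ hv), fun z hz => h.ZcV z hz v hv⟩

end In

/-! ### The case `Z = C_V(J)` -/

/-- `Z_J = C_V(J)` -/
def ZJ (V J : Subgroup G) : Subgroup G := V ⊓ centralizer (J : Set G)

theorem mem_ZJ {V J : Subgroup G} {x : G} : x ∈ ZJ V J ↔ x ∈ V ∧ ∀ y ∈ J, y * x = x * y := by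
  rw [ZJ, mem_inf, mem_centralizer_iff]; rfl

theorem ZJ_le (V J : Subgroup G) : ZJ V J ≤ V := inf_le_left

section

variable {H T Q V J : Subgroup G} {ι : Type w} {N : ι → Subgroup G} {d t r : ι → G}

theorem In0.T_ZJ (h : In0 H T Q V J N d t r) (Jn : ∀ x ∈ T, ∀ y ∈ J, x * y * x⁻¹ ∈ J) {x z : G} (hx : x ∈ T)
    (hz : z ∈ ZJ V J) : x * z * x⁻¹ ∈ ZJ V J := by
  refine mem_ZJ.2 ⟨h.Vn x (h.TH hx) z (ZJ_le V J hz), fun y hy => ?_⟩
  have hy' : x⁻¹ * y * x ∈ J := by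
    have := Jn x⁻¹ (inv_mem hx) y hy
    rwa [inv_inv] at this
  have h1 := (mem_ZJ.1 hz).2 _ hy'
  calc y * (x * z * x⁻¹) = x * ((x⁻¹ * y * x) * z) * x⁻¹ := by group
    _ = x * (z * (x⁻¹ * y * x)) * x⁻¹ := by rw [h1]
    _ = _ := by group

theorem In.of_ZJ (h : In0 H T Q V J N d t r) (Jn : ∀ x ∈ T, ∀ y ∈ J, x * y * x⁻¹ ∈ J) :
    In H T Q V J (ZJ V J) N d t r :=
  { h with
    ZT := (ZJ_le V J).trans (h.VQ.trans h.QT)
    Zcomm := fun x hx y hy => h.Vcomm x (ZJ_le V J hx) y (ZJ_le V J hy)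
    Zsq := fun x hx => h.Vsq x (ZJ_le V J hx)
    JZ := fun z hz j hj => (mem_ZJ.1 hz).2 j hj
    Zn := fun x hx z hz => h.T_ZJ Jn hx hz
    ZcV := fun z hz v hv => h.Vcomm z (ZJ_le V J hz) v hv
    V1Z := fun v hv hc => mem_ZJ.2 ⟨hv, hc⟩
    Y_norm := fun g hg y hy => by
      have e : YY (ZJ V J) V = V := sup_eq_right.2 (ZJ_le V J)
      rw [e] at hy ⊢
      exact h.Vn g hg y hy }

/-- **`Z V` is normal in `H`** if `Z = C_{Y₀}(J)`, `Y₀ ≥ V` is normal in `H` and `[Y₀, J] ≤ V`. -/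
theorem In0.norm_of (h : In0 H T Q V J N d t r) [Finite G] (i : ι) {Y₀ Z : Subgroup G}
    (hY : ∀ g ∈ H, ∀ y ∈ Y₀, g * y * g⁻¹ ∈ Y₀) (hJ : ∀ j ∈ J, ∀ y ∈ Y₀, j * y * j⁻¹ * y⁻¹ ∈ V) (hZY : Z ≤ Y₀)
    (Zn : ∀ x ∈ T, ∀ z ∈ Z, x * z * x⁻¹ ∈ Z) : ∀ g ∈ H, ∀ y ∈ YY Z V, g * y * g⁻¹ ∈ YY Z V := by
  let M : Subgroup G := H ⊓ normalizer ((YY Z V : Subgroup G) : Set G)
  have hTN : T ≤ M := by
    intro t ht
    refine ⟨h.TH ht, mem_normalizer_of_cj_le ?_⟩
    rw [cj, YY, Subgroup.map_sup]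
    refine sup_le ?_ ?_
    · rintro _ ⟨z, hz, rfl⟩
      exact Z_le_Y Z V (Zn t ht z hz)
    · rintro _ ⟨v, hv, rfl⟩
      exact V_le_Y Z V (h.Vn t (h.TH ht) v hv)
  have hx : r i * t i * (r i)⁻¹ ∈ M := by
    have hg := h.rH i
    have hj := h.tJ i
    have hxH : r i * t i * (r i)⁻¹ ∈ H := mul_mem (mul_mem hg (h.tH i)) (inv_mem hg)
    refine ⟨hxH, mem_normalizer_of_cj_le ?_⟩
    rw [cj, YY, Subgroup.map_sup]
    refine sup_le ?_ ?_
    · rintro _ ⟨z, hz, rfl⟩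
      simp only [MulEquiv.toMonoidHom_eq_coe, MonoidHom.coe_coe, MulAut.conj_apply]
      have hz1 : (r i)⁻¹ * z * r i ∈ Y₀ := by
        have := hY _ (inv_mem hg) z (hZY hz)
        rwa [inv_inv] at this
      have h2 := h.Vn _ hg _ (hJ _ hj _ hz1)
      have e : r i * t i * (r i)⁻¹ * z * (r i * t i * (r i)⁻¹)⁻¹ =
        r i * (t i * ((r i)⁻¹ * z * r i) * (t i)⁻¹ * ((r i)⁻¹ * z * r i)⁻¹) * (r i)⁻¹ * z := by group
      rw [e]
      exact mul_mem (V_le_Y Z V h2) (Z_le_Y Z V hz)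
    · rintro _ ⟨v, hv, rfl⟩
      exact V_le_Y Z V (h.Vn _ hxH v hv)
  have hH := h.max' i hTN inf_le_left hx
  exact fun g hg y hy => (mem_normalizer_iff.1 (hH hg).2 y).1 hy

end

end Cfsg.Agent.Omega.OM.Lev.SIn
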